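/- Tower E8F (row S5920): the slot Kempf. -/
import Cfsg.Agent.H40.E8FKit

set_option autoImplicit false
set_option linter.unusedSectionVars false

namespace H99.E8K

open Cfsg.Lie H63 H64 H65 H46 Matrix H40.E8F

variable {D : ChevalleyDatum} [RS D] {μ : Rt D → ℝ}

theorem mu_nonneg (hμ : Lin μ) (hd : ∀ i, 0 ≤ μ (simpleR i)) {r : Rt D} (hr : Pos r) : 0 ≤ μ r := by
  rw [hμ]
  exact Finset.sum_nonneg fun i _ => mul_nonneg (Int.cast_nonneg (hr i)) (hd i)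

theorem mu_nonpos (hμ : Lin μ) (hd : ∀ i, 0 ≤ μ (simpleR i)) {r : Rt D} (hr : ¬ Pos r) : μ r ≤ 0 := by
  rw [hμ]
  exact Finset.sum_nonpos fun i _ => mul_nonpos_of_nonpos_of_nonneg
    (by exact_mod_cast not_pos_iff.1 hr i) (hd i)

theorem mem_WJ (hμ : Lin μ) (hd : ∀ i, 0 ≤ μ (simpleR i)) {w : (H64.wdata D).W}
    (h : ∀ r, μ (w.1 r) = μ r) : w ∈ (H64.wdata D).WJ {i | μ (simpleR i) = 0} := by
  refine (H64.wdata D).mem_WJ_of_Inv_subset w fun r hr => H64.mem_PhiJ_iff.2 fun i hi => ?_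
  have h0 : μ r = 0 := le_antisymm (h r ▸ mu_nonpos hμ hd hr.2) (mu_nonneg hμ hd hr.1)
  rw [hμ, Finset.sum_eq_zero_iff_of_nonneg fun i _ => mul_nonneg (Int.cast_nonneg (hr.1 i)) (hd i)] at h0
  exact_mod_cast (mul_eq_zero.1 (h0 i (Finset.mem_univ i))).resolve_right hi

variable [Tab D] [Comm D] {k : Type} [Field k]

theorem PJ_le (hμ : Lin μ) (hd : ∀ i, 0 ≤ μ (simpleR i)) :
    (stB_xU D k).rgd.PJ {i | μ (simpleR i) = 0} ≤ PP k μ := by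
  rw [RGD.PJ_eq_gen]
  refine sup_le le_sup_right ((gen_mono _ ?_).trans le_sup_left)
  rintro r (hr | hr)
  · exact mu_nonneg hμ hd hr
  · show 0 ≤ μ r
    rw [hμ]
    refine (Finset.sum_eq_zero fun i _ => ?_).ge
    by_cases hi : μ (simpleR i) = 0
    · rw [hi, mul_zero]
    · rw [H64.mem_PhiJ_iff.1 hr i hi, Int.cast_zero, zero_mul]

theorem jobKempf (hO : JobOpt) : JobKempf := by
  intro D _ _ _ k _ v ⟨g1, hg1, b1, n1⟩
  obtain ⟨_, ⟨g₀, hg₀, n0, rfl⟩, μ, hμ, hd, h1, h2⟩ := hO D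
    {S | ∃ g ∈ D.group k, NoH (act g v) ∧ S = {r | act g v (Sum.inr r) ≠ 0}}
    ⟨_, ⟨g1, hg1, n1, rfl⟩, fun r hr => by_contra fun h => hr (b1 r h)⟩ (by
      rintro _ ⟨g, hg, n, rfl⟩ w
      obtain ⟨m, hm, hw⟩ := (stB_xU D k).rgd.exists_mem_N_act w
      obtain ⟨⟨a, ha, e1⟩, e2, -⟩ := jobN D k m w hm hw
      refine ⟨m * g, mul_mem (N_le_group hm) hg, ?_, ?_⟩
      · rw [noH_iff, act_mul, e2, noH_iff.1 n]
        exact mulVec_zero _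
      · ext r
        obtain ⟨s, rfl⟩ := w.1.surjective r
        rw [w.1.injective.mem_set_image, Set.mem_setOf_eq, Set.mem_setOf_eq, act_mul, e1]
        simp [ha s])
  have G0 : Ge μ (act g₀ v) := ⟨n0, h1⟩
  refine ⟨g₀, hg₀, μ, hμ, hd, G0, fun g hg G1 => PJ_le hμ hd ?_⟩
  have BP : (stB_xU D k).rgd.B ≤ PP k μ := ((stB_xU D k).rgd.B_le_PJ _).trans (PJ_le hμ hd)
  obtain ⟨w, hc⟩ := (stB_xU D k).rgd.exists_cell (group_eq_Gp (D := D) (k := k) ▸ mul_mem hg (inv_mem hg₀))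
  refine (stB_xU D k).rgd.mem_PJ_iff.2 ⟨w, mem_WJ hμ hd ?_, hc⟩
  obtain ⟨b, hb, m, hm, b', hb', hw, e⟩ := hc
  have G2 : Ge μ (act (b' * g₀) v) := by
    rw [act_mul]
    exact act_PP hμ (BP hb') G0
  have G3 : Ge μ (act m (act (b' * g₀) v)) := by
    rw [← act_mul, show m * (b' * g₀) = b⁻¹ * g by
      rw [show g = b * m * b' * g₀ by rw [← e]; group]; group, act_mul]
    exact act_PP hμ (BP (inv_mem hb)) G1
  obtain ⟨⟨a, ha, e1⟩, -, -⟩ := jobN D k m w hm hw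
  exact h2 _ ⟨b' * g₀, mul_mem (B_le_group hb') hg₀, G2.1, rfl⟩ w fun r hr =>
    ⟨G2.2 r hr, G3.2 _ (by rw [e1]; exact mul_ne_zero (ha r) hr)⟩

end H99.E8K
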