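import Cfsg.Agent.H99.WrSpecO

/-! STD-H, section 9: shared lemmas. -/

set_option autoImplicit false
open Subgroup Cfsg H98 H1.Gold

universe u

namespace H99.Wr

variable {G : Type u} [Group G]

theorem exists_odd_pow [Finite G] (n : G) : ∃ m, Odd m ∧ ∃ k, (n ^ m) ^ 2 ^ k = 1 := by
  obtain ⟨k, m, hm, e⟩ := Nat.exists_eq_two_pow_mul_odd (orderOf_pos n).ne'
  exact ⟨m, hm, k, by rw [← pow_mul, mul_comm, ← e, pow_orderOf_eq_one]⟩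

/-- a subgroup inside a union of two subgroups -/
theorem le_or_le {K A B : Subgroup G} (h : ∀ x ∈ K, x ∈ A ∨ x ∈ B) : K ≤ A ∨ K ≤ B := by
  by_contra hc
  rw [not_or, SetLike.not_le_iff_exists, SetLike.not_le_iff_exists] at hc
  obtain ⟨⟨a, ha, h1⟩, b, hb, h2⟩ := hc
  rcases h _ (K.mul_mem ha hb) with e | e
  · exact h2 ((h b hb).resolve_left fun e' => h1 (by simpa using A.mul_mem e (A.inv_mem e')))
  · exact h1 ((h a ha).resolve_right fun e' => h2 (by simpa using B.mul_mem (B.inv_mem e') e))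

namespace Sy
variable {S E E' : Subgroup G} (h : Sy S E E')
include h

theorem symm : Sy S E' E :=
  ⟨h.two, h.E'S, h.ES, h.SN', h.SN, h.el', h.el, h.cE', h.cE, inf_comm E E' ▸ h.cZ, h.cS,
    fun e he e' he' c => (h.nc e' he' e he c.symm).symm,
    inf_comm E E' ▸ sup_comm E E' ▸ h.cenZ, sup_comm E E' ▸ h.inv⟩

theorem cj (g : G) : Sy (cj g S) (cj g E) (cj g E') where
  two := isPGroup_cj g h.two
  ES := cj_mono g h.ES
  E'S := cj_mono g h.E'S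
  SN := (cj_mono g h.SN).trans (cj_normalizer _ _).le
  SN' := (cj_mono g h.SN').trans (cj_normalizer _ _).le
  el := h.el.cj g
  el' := h.el'.cj g
  cE := (card_cj _ _).trans h.cE
  cE' := (card_cj _ _).trans h.cE'
  cZ := by rw [← cj_inf, card_cj, h.cZ]
  cS := (card_cj _ _).trans h.cS
  nc := by
    rintro _ ⟨e, he, rfl⟩ _ ⟨e', he', rfl⟩ c
    exact (h.nc e he e' he' (by simpa using c)).imp conj_mem_cj conj_mem_cj
  cenZ := by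
    rw [← cj_inf, ← cj_sup]
    refine le_trans ?_ (cj_mono g h.cenZ)
    rw [cj_inf g S]
    exact inf_le_inf_left _ (cj_centralizer _ _).ge
  inv := by
    obtain ⟨s, h1, h2, h3⟩ := h.inv
    refine ⟨_, conj_mem_cj h1, ?_, by rwa [← cj_sup, conj_mem_cj_iff]⟩
    calc _ = g * (s * s) * g⁻¹ := by group
      _ = 1 := by rw [h2]; group

theorem ne : E ≠ E' := fun e => by
  have h1 := h.cZ
  rw [← e, inf_idem, h.cE] at h1
  omega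

theorem J_le : E ⊔ E' ≤ S := sup_le h.ES h.E'S

theorem nor_J : S ≤ nor (E ⊔ E') := le_normalizer_sup h.SN h.SN'

theorem nor_Z : S ≤ nor (E ⊓ E') := le_normalizer_inf h.SN h.SN'

theorem mem_J {x : G} : x ∈ E ⊔ E' ↔ ∃ e ∈ E, ∃ e' ∈ E', x = e * e' :=
  mem_sup_left_norm (h.ES.trans h.SN')

theorem comm_mem {e e' : G} (he : e ∈ E) (he' : e' ∈ E') : e * e' * (e * e') ∈ E ⊓ E' := by
  refine ⟨?_, ?_⟩
  · have := E.mul_mem he (conj_mem_of_mem_normalizer (h.SN (h.E'S he')) he)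
    rwa [inv_of_sq (h.el' _ he'), ← mul_assoc, ← mul_assoc, mul_assoc (e * e')] at this
  · have := E'.mul_mem (conj_mem_of_mem_normalizer (h.SN' (h.ES he)) he') he'
    rwa [inv_of_sq (h.el _ he), mul_assoc (e * e')] at this

theorem comm_of_sq {e e' : G} (he : e ∈ E) (he' : e' ∈ E') (h2 : e * e' * (e * e') = 1) :
    e * e' = e' * e := by
  rw [← inv_of_sq h2, mul_inv_rev, inv_of_sq (h.el _ he), inv_of_sq (h.el' _ he')]

/-- the involutions of `J` lie in `E ∪ E'` -/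
theorem inv_J {x : G} (hx : x ∈ E ⊔ E') (h2 : x * x = 1) : x ∈ E ∨ x ∈ E' := by
  obtain ⟨e, he, e', he', rfl⟩ := h.mem_J.1 hx
  rcases h.nc e he e' he' (h.comm_of_sq he he' h2) with e1 | e1
  exacts [Or.inr (E'.mul_mem e1 he'), Or.inl (E.mul_mem he e1)]

theorem el_J {A : Subgroup G} (hA : A ≤ E ⊔ E') (he : El A) : A ≤ E ∨ A ≤ E' :=
  le_or_le fun x hx => h.inv_J (hA hx) (he x hx)

theorem Z_cen : E ⊓ E' ≤ cen (E ⊔ E') := fun z hz => by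
  show z ∈ centralizer _
  rw [centralizer_sup]
  exact ⟨h.el.le_cen hz.1, h.el'.le_cen hz.2⟩

theorem J_cen : E ⊔ E' ≤ cen (E ⊓ E') :=
  fun x hx => mem_cen.2 fun z hz => (mem_cen.1 (h.Z_cen hz) x hx).symm

theorem exists_not : ∃ e ∈ E, e ∉ E' := by
  by_contra hc
  push Not at hc
  have h1 := h.cZ
  rw [inf_eq_left.2 hc, h.cE] at h1
  omega

theorem not_cen : ¬ E ≤ cen E' := fun hc => by
  obtain ⟨e, he, h1⟩ := h.exists_not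
  obtain ⟨e', he', h2⟩ := h.symm.exists_not
  exact (h.nc e he e' he' (mem_cen.1 (hc he) e' he').symm).elim h1 h2

/-- `C_J(E) = E` -/
theorem cen_E {x : G} (hx : x ∈ E ⊔ E') (hc : x ∈ cen E) : x ∈ E := by
  obtain ⟨e, he, e', he', rfl⟩ := h.mem_J.1 hx
  obtain ⟨a, ha, h1⟩ := h.exists_not
  have h2 : e' ∈ cen E := by simpa using (cen E).mul_mem ((cen E).inv_mem (h.el.le_cen he)) hc
  exact E.mul_mem he ((h.nc a ha e' he' (mem_cen.1 h2 a ha)).resolve_left h1)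

/-- `C_S(E) = E` -/
theorem cen_S {x : G} (hx : x ∈ S) (hc : x ∈ cen E) : x ∈ E :=
  h.cen_E (h.cenZ ⟨hx, centralizer_anti inf_le_left hc⟩) hc

theorem card_J [Finite G] : Nat.card ↥(E ⊔ E') = 64 := by
  have h1 := card_sup_mul_card_inf_of_le_normalizer (h.ES.trans h.SN')
  rw [h.cZ, h.cE, h.cE'] at h1
  omega

theorem relIndex_J [Finite G] : (E ⊔ E').relIndex S = 2 := by
  have h1 := card_mul_index ((E ⊔ E').subgroupOf S)
  rw [Nat.card_congr (subgroupOfEquivOfLe h.J_le).toEquiv, h.card_J, h.cS] at h1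
  rw [relIndex]; omega

theorem mul_mem_J [Finite G] {a b : G} (ha : a ∈ S) (hb : b ∈ S) :
    a * b ∈ E ⊔ E' ↔ (a ∈ E ⊔ E' ↔ b ∈ E ⊔ E') :=
  mul_mem_iff_of_index_two (H := (E ⊔ E').subgroupOf S) h.relIndex_J (a := ⟨a, ha⟩) (b := ⟨b, hb⟩)

end Sy

theorem Wp.half_inf {t : G} {A B R R' : Subgroup G} (h : Wp t A B) (hR : R ≤ B) (hR' : R' ≤ B) :
    half t A (R ⊓ R') = half t A R ⊓ half t A R' := by
  ext a
  rw [mem_inf (p := half t A R), h.mem_half hR, h.mem_half hR', h.mem_half (inf_le_left.trans hR),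
    mem_inf]
  tauto

theorem Wp.half_sup {t : G} {A B R R' : Subgroup G} (h : Wp t A B) (hR : R ≤ B) (hR' : R' ≤ B) :
    half t A (R ⊔ R') = half t A R ⊔ half t A R' := by
  refine le_antisymm ?_ (sup_le (inf_le_inf_left _ (sup_le_sup_right le_sup_left _))
    (inf_le_inf_left _ (sup_le_sup_right le_sup_right _)))
  obtain ⟨K, hK, e, h1⟩ := h.exists_diag (K := half t A R ⊔ half t A R')
    (sup_le inf_le_left inf_le_left)
  rw [← e]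
  refine inf_le_inf_left _ (sup_le_sup_right (sup_le (fun s hs => ?_) fun s hs => ?_) _)
  · obtain ⟨a, ha, rfl⟩ := ((h.half_wp hR).diag s).1 hs
    exact (h1 _).2 ⟨a, mem_sup_left ha, rfl⟩
  · obtain ⟨a, ha, rfl⟩ := ((h.half_wp hR').diag s).1 hs
    exact (h1 _).2 ⟨a, mem_sup_right ha, rfl⟩

theorem Wp.el_half' {t : G} {A B R : Subgroup G} (h : Wp t A B) (hR : R ≤ B) (he : El R) :
    El (half t A R) := h.el_half (hR.trans h.B_le) he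

theorem Wp.sy [Finite G] {t : G} {A S E E' : Subgroup G} (h : Wp t A S) (hA : IsPGroup 2 A)
    (hS : Sy S E E') : Sy A (half t A E) (half t A E') where
  two := hA
  ES := inf_le_left
  E'S := inf_le_left
  SN := h.nor_half hS.ES hS.SN
  SN' := h.nor_half hS.E'S hS.SN'
  el := h.el_half' hS.ES hS.el
  el' := h.el_half' hS.E'S hS.el'
  cE := (h.half_wp hS.ES).card_eq.trans hS.cE
  cE' := (h.half_wp hS.E'S).card_eq.trans hS.cE'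
  cZ := by
    rw [← h.half_inf hS.ES hS.E'S, (h.half_wp (inf_le_left.trans hS.ES)).card_eq, hS.cZ]
  cS := h.card_eq.trans hS.cS
  nc := fun e he e' he' c => by
    rw [h.mem_half hS.ES, h.mem_half hS.E'S]
    exact (hS.nc _ ((h.mem_half hS.ES).1 he).2 _ ((h.mem_half hS.E'S).1 he').2
      (by rw [← h.dg_mul he.1 he'.1, c, h.dg_mul he'.1 he.1])).imp (fun x => ⟨he.1, x⟩)
        fun x => ⟨he'.1, x⟩
  cenZ := fun a ha => by
    rw [← h.half_sup hS.ES hS.E'S, h.mem_half hS.J_le]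
    refine ⟨ha.1, hS.cenZ ⟨h.dg_mem ha.1, mem_cen.2 fun r hr => ?_⟩⟩
    obtain ⟨b, hb, rfl⟩ := ((h.half_wp (inf_le_left.trans hS.ES)).diag r).1 hr
    rw [← h.dg_mul hb.1 ha.1, ← h.dg_mul ha.1 hb.1,
      mem_cen.1 ha.2 b (h.half_inf hS.ES hS.E'S ▸ hb)]
  inv := by
    obtain ⟨s, h1, h2, h3⟩ := hS.inv
    obtain ⟨a, ha, rfl⟩ := (h.diag s).1 h1
    refine ⟨a, ha, h.dg_inj (A.mul_mem ha ha) A.one_mem (by rw [h.dg_mul ha ha, h2, dg_one]), ?_⟩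
    rw [← h.half_sup hS.ES hS.E'S, h.mem_half hS.J_le]
    exact fun e => h3 e.2

/-- `E` and `E'` are not conjugate in `L` -/
theorem not_conj [Finite G] {f : G} {L S E E' : Subgroup G} (hD : Dat L S E E' f) (hS : Sy S E E')
    {x : G} (hx : x ∈ L) : cj x E ≠ E' := fun e => by
  obtain ⟨k, hk, e2⟩ := ((hD.syl.cj_of_mem hx).of_le (le_inf (hD.syl.cj_of_mem hx).le
    (e ▸ (cj_mono x hD.SN).trans (cj_normalizer _ _).le)) inf_le_left).exists_cj_eq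
      (hD.syl.of_le (le_inf hD.syl.le hD.SN') inf_le_left)
  have nS : k * x ∈ nor S := cj_eq_self_iff.1 (by rw [← cj_cj, e2])
  have e1 : cj (k * x) E = E' := by rw [← cj_cj, e, cj_eq_self hk.2]
  have e3 : cj (k * x) E' = E := (hD.two _ (cj_le_of_le hD.E'S nS) (hS.el'.cj _)
    (by rw [card_cj, hS.cE, hS.cE'])).resolve_right fun e4 => hS.ne (cj_inj.1 (e1.trans e4.symm))
  obtain ⟨_, ⟨m, rfl⟩, j, hj⟩ := exists_odd_pow (k * x)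
  have h1 : (k * x) ^ (2 * m + 1) ∈ nor E := hD.SN (hD.syl.le_of_le_normalizer'
    (isPGroup_zpowers hj) (zpowers_le.2 (pow_mem (mul_mem hk.1 hx) _))
      (zpowers_le.2 (pow_mem nS _)) (mem_zpowers _))
  have h2 : (k * x) ^ 2 ∈ nor E := cj_eq_self_iff.1 (by rw [pow_two, ← cj_cj (k * x), e1, e3])
  rw [pow_succ', pow_mul, mul_mem_cancel_right (pow_mem h2 m)] at h1
  exact hS.ne ((cj_eq_self h1).symm.trans e1)

/-- squares in `C(t)` are inner -/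
theorem Cen.in0_sq [Finite G] {t f c : G} {L O S E E' : Subgroup G} (hC : Cen t L O E)
    (hD : Dat L S E E' f) (hS : Sy S E E') (hc : c ∈ cen1 t) : In0 t L O (c * c) := by
  have L1 := hC.norL hc
  have cc := mul_mem hc hc
  obtain ⟨x, hx, h3⟩ := hD.syl.exists_cj_le (hD.el.cj c).two (cj_le_of_le hD.EL L1)
  obtain ⟨y, hy, h4⟩ := hD.syl.exists_cj_le (hS.el'.cj c).two (cj_le_of_le (hD.E'S.trans hD.syl.le) L1)
  have m := fun {z : G} (hz : z ∈ L) => conj_mem_of_mem_normalizer L1 hz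
  have k : ∀ (z : G) (A : Subgroup G), cj c (cj z A) = cj (c * z * c⁻¹) (cj c A) := fun z A => by
    rw [cj_cj, cj_cj, inv_mul_cancel_right]
  rcases hD.two _ h3 ((hD.el.cj c).cj x) (by rw [card_cj, card_cj]) with e | e
  · have e1 : cj c E = cj x⁻¹ E := by rw [← cj_inj (g := x), e, cj_cj_inv]
    exact hC.c2 _ cc ⟨c * x⁻¹ * c⁻¹ * x⁻¹, mul_mem (m (inv_mem hx)) (inv_mem hx),
      by rw [← cj_cj c, e1, k, e1, cj_cj]⟩
  have e1 : cj c E = cj x⁻¹ E' := by rw [← e, cj_inv_cj]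
  rcases hD.two _ h4 ((hS.el'.cj c).cj y) (by rw [card_cj, card_cj, hS.cE, hS.cE']) with e' | e'
  · have e2 : cj c E' = cj y⁻¹ E := by rw [← e', cj_inv_cj]
    exact hC.c2 _ cc ⟨c * x⁻¹ * c⁻¹ * y⁻¹, mul_mem (m (inv_mem hx)) (inv_mem hy),
      by rw [← cj_cj c, e1, k, e2, cj_cj]⟩
  · refine (not_conj hD hS (conj_mem_of_mem_normalizer' L1 (mul_mem (inv_mem hy) hx)) ?_).elim
    rw [← cj_cj, ← cj_cj, ← cj_cj, e, ← cj_inj (g := c), cj_cj_inv, ← cj_inj (g := y), cj_cj_inv, e']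

namespace St4
variable {t f : G} {L O S E E' E₁ Y₁ S₁ : Subgroup G}

/-- `dg` is injective on the 2-elements of `Y₁` -/
theorem dg_inj2 [Finite G] (h : St4 t L O S E E₁ Y₁ S₁) {a b : G} (ha : a ∈ Y₁) (hb : b ∈ Y₁) {i j : ℕ}
    (h1 : a ^ 2 ^ i = 1) (h2 : b ^ 2 ^ j = 1) (e : dg t a = dg t b) : a = b := by
  have e1 : b⁻¹ * a = t * (b * a⁻¹) * t⁻¹ := by
    calc b⁻¹ * a = b⁻¹ * dg t a * (t * a⁻¹ * t⁻¹) := by simp only [dg]; group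
      _ = _ := by rw [e]; simp only [dg]; group
  have m2 : b⁻¹ * a ∈ cj t Y₁ := e1 ▸ conj_mem_cj (mul_mem hb (inv_mem ha))
  have od := h.inter _ (mul_mem (inv_mem hb) ha) m2
  have c : Commute b⁻¹ a := by
    have : Commute b⁻¹ (b⁻¹ * a) := h.comm _ (inv_mem hb) _ m2
    simpa using (Commute.refl b⁻¹).inv_right.mul_right this
  refine (inv_mul_eq_one.1 (one_of_odd od (k := i + j) ?_)).symm
  rw [c.mul_pow, pow_add, pow_mul a, h1, one_pow, mul_one, mul_comm, pow_mul, inv_pow, h2]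
  simp

/-- an element of `N` acts on `S₁` as an element of `Y₁` -/
theorem lift (h : St4 t L O S E E₁ Y₁ S₁) {c : G} (hc : c ∈ L ⊓ nor E) :
    ∃ y ∈ Y₁, ∀ a ∈ S₁, c * a * c⁻¹ = y * a * y⁻¹ := by
  obtain ⟨y, hy, o, ho, rfl⟩ := h.dblN c hc
  refine ⟨y, hy, fun a ha => ?_⟩
  calc _ = y * (t * y * t⁻¹ * (o * a * o⁻¹) * (t * y * t⁻¹)⁻¹) * y⁻¹ := by simp only [dg]; group
    _ = _ := by rw [cj_of_comm (mem_cen.1 (h.cenO ha) o ho),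
      cj_of_comm (h.comm a (h.SY ha) _ (conj_mem_cj hy)).symm]

/-- if `c ∈ N` maps `dg a` to `dg b` then some `y ∈ Y₁` maps `a` to `b` -/
theorem move [Finite G] (h : St4 t L O S E E₁ Y₁ S₁) (hC : Cen t L O E) {c a b : G}
    (hc : c ∈ L ⊓ nor E) (ha : a ∈ S₁) (hb : b ∈ S₁) (e : c * dg t a * c⁻¹ = dg t b) :
    ∃ y ∈ Y₁, y * a * y⁻¹ = b := by
  obtain ⟨y, hy, h1⟩ := h.lift hc
  obtain ⟨i, hi⟩ := isPGroup_iff_forall.1 h.two a ha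
  obtain ⟨j, hj⟩ := isPGroup_iff_forall.1 h.two b hb
  refine ⟨y, hy, h.dg_inj2 (mul_mem (mul_mem hy (h.SY ha)) (inv_mem hy)) (h.SY hb) (i := i)
    (by rw [conj_pow, hi]; group) hj ?_⟩
  rw [← h1 a ha, dg_conj (hC.cL hc.1), e]

theorem Y_cen (h : St4 t L O S E E₁ Y₁ S₁) : Y₁ ≤ cen (cj t S₁) :=
  fun y hy => mem_cen.2 fun b hb => (h.comm y hy b (cj_mono t h.SY hb)).symm

theorem Y₂_cen (h : St4 t L O S E E₁ Y₁ S₁) : cj t Y₁ ≤ cen S₁ :=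
  fun y hy => mem_cen.2 fun a ha => h.comm a (h.SY ha) y hy

end St4

/-- `n` fixes or swaps `A` and `B` -/
def Blk (n : G) (A B : Subgroup G) : Prop :=
  (cj n A = A ∧ cj n B = B) ∨ (cj n A = B ∧ cj n B = A)

theorem Blk.nor {n : G} {A B : Subgroup G} (h : Blk n A B) : n ∈ nor (A ⊔ B) :=
  cj_eq_self_iff.1 (by rcases h with ⟨e, e'⟩ | ⟨e, e'⟩ <;> rw [cj_sup, e, e'] <;> exact sup_comm _ _)

theorem Blk.nor_inf {n : G} {A B : Subgroup G} (h : Blk n A B) : n ∈ H1.Gold.nor (A ⊓ B) :=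
  cj_eq_self_iff.1 (by rcases h with ⟨e, e'⟩ | ⟨e, e'⟩ <;> rw [cj_inf, e, e'] <;> exact inf_comm _ _)

theorem Blk.sq {n : G} {A B : Subgroup G} (h : Blk n A B) : n * n ∈ H1.Gold.nor A :=
  cj_eq_self_iff.1 (by rcases h with ⟨e, e'⟩ | ⟨e, e'⟩ <;> rw [← cj_cj, e] <;> assumption)

theorem Blk.swap {n : G} {A B : Subgroup G} (h : Blk n A B) (hn : n ∉ H1.Gold.nor A) :
    cj n A = B ∧ cj n B = A := h.resolve_left fun e => hn (cj_eq_self_iff.1 e.1)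

theorem Blk.fix {n : G} {A B : Subgroup G} (h : Blk n A B) (hn : n ∈ H1.Gold.nor A) :
    n ∈ H1.Gold.nor B := by
  rcases h with ⟨e, e'⟩ | ⟨e, e'⟩
  · exact cj_eq_self_iff.1 e'
  · rwa [← e, cj_eq_self hn]

theorem Blk.mul {n m : G} {A B : Subgroup G} (h : Blk n A B) (h' : Blk m A B)
    (hn : n ∉ H1.Gold.nor A) (hm : m ∉ H1.Gold.nor A) : n * m ∈ H1.Gold.nor A :=
  cj_eq_self_iff.1 (by rw [← cj_cj, (h'.swap hm).1, (h.swap hn).2])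

namespace Ct
variable [Finite G] {t f : G} {L O S E E' E₁ F₁ Y₁ S₁ : Subgroup G} {P : G → Subgroup G}
  (h : Ct t f L O S E E' E₁ F₁ Y₁ S₁ P)
include h

omit [Finite G] in
theorem w : Wp t S₁ S := h.s4.wp h.c

theorem hE : E₁ = half t S₁ E := (h.s4.half_E h.c h.d h.s1).symm

theorem sy₁ : Sy S₁ E₁ F₁ := by
  have := h.w.sy h.s4.two h.o.sy
  rwa [← h.hE, ← h.hF] at this

theorem sy₂ : Sy (cj t S₁) (cj t E₁) (cj t F₁) := h.sy₁.cj t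

theorem wE : Wp t E₁ E := h.hE ▸ h.w.half_wp h.d.ES

omit [Finite G] in
theorem wF : Wp t F₁ E' := h.hF ▸ h.w.half_wp h.d.E'S

theorem mem_J₁ {a : G} : a ∈ E₁ ⊔ F₁ ↔ a ∈ S₁ ∧ dg t a ∈ E ⊔ E' := by
  rw [← h.w.mem_half h.o.sy.J_le, h.w.half_sup h.d.ES h.d.E'S, ← h.hE, ← h.hF]

theorem two₁ {K : Subgroup G} (hK : K ≤ S₁) (he : El K) (hc : 16 ≤ Nat.card K) : K = E₁ ∨ K = F₁ :=
  h.hF ▸ (h.s4.el_sub h.c h.d h.s1 hK he).2 (h.o.sy.cE ▸ hc)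

theorem two₂ {K : Subgroup G} (hK : K ≤ cj t S₁) (he : El K) (hc : 16 ≤ Nat.card K) :
    K = cj t E₁ ∨ K = cj t F₁ := by
  have := h.two₁ (cj_le_iff.2 (by rwa [h.c.tinv])) (he.cj t) (by rwa [card_cj])
  exact this.imp (fun e => by rw [← e, cj_tt h.c.tt]) fun e => by rw [← e, cj_tt h.c.tt]

/-- elementary subgroups of order `2⁸` of `T₀` -/
theorem big {R : Subgroup G} (hR : R ≤ S₁ ⊔ cj t S₁) (he : El R) (hc : 256 ≤ Nat.card R) :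
    ∃ K M : Subgroup G, (K = E₁ ∨ K = F₁) ∧ (M = E₁ ∨ M = F₁) ∧ R = K ⊔ cj t M := by
  obtain ⟨K, hK, M, hM, eK, eM, cK, cM, e⟩ := h.s4.el_big h.c h.d h.s1 hR he (by rwa [h.o.sy.cE])
  rw [h.o.sy.cE] at cK cM
  exact ⟨K, M, h.two₁ hK eK cK.ge, h.two₁ hM eM cM.ge, e⟩

theorem card_W : Nat.card ↥(E₁ ⊔ cj t E₁) = 256 := by rw [h.s1.dbl.card_W h.c.tt, h.o.sy.cE]

/-- `Y₁` is transitive on `E₁#` -/
theorem tr₁ {a b : G} (ha : a ∈ E₁) (hb : b ∈ E₁) (h1 : a ≠ 1) (h2 : b ≠ 1) :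
    ∃ y ∈ Y₁, y * a * y⁻¹ = b := by
  obtain ⟨n, hn, e⟩ := h.o.tr _ (h.s1.dbl.mem a ha) _ (h.s1.dbl.mem b hb)
    (fun e => h1 (h.s1.dbl.inj a ha e)) fun e => h2 (h.s1.dbl.inj b hb e)
  exact h.s4.move h.c hn (h.s4.ES ha) (h.s4.ES hb) e

omit [Finite G] in
/-- `N_L(E')` is transitive on `F₁#` -/
theorem trX {a b : G} (ha : a ∈ F₁) (hb : b ∈ F₁) (h1 : a ≠ 1) (h2 : b ≠ 1) :
    ∃ x ∈ L ⊓ nor E', x * a * x⁻¹ = b := by
  have w := h.wF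
  obtain ⟨n, hn, e⟩ := h.o.tr' _ (w.dg_mem ha) _ (w.dg_mem hb)
    (fun e => h1 (w.dg_inj ha F₁.one_mem (by rw [e, dg_one])))
    fun e => h2 (w.dg_inj hb F₁.one_mem (by rw [e, dg_one]))
  exact ⟨n, hn, w.dg_inj (conj_mem_of_mem_normalizer (h.xn hn) ha) hb
    (by rw [dg_conj (h.c.cL hn.1), e])⟩

theorem sq₁ {a : G} (ha : a ∈ S₁) (h2 : a * a ∈ E₁) : ∃ y ∈ Y₁, y * a * y⁻¹ ∈ E₁ ⊔ F₁ := by
  obtain ⟨n, hn, e⟩ := h.o.sq _ (h.w.dg_mem ha) (h.w.dg_mul ha ha ▸ h.s1.dbl.mem _ h2)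
  obtain ⟨b, hb, e2⟩ := (h.w.diag _).1 (h.o.sy.J_le e)
  obtain ⟨y, hy, e3⟩ := h.s4.move h.c hn ha hb e2.symm
  exact ⟨y, hy, e3 ▸ h.mem_J₁.2 ⟨hb, e2 ▸ e⟩⟩

/-- an involution of `S₁` is conjugate into `E₁ ∪ F₁` under `Y₁` -/
theorem inv_J {a : G} (ha : a ∈ S₁) (h2 : a * a = 1) :
    ∃ y ∈ Y₁, y * a * y⁻¹ ∈ E₁ ∨ y * a * y⁻¹ ∈ F₁ := by
  obtain ⟨y, hy, e⟩ := h.sq₁ ha (h2 ▸ E₁.one_mem)
  refine ⟨y, hy, h.sy₁.inv_J e ?_⟩
  calc _ = y * (a * a) * y⁻¹ := by group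
    _ = 1 := by rw [h2]; group

/-- the lift of `ρ` -/
theorem rho₁ : ∃ y ∈ Y₁, y ∈ nor E₁ ∧ y ∈ nor F₁ ∧
    ∀ k : ℕ, ∀ j ∈ E₁ ⊔ F₁, y ^ 2 ^ k * j = j * y ^ 2 ^ k → j = 1 := by
  obtain ⟨ρ, hρ, ⟨i, hi⟩, h1⟩ := h.o.rho
  obtain ⟨y, hy, h2⟩ := h.s4.lift hρ.1
  have nF := h.xn ⟨hρ.1.1, hρ.2⟩
  have nJ : ρ ∈ nor (E₁ ⊔ F₁) := le_normalizer_sup (H := zpowers ρ)
    (zpowers_le.2 (h.s1.norN hρ.1)) (zpowers_le.2 nF) (mem_zpowers ρ)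
  have pw : ∀ m : ℕ, ∀ j ∈ E₁ ⊔ F₁, ρ ^ m * j * (ρ ^ m)⁻¹ = y ^ m * j * (y ^ m)⁻¹ := by
    intro m
    induction m with
    | zero => simp
    | succ m ih =>
      intro j hj
      calc _ = ρ ^ m * (ρ * j * ρ⁻¹) * (ρ ^ m)⁻¹ := by rw [pow_succ]; group
        _ = _ := by
          rw [ih _ (conj_mem_of_mem_normalizer nJ hj), h2 j (h.sy₁.J_le hj), pow_succ]; group
  refine ⟨y, hy, h.s4.norE hy, mem_normalizer_of_cj_le ?_, fun k j hj e => ?_⟩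
  · rintro _ ⟨a, ha, rfl⟩
    show y * a * y⁻¹ ∈ F₁
    rw [← h2 a (h.sy₁.E'S ha)]
    exact conj_mem_of_mem_normalizer nF ha
  · have h3 : ρ ^ 2 ^ k ∈ cen1 j := mem_cen1.2 (comm_of_cj (by rw [pw _ j hj, cj_of_comm e]))
    have h4 : ρ ∈ cen1 j := mem_of_pow_mem_of_coprime h3
      (Nat.Coprime.coprime_dvd_left (orderOf_dvd_of_pow_eq_one hi)
        (Nat.Coprime.pow _ _ (by norm_num)))
    have h5 := h.mem_J₁.1 hj
    refine h.w.dg_inj h5.1 S₁.one_mem ?_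
    rw [dg_one]
    refine h1 _ h5.2 (comm_of_cj ?_)
    rw [← dg_conj (h.c.cL hρ.1.1), cj_of_comm (mem_cen1.1 h4)]

theorem L_le {G₀ : Subgroup G} (hT : S₁ ⊔ cj t S₁ ≤ G₀) (hr : res 2 ⊤ ≤ G₀) : L ≤ G₀ :=
  h.d.syl.sup_res.ge.trans (sup_le (h.w.B_le.trans hT) ((res_mono le_top).trans hr))

theorem Y_le : Y₁ ≤ res 2 ⊤ := (res_eq_of_perfect (p := 2) h.s4.perf).ge.trans (res_mono le_top)

theorem not_le₁₂ {A : Subgroup G} (h1 : A ≤ S₁) (h2 : A ≤ cj t S₁) (hc : Nat.card A = 16) : False := by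
  rw [eq_bot_iff.2 ((le_inf h1 h2).trans h.w.bot.le)] at hc
  simp at hc

/-- the block structure of the action on `Fam` -/
theorem blk {n : G} (hn : ∀ A, Fam t E₁ F₁ A → Fam t E₁ F₁ (cj n A)) :
    (Blk n E₁ F₁ ∧ Blk n (cj t E₁) (cj t F₁)) ∨
      (Blk (n * t) E₁ F₁ ∧ Blk (n * t) (cj t E₁) (cj t F₁)) := by
  have s1 := h.sy₁
  have s2 := h.sy₂
  have c1 : ∀ {A B : Subgroup G}, A ≤ S₁ → B ≤ cj t S₁ → A ≤ cen B ∧ B ≤ cen A := fun hA hB =>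
    ⟨hA.trans (h.w.le_cen₁.trans (centralizer_anti hB)),
      hB.trans (h.w.le_cen₂.trans (centralizer_anti hA))⟩
  have pair : ∀ A B : Subgroup G, Fam t E₁ F₁ A → Fam t E₁ F₁ B → ¬ A ≤ cen B →
      (A = E₁ ∧ B = F₁ ∨ A = F₁ ∧ B = E₁) ∨
        (A = cj t E₁ ∧ B = cj t F₁ ∨ A = cj t F₁ ∧ B = cj t E₁) := by
    rintro A B (rfl | rfl | rfl | rfl) (rfl | rfl | rfl | rfl) hc <;>
      first
      | exact (hc s1.el.le_cen).elim | exact (hc s1.el'.le_cen).elim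
      | exact (hc s2.el.le_cen).elim | exact (hc s2.el'.le_cen).elim
      | exact (hc (c1 s1.ES s2.ES).1).elim | exact (hc (c1 s1.ES s2.ES).2).elim
      | exact (hc (c1 s1.ES s2.E'S).1).elim | exact (hc (c1 s1.ES s2.E'S).2).elim
      | exact (hc (c1 s1.E'S s2.ES).1).elim | exact (hc (c1 s1.E'S s2.ES).2).elim
      | exact (hc (c1 s1.E'S s2.E'S).1).elim | exact (hc (c1 s1.E'S s2.E'S).2).elim
      | simp
  have p1 := pair _ _ (hn _ (Or.inl rfl)) (hn _ (Or.inr (Or.inl rfl))) (s1.cj n).not_cen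
  have p2 := pair _ _ (hn _ (Or.inr (Or.inr (Or.inl rfl)))) (hn _ (Or.inr (Or.inr (Or.inr rfl))))
    (s2.cj n).not_cen
  have nc : cj n E₁ ⊔ cj n F₁ ≠ cj n (cj t E₁) ⊔ cj n (cj t F₁) := fun e => by
    rw [← cj_sup, ← cj_sup, cj_inj] at e
    exact h.not_le₁₂ s1.ES (le_sup_left.trans (e.le.trans s2.J_le)) s1.cE
  have tt := cj_tt h.c.tt
  rcases p1 with p1 | p1 <;> rcases p2 with p2 | p2
  · exact (nc (by rcases p1 with ⟨a, b⟩ | ⟨a, b⟩ <;> rcases p2 with ⟨c, d⟩ | ⟨c, d⟩ <;>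
      rw [a, b, c, d] <;> exact sup_comm _ _)).elim
  · exact Or.inl ⟨p1, p2⟩
  · refine Or.inr ⟨?_, ?_⟩
    · simpa only [Blk, ← cj_cj] using p2
    · simpa only [Blk, ← cj_cj, tt] using p1
  · exact (nc (by rcases p1 with ⟨a, b⟩ | ⟨a, b⟩ <;> rcases p2 with ⟨c, d⟩ | ⟨c, d⟩ <;>
      rw [a, b, c, d] <;> exact sup_comm _ _)).elim

theorem t_not_star : t ∉ nor (E₁ ⊔ F₁) := fun e =>
  h.not_le₁₂ h.sy₁.ES (le_sup_left.trans ((cj_eq_self e).ge.trans (cj_mono t h.sy₁.J_le))) h.sy₁.cE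

theorem T0_nor : S₁ ⊔ cj t S₁ ≤ nor E₁ ⊓ nor F₁ ⊓ (nor (cj t E₁) ⊓ nor (cj t F₁)) := by
  have c1 : ∀ {A : Subgroup G}, A ≤ S₁ → cj t S₁ ≤ nor A := fun hA =>
    le_normalizer_of_le_centralizer (h.w.le_cen₂.trans (centralizer_anti hA))
  have c2 : ∀ {A : Subgroup G}, A ≤ cj t S₁ → S₁ ≤ nor A := fun hA =>
    le_normalizer_of_le_centralizer (h.w.le_cen₁.trans (centralizer_anti hA))
  exact le_inf (le_inf (sup_le h.sy₁.SN (c1 h.sy₁.ES)) (sup_le h.sy₁.SN' (c1 h.sy₁.E'S)))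
    (le_inf (sup_le (c2 h.sy₂.ES) h.sy₂.SN) (sup_le (c2 h.sy₂.E'S) h.sy₂.SN'))

end Ct

namespace Sq
variable [Finite G] {t f σ : G} {L O S E E' E₁ F₁ Y₁ S₁ T : Subgroup G} {P : G → Subgroup G}
  (q : Sq t σ E₁ F₁ S₁ T) (h : Ct t f L O S E E' E₁ F₁ Y₁ S₁ P)
include q

omit [Finite G] in
theorem σF : cj σ F₁ = E₁ := by rw [← q.σE, cj_tt q.σσ]

omit [Finite G] in
theorem σcj (A : Subgroup G) : cj σ (cj t A) = cj t (cj σ A) := by rw [cj_cj, cj_cj, q.σt]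

omit [Finite G] in
theorem fam {n : G} (hn : n ∈ nor (E₁ ⊔ F₁ ⊔ cj t (E₁ ⊔ F₁))) (A : Subgroup G)
    (hA : Fam t E₁ F₁ A) : Fam t E₁ F₁ (cj n A) := by
  rcases hA with rfl | rfl | rfl | rfl
  · exact q.perm n hn
  · simpa only [← cj_cj, q.σE] using q.perm _ (mul_mem hn (q.TJ q.σT))
  · simpa only [← cj_cj] using q.perm _ (mul_mem hn (q.TJ q.tT))
  · simpa only [← cj_cj, q.σE] using q.perm _ (mul_mem hn (mul_mem (q.TJ q.tT) (q.TJ q.σT)))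

include h

theorem blk {n : G} (hn : n ∈ nor (E₁ ⊔ F₁ ⊔ cj t (E₁ ⊔ F₁))) :
    (Blk n E₁ F₁ ∧ Blk n (cj t E₁) (cj t F₁)) ∨
      (Blk (n * t) E₁ F₁ ∧ Blk (n * t) (cj t E₁) (cj t F₁)) := h.blk (q.fam hn)

theorem blk_star {n : G} (hn : n ∈ nor (E₁ ⊔ F₁ ⊔ cj t (E₁ ⊔ F₁))) (h1 : n ∈ nor (E₁ ⊔ F₁)) :
    Blk n E₁ F₁ ∧ Blk n (cj t E₁) (cj t F₁) := (q.blk h hn).resolve_right fun e =>
  h.t_not_star (by simpa using mul_mem (inv_mem h1) e.1.nor)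

theorem star {τ : G} (hτ : τ ∈ T ⊓ nor (E₁ ⊔ F₁)) : Blk τ E₁ F₁ ∧ Blk τ (cj t E₁) (cj t F₁) :=
  q.blk_star h (q.TJ hτ.1) hτ.2

theorem star_or {τ : G} (hτ : τ ∈ T) : τ ∈ T ⊓ nor (E₁ ⊔ F₁) ∨ τ * t ∈ T ⊓ nor (E₁ ⊔ F₁) :=
  (q.blk h (q.TJ hτ)).imp (fun e => ⟨hτ, e.1.nor⟩) fun e => ⟨mul_mem hτ q.tT, e.1.nor⟩

theorem T0_star : S₁ ⊔ cj t S₁ ≤ T ⊓ nor (E₁ ⊔ F₁) := le_inf q.T0
  (le_normalizer_sup (fun _ hx => (h.T0_nor hx).1.1) fun _ hx => (h.T0_nor hx).1.2)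

omit h [Finite G] in
theorem σ_star : σ ∈ T ⊓ nor (E₁ ⊔ F₁) := ⟨q.σT, Blk.nor (Or.inr ⟨q.σE, q.σF⟩)⟩

/-- squares of `T*` lie in `T₀` -/
theorem sq_mem {τ : G} (hτ : τ ∈ T ⊓ nor (E₁ ⊔ F₁)) : τ * τ ∈ S₁ ⊔ cj t S₁ :=
  q.ker _ (mul_mem hτ.1 hτ.1) (q.star h hτ).1.sq (q.star h hτ).2.sq

theorem relIndex_star : (T ⊓ nor (E₁ ⊔ F₁)).relIndex T = 2 :=
  index_eq_two_iff.2 ⟨⟨t, q.tT⟩, fun b => by
    simp only [mem_subgroupOf, coe_mul]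
    rcases q.star_or h b.2 with e | e
    · exact Or.inr ⟨e, fun e' => h.t_not_star (by simpa using Subgroup.mul_mem _ (Subgroup.inv_mem _ e.2) e'.2)⟩
    · exact Or.inl ⟨e, fun e' => h.t_not_star (by simpa using Subgroup.mul_mem _ (Subgroup.inv_mem _ e'.2) e.2)⟩⟩

theorem T_nor_star : T ≤ nor (T ⊓ nor (E₁ ⊔ F₁)) := fun τ hτ => mem_normalizer_of_cj_le (by
  rintro _ ⟨x, hx, rfl⟩
  have := (normal_of_index_eq_two (q.relIndex_star h)).conj_mem ⟨x, hx.1⟩ hx ⟨τ, hτ⟩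
  exact this)

theorem T_nor_T0 : T ≤ nor (S₁ ⊔ cj t S₁) := fun τ hτ => mem_normalizer_of_cj_le (by
  rintro _ ⟨x, hx, rfl⟩
  have key : ∀ A, Fam t E₁ F₁ A → τ * x * τ⁻¹ ∈ nor A := fun A hA => by
    have h1 : x ∈ nor (cj τ⁻¹ A) := by
      rcases q.fam (q.TJ (inv_mem hτ)) A hA with e | e | e | e <;> rw [e]
      exacts [(h.T0_nor hx).1.1, (h.T0_nor hx).1.2, (h.T0_nor hx).2.1, (h.T0_nor hx).2.2]
    rw [← cj_eq_self_iff, ← cj_cj, ← cj_cj, cj_eq_self h1, cj_cj_inv]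
  exact q.ker _ (mul_mem (mul_mem hτ (q.T0 hx)) (inv_mem hτ)) (key _ (Or.inl rfl))
    (key _ (Or.inr (Or.inr (Or.inl rfl)))))

end Sq

end H99.Wr
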