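import Cfsg.Agent.H78.TESpec
import Cfsg.Agent.H84.SGF1
import Cfsg.Agent.H37.SgD
import Cfsg.Agent.H64.SGFE
import Cfsg.Agent.H26.SGFB
import Cfsg.Agent.H48.SgFa

/-! STD-2E6 (row S3327), slot F1: the unique fixed point of `t` in the field case. -/

set_option autoImplicit false
set_option linter.unusedSectionVars false

namespace H99.TEF

open H98 Subgroup Cfsg Cfsg.Lie H63 H65 H64 H64.SG H78.TE
open H84.SG (fl_conj gr_conj split2 lift_fx two_le_card)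

universe u

variable {G : Type u} [Group G] [Finite G] {F₀ L : Subgroup G} {t : G}

/-- A `t`-invariant subgroup of `C(L)` that misses `t` has odd order. -/
theorem odd_of_two (P : Cfg F₀ L t) (two : ∀ R ≤ Cs L, IsPGroup 2 R → Nat.card R ≤ 2)
    {A : Subgroup G} (h1 : A ≤ Cs L) (h2 : t ∈ Ns A) (h3 : t ∉ A) : Odd (Nat.card A) := by
  have t2 := is2_of_sq P.inv.1
  have h4 : A ⊔ zpowers t ≤ Cs L := sup_le h1 (zpowers_le.2 P.tL)
  obtain ⟨S, s1, s2⟩ := exists_isSyl_le t2.zpowers (le_sup_right : zpowers t ≤ A ⊔ zpowers t)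
  have s3 : zpowers t = S := eq_of_le_of_card_ge s2 ((two S (s1.le.trans h4) s1.isPGroup).trans_eq (by
    rw [Nat.card_zpowers, orderOf_eq_prime (by rw [pow_two, P.inv.1]) P.inv.2]))
  by_contra h5
  obtain ⟨k, hk⟩ := exists_prime_orderOf_dvd_card' (G := A) 2
    (even_iff_two_dvd.1 (Nat.not_odd_iff_even.1 h5))
  rw [← Subgroup.orderOf_coe] at hk
  have k2 : (k : G) * k = 1 := by rw [← pow_two, ← hk, pow_orderOf_eq_one]
  obtain ⟨g, g1, g2⟩ := s1.exists_cj_le (is2_of_sq k2).zpowers ((zpowers_le.2 k.2).trans le_sup_left)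
  have g3 : g * k * g⁻¹ ∈ A := conj_mem_of_mem_normalizer
    ((sup_le le_normalizer (zpowers_le.2 h2) : A ⊔ zpowers t ≤ Ns A) g1) k.2
  have g4 := s3 ▸ g2 (conj_mem_cj (mem_zpowers (k : G)))
  rcases P.uniq (h1 g3) (by rw [conj_mul, k2]; simp) (mem_Cs_zpowers.1 (by
    obtain ⟨n, hn⟩ := mem_zpowers_iff.1 g4
    exact mem_Cs_zpowers.2 (hn ▸ (Commute.self_zpow t n).eq))) with e | e
  · rw [conj_eq_one_iff] at e
    rw [e, orderOf_one] at hk
    exact absurd hk (by decide)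
  · exact h3 (e ▸ g3)

theorem ty_ph {F K : Type} [Field F] [Field K] [Finite K] [CharP K 2] (T : Qd F K) (τ : Ty E6 K) :
    τ.fl T.ph = T.σ ∧ τ.gr T.ph ≠ 1 := by
  have h : DT E6 K (MulAut.conj 1 * T.ph) gn 1 T.σ := (H48.SgTy.dat_iff e6).2 fun i a => by
    have h1 := T.ph_x (simpleR i) a
    have h2 := T.ph_x (negR (simpleR i)) a
    rw [← ng_eq, gm_ng, ng_eq, ng_eq] at h2
    rw [gm_simple] at h1 h2
    simpa using ⟨h1, h2⟩
  exact ⟨(τ.spec _ _ _ _ _ h).1, fun e => absurd ((τ.spec _ _ _ _ _ h).2.1 e) (by decide +kernel)⟩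

/-- Two covers on a common subgroup. -/
theorem card_dvd {X Y : Type} [Group X] [Group Y] {A B H : Subgroup G} (c : Cov X A) (d : Cov Y B)
    (hA : H ≤ A) (hB : H ≤ B) (hz : d.im H ⊓ Cs (d.im H) = ⊥) : Nat.card (d.im H) ∣ Nat.card X := by
  let f := c.piH.comp (inclusion hA)
  let g := d.piH.comp (inclusion hB)
  have r : g.range = d.im H := by
    ext y
    rw [d.mem_im]
    exact ⟨by rintro ⟨a, rfl⟩; exact ⟨a, a.2, hB a.2, rfl⟩, fun ⟨a, a1, _, e⟩ => ⟨⟨a, a1⟩, e⟩⟩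
  have k : f.ker ≤ g.ker := fun a ha => by
    have h1 : (a : G) ∈ Cs A := c.ker_cen _ (hA a.2) ha
    have h2 : d.pi a ∈ d.im H ⊓ Cs (d.im H) := ⟨d.pi_mem_im a.2 (hB a.2), mem_Cs.2 fun y hy => by
      obtain ⟨b, b1, b2, rfl⟩ := d.mem_im.1 hy
      rw [← d.pi_mul _ b2 _ (hB a.2), ← d.pi_mul _ (hB a.2) _ b2, mem_Cs.1 h1 b (hA b1)]⟩
    rw [hz] at h2
    exact h2
  rw [← r, ← index_ker]
  exact (index_dvd_of_le k).trans (index_ker f ▸ card_subgroup_dvd_card f.range)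

theorem jobF1 : H78.TE.JobF1.{u} := by
  intro F K _ _ _ _ _ _ T xf G _ _ F₀ L t c y C B
  have hTy := H48.SgTy.jobTy
  have hFA := H48.SgFa.jobFA
  obtain ⟨τ⟩ := hTy E6 e6 K
  have E := H64.SGE.jobFE hTy (H26.SGB.jobFB hTy hFA) H37.Sg.jobFD E6 e6 K
  obtain ⟨p1, p2⟩ := ty_ph T τ
  have P := B.cfg
  have tM : t ∈ Ns (GG E6 y) := B.ct (mem_Cz.2 rfl)
  have o1 : Odd (Nat.card (Cs (GG E6 y))) :=
    odd_of_two P B.ce.two (centralizer_anti B.le) (normalizer_le_normalizer_centralizer _ tM)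
      fun h => p2 (by rw [← B.ac, C.ac_of_Cs h, map_one])
  refine ⟨o1, P.inv, tM, fun g hg => ?_⟩
  have q2 := two_le_card F
  have s2 : g * t * g⁻¹ * (g * t * g⁻¹) = 1 := by rw [conj_mul, P.inv.1]; simp
  have a2 : C.ac (g * t * g⁻¹) * C.ac (g * t * g⁻¹) = 1 := by
    rw [← C.ac_mul _ hg _ hg, s2, C.ac_one]
  by_cases h1 : τ.fl (C.ac (g * t * g⁻¹)) = 1
  · obtain ⟨Y, y1, y2, y3⟩ := E.sz τ _ a2 h1
    obtain ⟨Q, q1, q3, q4⟩ := lift_fx C.toCov hg y1 y2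
    have h3 := B.ce.sm (cj g⁻¹ Q) (fun a ha => by
      have := (q1.trans inf_le_right) (mem_cj.1 ha)
      rwa [← cj_Cz', mem_cj, inv_inv,
        show g⁻¹ * (g * a * g⁻¹) * g = a by group] at this) (isPGroup_cj g⁻¹ q3)
    rw [card_cj, q4] at h3
    rw [T.card, ← pow_mul, mul_comm, pow_mul] at y3
    have h4 := ((Nat.pow_le_pow_iff_left two_ne_zero).1 y3).trans
      (h3.trans (Nat.mul_le_mul_right _ q2))
    rw [← pow_succ'] at h4
    exact absurd ((Nat.pow_le_pow_iff_right q2).1 h4) (by decide)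
  by_cases h2 : τ.gr (C.ac (g * t * g⁻¹)) = 1
  · exfalso
    obtain ⟨S, s1, s3, s4⟩ := xf.ft τ _ a2 h1 h2
    let S' : Set G := {l | l ∈ GG E6 y ∧ Is2 l ∧ C.pi l ∈ S}
    have e : C.toCov.im (closure S') = closure S := by
      rw [C.im_closure fun l hl => hl.1]
      congr 1
      refine Set.Subset.antisymm (by rintro _ ⟨l, hl, rfl⟩; exact hl.2.2) fun a ha => ?_
      obtain ⟨l, l1, l2, rfl⟩ := C.exists_lift2 (s1 a ha).1
      exact ⟨l, ⟨l1, l2, ha⟩, rfl⟩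
    refine s4 (e ▸ card_dvd (c.cj g) C.toCov ((closure_le _).2 fun l hl => ?_)
      ((closure_le _).2 fun l hl => hl.1) (e.symm ▸ s3))
    have h3 := O2_mono inf_le_right (C.mem_O2_Cz hg (is2_of_sq s2) hl.1 hl.2.1 (s1 _ hl.2.2).2)
    rw [← cj_Cz', O2_eq, ← cj_res, ← O2_eq] at h3
    exact mem_cj.2 (B.ce.a3 _ (mem_cj.1 h3) (by simpa using hl.2.1.conj g⁻¹))
  have t2 := is2_of_sq P.inv.1
  have tU : t ∈ Ns (UU E6 y) := B.tU _ fun r hr => pos_gm.2 hr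
  obtain ⟨S, s1, s3⟩ := exists_isSyl_le (isPGroup_sup_zpowers C.isPGroup_UU tU t2)
    (sup_le ((gen_le_GG _).trans le_normalizer) (zpowers_le.2 tM))
  obtain ⟨m, m1, m2⟩ := s1.exists_cj_le (is2_of_sq s2).zpowers (zpowers_le.2 hg)
  have m3 := m2 (conj_mem_cj (mem_zpowers _))
  have m4 := mul_mem m3 (s3 (mem_sup_right (mem_zpowers t)))
  have m5 : τ.fl (C.ac (g * t * g⁻¹)) = T.σ := by
    have := isCyclic_ringAut K
    have : Finite (RingAut K) := Finite.of_injective _ DFunLike.coe_injective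
    refine (eq_of_cyclic (R := ⊤) inferInstance (mem_top T.σ) (mem_top _) ⟨RingEquiv.ext T.ss, ?_⟩
      ((map_mul τ.fl ..).symm.trans (a2 ▸ map_one _))).resolve_left h1
    intro e
    obtain ⟨w, hw⟩ := xf.kb.half
    rw [e] at hw
    exact zero_ne_one ((CharTwo.add_self_eq_zero w).symm.trans hw)
  have e : C.ac (m * (g * t * g⁻¹) * m⁻¹ * t) =
      C.ac m * C.ac (g * t * g⁻¹) * (C.ac m)⁻¹ * T.ph := by
    rw [C.ac_mul _ (s1.le m3) _ tM, C.ac_conj m1 hg, B.ac]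
  have z2 : ∀ a b : Multiplicative (ZMod 2), a ≠ 1 → b ≠ 1 → a * b = 1 := by decide
  obtain ⟨l, l1, k, k1, -, k2, e1⟩ := split2 τ (hFA E6 e6 K) C (s1.le m4)
    (isPGroup_iff_is2.1 s1.isPGroup _ m4) (by rw [e, map_mul, gr_conj]; exact z2 _ _ h2 p2)
    (by rw [e, map_mul, fl_conj, m5, p1]; exact RingEquiv.ext T.ss)
  rw [k2.eq_one (odd_orderOf_of_mem o1 k1), mul_one] at e1
  have m6 : l * t = m * g * t * (m * g)⁻¹ := by rw [← e1, mul_assoc, P.inv.1]; group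
  obtain ⟨w, w1, w2⟩ := B.cob l ((C.sylU.eq_of_le (s1.isPGroup.to_le inf_le_left)
    (le_inf (le_sup_left.trans s3) (gen_le_GG _)) inf_le_right).le ⟨e1 ▸ m4, l1⟩)
    (by rw [m6, conj_mul, P.inv.1]; simp)
  have m7 : w⁻¹ * (m * g) ∈ Ns (GG E6 y) := B.ct (mem_Cz.2 (by
    calc _ = w⁻¹ * (w * t * w⁻¹) * (m * g) := by group
      _ = _ := by rw [← w2, m6]; group))
  exact (mul_mem_cancel_left m1).1 ((mul_mem_cancel_left
    (inv_mem (le_normalizer (gen_le_GG _ w1)))).1 m7)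

end H99.TEF
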