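/- Tower NG (rows S4338, S4339, S4340): the slot E2. -/
import Cfsg.Agent.H36.NGSpec
import Cfsg.Agent.H87.PrimeSylow
import Cfsg.Agent.S4702

set_option autoImplicit false
set_option linter.unusedSectionVars false

namespace H99.NGE

open Subgroup MulAction

universe u

section
variable {G : Type u} [Group G] [Finite G] {p : ℕ} {j : G}

theorem card_cz {a b : G} (h : IsConj a b) :
    Nat.card (centralizer ({a} : Set G)) = Nat.card (centralizer ({b} : Set G)) := by
  obtain ⟨c, rfl⟩ := isConj_iff.1 h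
  refine Nat.card_congr ((MulAut.conj c).toEquiv.subtypeEquiv fun g => ?_)
  simp only [mem_centralizer_singleton_iff, MulEquiv.toEquiv_eq_coe, EquivLike.coe_coe, MulAut.conj_apply,
    conj_mul, mul_left_inj, mul_right_inj]

variable (hj : orderOf j = 2) (hC : Nat.card (centralizer ({j} : Set G)) = p + 1)
  (hu : ∀ u : G, u ≠ 1 → orderOf u ∣ p + 1 → IsConj j u)
include hj hC hu

theorem conj_of_mem {u : G} (h : u ∈ centralizer ({j} : Set G)) (h1 : u ≠ 1) : IsConj j u :=
  hu u h1 (hC ▸ orderOf_dvd_natCard _ h)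

theorem sq_one {u : G} (h : u ∈ centralizer ({j} : Set G)) : u * u = 1 := by
  by_cases h1 : u = 1
  · simp [h1]
  obtain ⟨c, rfl⟩ := isConj_iff.1 (conj_of_mem hj hC hu h h1)
  rw [conj_mul, ← pow_two, ← hj, pow_orderOf_eq_one, mul_one, mul_inv_cancel]

theorem cz_eq {u : G} (h : u ∈ centralizer ({j} : Set G)) (h1 : u ≠ 1) :
    centralizer ({j} : Set G) = centralizer ({u} : Set G) := by
  refine eq_of_le_of_card_ge (fun v hv => mem_centralizer_singleton_iff.2 ?_)
    (card_cz (conj_of_mem hj hC hu h h1)).ge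
  rw [← inv_eq_of_mul_eq_one_right (sq_one hj hC hu (mul_mem hv h)), mul_inv_rev,
    inv_eq_of_mul_eq_one_right (sq_one hj hC hu hv), inv_eq_of_mul_eq_one_right (sq_one hj hC hu h)]

theorem mem_N {u g : G} (h : u ∈ centralizer ({j} : Set G)) (h1 : u ≠ 1)
    (h2 : g⁻¹ * u * g ∈ centralizer ({j} : Set G)) :
    g ∈ normalizer (centralizer ({j} : Set G) : Set G) := by
  have e1 := cz_eq hj hC hu h h1
  have e2 := cz_eq hj hC hu h2 (fun e => h1 (by
    rwa [mul_assoc, inv_mul_eq_one, eq_comm, mul_eq_right] at e))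
  rw [mem_normalizer_iff]
  intro v
  rw [show v ∈ centralizer ({j} : Set G) ↔ v ∈ centralizer ({g⁻¹ * u * g} : Set G) by rw [← e2],
    show g * v * g⁻¹ ∈ centralizer ({j} : Set G) ↔ g * v * g⁻¹ ∈ centralizer ({u} : Set G) by rw [← e1],
    mem_centralizer_singleton_iff, mem_centralizer_singleton_iff]
  constructor
  · intro e
    rw [show g * v * g⁻¹ * u = g * (v * (g⁻¹ * u * g)) * g⁻¹ by group, e]
    group
  · intro e
    rw [show v * (g⁻¹ * u * g) = g⁻¹ * (g * v * g⁻¹ * u) * g by group, e]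
    group

theorem card_N : Nat.card (normalizer (centralizer ({j} : Set G) : Set G)) = p * (p + 1) := by
  have j1 : j ≠ 1 := fun e => by simp [e] at hj
  have jC : j ∈ centralizer ({j} : Set G) := mem_centralizer_singleton_iff.2 rfl
  have h1 := H87.card_conj_mem j (centralizer ({j} : Set G) : Set G)
  have h2 : Nat.card {g : G // g⁻¹ * j * g ∈ (centralizer ({j} : Set G) : Set G)} =
      Nat.card (normalizer (centralizer ({j} : Set G) : Set G)) :=
    Nat.card_congr (Equiv.subtypeEquivRight fun g => ⟨mem_N hj hC hu jC j1, fun h => by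
      simpa using (mem_normalizer_iff.1 (inv_mem h) j).1 jC⟩)
  have h3 : Nat.card {h : G // IsConj j h ∧ h ∈ (centralizer ({j} : Set G) : Set G)} = p := by
    have h4 := H87.card_ne_one_mem (centralizer ({j} : Set G))
    rw [hC, Nat.add_sub_cancel] at h4
    rw [← h4]
    exact Nat.card_congr (Equiv.subtypeEquivRight fun g => ⟨fun h => ⟨h.2, fun e => j1 (by
      simpa [e] using h.1)⟩, fun h => ⟨conj_of_mem hj hC hu h.1 h.2, h.1⟩⟩)
  rw [← h2, h1, h3, hC]

theorem mem_C (ho : Odd p) {v : G} (h : v ∈ normalizer (centralizer ({j} : Set G) : Set G))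
    (h2 : v ^ 2 = 1) : v ∈ centralizer ({j} : Set G) := by
  have h1 := ((centralizer ({j} : Set G)).subgroupOf
    (normalizer (centralizer ({j} : Set G) : Set G))).index_mul_card
  rw [card_N hj hC hu, Nat.card_congr (subgroupOfEquivOfLe le_normalizer).toEquiv, hC] at h1
  have h3 := pow_index_mem ((centralizer ({j} : Set G)).subgroupOf
    (normalizer (centralizer ({j} : Set G) : Set G))) ⟨v, h⟩
  rw [Nat.eq_of_mul_eq_mul_right (Nat.succ_pos p) h1, mem_subgroupOf] at h3
  obtain ⟨m, rfl⟩ := ho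
  simpa [pow_succ, pow_mul, h2] using h3

theorem two_pow : ∃ k, p + 1 = 2 ^ k := by
  have : IsPGroup 2 (centralizer ({j} : Set G)) := fun v =>
    ⟨1, Subtype.ext (by simpa [pow_two] using sq_one hj hC hu v.2)⟩
  obtain ⟨k, hk⟩ := this.exists_card_eq
  exact ⟨k, hC ▸ hk⟩

theorem fix_le (hp : p.Prime) (h3 : 3 < p) (hG : Nat.card G = p * (p + 1) * (p + 2))
    (inj : Function.Injective (toPermHom G (G ⧸ normalizer (centralizer ({j} : Set G) : Set G))))
    {g : G} (h1 : g ≠ 1) :
    Nat.card (fixedBy (G ⧸ normalizer (centralizer ({j} : Set G) : Set G)) g) ≤ 2 := by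
  classical
  have cN := card_N hj hC hu
  have mC := fun v => mem_C hj hC hu (hp.odd_of_ne_two (by omega)) (v := v)
  have mN := fun u g => mem_N hj hC hu (u := u) (g := g)
  obtain ⟨k, hk⟩ := two_pow hj hC hu
  generalize normalizer (centralizer ({j} : Set G) : Set G) = N at *
  have cQ : Nat.card (G ⧸ N) = p + 2 := by
    have := N.index_mul_card
    rw [cN, hG, mul_comm] at this
    exact Nat.eq_of_mul_eq_mul_left (by positivity) this
  obtain ⟨r, hr, rd⟩ := Nat.exists_prime_and_dvd (fun e => h1 (orderOf_eq_one_iff.1 e))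
  have o : orderOf (g ^ (orderOf g / r)) = r := orderOf_pow_orderOf_div (orderOf_pos g).ne' rd
  refine le_trans (Nat.card_mono (Set.toFinite _) (fixedBy_subset_fixedBy_zpow _ g (orderOf g / r : ℕ))) ?_
  rw [zpow_natCast]
  generalize g ^ (orderOf g / r) = y at o
  have key : ∀ x : G, (x : G ⧸ N) ∈ fixedBy (G ⧸ N) y → x⁻¹ * y * x ∈ N := fun x hx => by
    have := QuotientGroup.eq.1 (show ((x : G) : G ⧸ N) = (y * x : G) from (mem_fixedBy.1 hx).symm)
    rwa [← mul_assoc] at this
  have oc : ∀ x : G, orderOf (x⁻¹ * y * x) = r := fun x => by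
    rw [← o]
    exact (MulAut.conj x).symm.orderOf_eq y
  have y1 : y ≠ 1 := fun e => by
    rw [e, orderOf_one] at o
    exact hr.one_lt.ne o
  by_cases r2 : r = 2
  · subst r2
    refine le_trans (Finite.card_le_one_iff_subsingleton.2 ⟨?_⟩) one_le_two
    rintro ⟨a, ha⟩ ⟨b, hb⟩
    induction a using QuotientGroup.induction_on with | H a =>
    induction b using QuotientGroup.induction_on with | H b =>
    refine Subtype.ext (QuotientGroup.eq.2 (mN (a⁻¹ * y * a) _
      (mC _ (key a ha) (by rw [← oc a, pow_orderOf_eq_one])) (fun e => ?_) ?_))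
    · have := oc a
      rw [e, orderOf_one] at this
      omega
    · rw [show (a⁻¹ * b)⁻¹ * (a⁻¹ * y * a) * (a⁻¹ * b) = b⁻¹ * y * b by group]
      exact mC _ (key b hb) (by rw [← oc b, pow_orderOf_eq_one])
  by_contra hc
  have : Nonempty (fixedBy (G ⧸ N) y) := (Nat.card_pos_iff.1 (by omega)).1
  obtain ⟨⟨a, ha⟩⟩ := this
  induction a using QuotientGroup.induction_on with | H a =>
  have rp : r = p := by
    have := N.orderOf_dvd_natCard (key a ha)
    rw [oc, cN, hk] at this
    rcases (Nat.Prime.dvd_mul hr).1 this with h | h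
    · exact (Nat.prime_dvd_prime_iff_eq hr hp).1 h
    · exact absurd ((Nat.prime_dvd_prime_iff_eq hr Nat.prime_two).1 (hr.dvd_of_dvd_pow h)) r2
  subst rp
  have := Fact.mk hr
  have := Fintype.ofFinite (G ⧸ N)
  have m := Equiv.Perm.card_compl_support_modEq (p := r) (n := 1) (σ := toPermHom G (G ⧸ N) y)
    (by rw [pow_one, ← map_pow, ← o, pow_orderOf_eq_one, map_one])
  have e : Nat.card (fixedBy (G ⧸ N) y) = (toPermHom G (G ⧸ N) y).supportᶜ.card := by
    rw [← Nat.card_eq_finsetCard]
    exact Nat.card_congr (Equiv.subtypeEquivRight fun x => by simp)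
  have pos : 0 < (toPermHom G (G ⧸ N) y).support.card := Finset.card_pos.2 (Finset.nonempty_iff_ne_empty.2
    fun h => y1 (inj (by rw [Equiv.Perm.support_eq_empty_iff.1 h, map_one])))
  have lt := Finset.card_add_card_compl (toPermHom G (G ⧸ N) y).support
  rw [← e, ← Nat.card_eq_fintype_card, cQ] at m lt
  have := Nat.le_of_dvd (by omega) ((Nat.modEq_iff_dvd' (by omega)).1 m)
  omega

end

theorem jobE2 : H36.NG.JobE2.{u} := by
  classical
  intro G _ _ _ p hp h3 hG j hj hC hu
  refine ⟨two_pow hj hC hu, ?_⟩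
  have nab : ¬ IsMulCommutative G := H87.nonabelian_of_card_not_prime (by
    rw [hG]
    exact Nat.not_prime_mul (by nlinarith) (by omega))
  have cN := card_N hj hC hu
  have fl := fun inj g => fix_le hj hC hu hp h3 hG inj (g := g)
  generalize normalizer (centralizer ({j} : Set G) : Set G) = N at *
  have cQ : Nat.card (G ⧸ N) = p + 2 := by
    have := N.index_mul_card
    rw [cN, hG, mul_comm] at this
    exact Nat.eq_of_mul_eq_mul_left (by positivity) this
  obtain ⟨g0, hg0⟩ := H87.exists_smul_ne_quotient N (by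
    rintro rfl
    rw [show Nat.card (G ⧸ (⊤ : Subgroup G)) = 1 from index_top] at cQ
    omega)
  have inj := H87.toPermHom_injective (G ⧸ N) g0 _ hg0
  have := Fintype.ofFinite (G ⧸ N)
  rw [Nat.card_eq_fintype_card] at cQ
  have e : G ≃* (toPermHom G (G ⧸ N)).range := MonoidHom.ofInjective inj
  have hfix : ∀ σ : (toPermHom G (G ⧸ N)).range, 3 ≤ Nat.card (fixedBy (G ⧸ N) σ) → σ = 1 := by
    rintro ⟨_, g, rfl⟩ h
    by_contra h1
    have h2 : Nat.card (fixedBy (G ⧸ N) g) ≤ 2 := fl inj g fun e => h1 (Subtype.ext (by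
      subst e
      exact map_one _))
    exact absurd (h.trans h2) (by omega)
  have h3t : IsMultiplyPretransitive (toPermHom G (G ⧸ N)).range (G ⧸ N) 3 := by
    have cE : Nat.card (Fin 3 ↪ G ⧸ N) = p * (p + 1) * (p + 2) := by
      rw [Nat.card_eq_fintype_card, Fintype.card_embedding_eq, cQ, Fintype.card_fin]
      simp [Nat.descFactorial]
      ring
    refine ⟨fun x y => ?_⟩
    have hs : stabilizer (toPermHom G (G ⧸ N)).range x = ⊥ := by
      refine (eq_bot_iff_forall _).2 fun g hg => hfix g ?_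
      have h1 : ∀ i, g • x i = x i := fun i => DFunLike.congr_fun (mem_stabilizer_iff.1 hg) i
      have h2 := Nat.card_le_card_of_injective (fun i : Fin 3 => (⟨x i, h1 i⟩ : fixedBy (G ⧸ N) g))
        fun i j h => x.injective (congrArg Subtype.val h)
      rwa [Nat.card_fin] at h2
    have h1 := (stabilizer (toPermHom G (G ⧸ N)).range x).index_mul_card
    rw [index_stabilizer, hs, card_bot, mul_one, ← Nat.card_congr e.toEquiv, hG, ← cE] at h1
    have h2 := Set.eq_of_subset_of_ncard_le (Set.subset_univ (orbit (toPermHom G (G ⧸ N)).range x))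
      (by rw [Set.ncard_univ]; exact h1.ge)
    exact (h2 ▸ Set.mem_univ y : y ∈ orbit (toPermHom G (G ⧸ N)).range x)
  obtain ⟨a, -, h1, F, i1, i2, h2, ⟨f⟩⟩ := Cfsg.Agent.S4702.result (by omega)
    (by rw [cQ]; exact (hp.odd_of_ne_two (by omega)).add_even even_two) _ h3t hfix
  refine ⟨F, i1, i2, by omega, ⟨(e.trans f).trans ?_⟩⟩
  have hz : center (Matrix.SpecialLinearGroup (Fin 2) F) = ⊥ := by
    rw [← card_eq_one, ← Nat.card_congr (centerCongr (e.trans f)).toEquiv, H87.center_eq_bot nab, card_bot]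
  exact ((QuotientGroup.quotientMulEquivOfEq hz).trans QuotientGroup.quotientBot).symm

end H99.NGE
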