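import Cfsg.Agent.H99.WrF

/-! STD-H, section 9: `L` with an outer automorphism swapping `E` and `E'` (blueprints/STDH.md). -/

set_option autoImplicit false
open Subgroup Cfsg H98 H1.Gold

universe u

namespace H99.Wr

variable {G : Type u} [Group G]

/-- The Sylow 2-subgroup `S` of order `2⁷` with its two subgroups `2⁴`. -/
structure Sy (S E E' : Subgroup G) : Prop where
  two : IsPGroup 2 S
  ES : E ≤ S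
  E'S : E' ≤ S
  SN : S ≤ nor E
  SN' : S ≤ nor E'
  el : El E
  el' : El E'
  cE : Nat.card E = 16
  cE' : Nat.card E' = 16
  cZ : Nat.card ↥(E ⊓ E') = 4
  cS : Nat.card S = 128
  nc : ∀ e ∈ E, ∀ e' ∈ E', e * e' = e' * e → e ∈ E' ∨ e' ∈ E
  cenZ : S ⊓ cen (E ⊓ E') ≤ E ⊔ E'
  inv : ∃ s ∈ S, s * s = 1 ∧ s ∉ E ⊔ E'

/-- More facts about `L`. -/
structure Ox (L S E E' : Subgroup G) (P : G → Subgroup G) : Prop where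
  sy : Sy S E E'
  out : ∀ c ∈ nor L, (∃ x ∈ L, cj c E = cj x E) → ∃ k ∈ cen L, ∃ l ∈ L, c = k * l
  tr : ∀ a ∈ E, ∀ b ∈ E, a ≠ 1 → b ≠ 1 → ∃ n ∈ L ⊓ nor E, n * a * n⁻¹ = b
  tr' : ∀ a ∈ E', ∀ b ∈ E', a ≠ 1 → b ≠ 1 → ∃ n ∈ L ⊓ nor E', n * a * n⁻¹ = b
  sq : ∀ s ∈ S, s * s ∈ E → ∃ n ∈ L ⊓ nor E, n * s * n⁻¹ ∈ E ⊔ E'
  rho : ∃ ρ ∈ L ⊓ nor E ⊓ nor E', (∃ k, ρ ^ 3 ^ k = 1) ∧ ∀ j ∈ E ⊔ E', ρ * j = j * ρ → j = 1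
  idx : (cen E).relIndex (L ⊓ nor E) = 2520
  qs : ∀ x ∈ L, orderOf x = 2 → ∀ M ≤ L ⊓ cen1 x, L ⊓ cen1 x ≤ nor M → P x ≤ M ∨ M ≤ cen (P x)
  EP : ∀ x ∈ L, orderOf x = 2 → ∃ l ∈ L, cj l E ≤ P x

/-- All facts about `L`. -/
def FactsO (L : Subgroup G) : Prop :=
  ∃ (S E E' : Subgroup G) (f : G) (P : G → Subgroup G), Dat L S E E' f ∧ P0 L P ∧
    Par L S E (L ⊓ nor E') E' ∧ ParAb L E (L ⊓ nor E') E' ∧ Ox L S E E' P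

def JobMcLO : Prop := ∀ (G : Type u) [Group G] [Finite G] (L : Subgroup G), IsQuasisimple L →
  Spor.IsoMcL (L ⧸ oddCore L) → FactsO L

/-- `A₇` in `GL₄(2)`: a proper overgroup has order divisible by 64. -/
def JobA7Max : Prop := ∀ (G : Type u) [Group G] [Finite G] (N M E : Subgroup G), El E →
  Nat.card E = 16 → N ≤ M → M ≤ nor E → (cen E).relIndex N = 2520 →
  M ≤ N ⊔ cen E ∨ 64 ∣ (cen E).relIndex M

/-- an involution swapping `E` and `E'` -/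
def JobSW : Prop := ∀ (G : Type u) [Group G] [Finite G] (S E E' : Subgroup G) (v : G), Sy S E E' →
  cj v E = E' → cj v E' = E → (∀ A ≤ S, El A → A ≤ cen1 v → Nat.card A ≤ 4) ∧
    (v ∈ nor S → v * v = 1 → ∃ y ∈ S, y * v = v * y ∧ y * y ∈ E ⊓ E' ∧ y * y ≠ 1 ∧
      ∃ x ∈ E ⊔ E', x * v * x⁻¹ = y * y * v)

/-- the outer coset contains an involution -/
def JobOut : Prop := ∀ (G : Type u) [Group G] [Finite G] (L S E E' : Subgroup G)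
  (P : G → Subgroup G) (v : G), IsSyl 2 S L → Ox L S E E' P → v ∈ nor L → v ∈ nor S →
  cj v E = E' → cj v E' = E → v * v ∈ S → ∃ s ∈ S, s * v * (s * v) = 1

def Job0O : Prop := JobSW.{u} → ∀ (G : Type u) [Group G] [Finite G] (L S E E' : Subgroup G) (f : G)
  (P : G → Subgroup G), AS G → IsStandardSubgroup L → Odd (Nat.card ↥(L ⊓ cen L)) →
  Dat L S E E' f → P0 L P → Ox L S E E' P → ∃ t O, Cen t L O E

/-- one of `E₁`, `E₁'`, `E₁^t`, `E₁'^t` -/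
def Fam (t : G) (E₁ F₁ A : Subgroup G) : Prop := A = E₁ ∨ A = F₁ ∨ A = cj t E₁ ∨ A = cj t F₁

/-- everything known after step 4 (`F₁ = half t S₁ E'`) -/
structure Ct (t f : G) (L O S E E' E₁ F₁ Y₁ S₁ : Subgroup G) (P : G → Subgroup G) : Prop where
  c : Cen t L O E
  d : Dat L S E E' f
  o : Ox L S E E' P
  s1 : St1 t L O E E₁
  s4 : St4 t L O S E E₁ Y₁ S₁
  hF : F₁ = half t S₁ E'
  xn : L ⊓ nor E' ≤ nor F₁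

/-- `T₀⟨t⟩` is not a Sylow 2-subgroup: the Sylow 2-subgroup `T` permutes the four groups. -/
structure Sq (t σ : G) (E₁ F₁ S₁ T : Subgroup G) : Prop where
  syl : IsSyl 2 T ⊤
  T0 : S₁ ⊔ cj t S₁ ≤ T
  tT : t ∈ T
  σT : σ ∈ T
  σt : σ * t = t * σ
  σσ : σ * σ = 1
  σE : cj σ E₁ = F₁
  TJ : T ≤ nor (E₁ ⊔ F₁ ⊔ cj t (E₁ ⊔ F₁))
  perm : ∀ n ∈ nor (E₁ ⊔ F₁ ⊔ cj t (E₁ ⊔ F₁)), Fam t E₁ F₁ (cj n E₁)
  ker : ∀ τ ∈ T, τ ∈ nor E₁ → τ ∈ nor (cj t E₁) → τ ∈ S₁ ⊔ cj t S₁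
  big : ∀ A ≤ T, El A → 256 ≤ Nat.card A → A ≤ S₁ ⊔ cj t S₁
  nW : ∀ n ∈ nor (E₁ ⊔ cj t E₁), n ∈ nor E₁ ∨ n * t ∈ nor E₁
  sylW : IsSyl 2 (S₁ ⊔ cj t S₁ ⊔ zpowers t) (nor (E₁ ⊔ cj t E₁))

def JobOA : Prop := JobOut.{u} → ∀ (G : Type u) [Group G] [Finite G] (t f : G)
  (L O S E E' E₁ F₁ Y₁ S₁ : Subgroup G) (P : G → Subgroup G), Ct t f L O S E E' E₁ F₁ Y₁ S₁ P →
  IsSyl 2 (S₁ ⊔ cj t S₁ ⊔ zpowers t) ⊤ ∨ ∃ σ T, Sq t σ E₁ F₁ S₁ T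

/-- fusion in `T` -/
structure Fu (t : G) (E₁ F₁ S₁ T : Subgroup G) : Prop where
  pure : ∀ v ∈ E₁, ∀ g : G, g * v * g⁻¹ ∈ S₁ ⊔ cj t S₁ → g * v * g⁻¹ ∈ S₁ ∨ g * v * g⁻¹ ∈ cj t S₁
  norS : T ⊓ nor (E₁ ⊔ F₁) ≤ nor S₁ ⊓ nor (cj t S₁)
  cls : ∃ z ∈ E₁ ⊓ F₁, z ≠ 1 ∧ T ⊓ nor (E₁ ⊔ F₁) ≤ cen1 z ∧ ∀ u ∈ S₁ ⊔ cj t S₁, u * u = 1 →
    u = 1 ∨ (∃ g : G, g * u * g⁻¹ = z) ∨ ∃ g : G, g * u * g⁻¹ = dg t z
  tn : ∀ g : G, g * t * g⁻¹ ∉ T ⊓ nor (E₁ ⊔ F₁)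
  out : ∀ v : G, v * t = t * v → v * v = 1 → cj v (E₁ ⊔ cj t E₁) = F₁ ⊔ cj t F₁ →
    ∀ g : G, g * v * g⁻¹ ∉ S₁ ⊔ cj t S₁

def JobOB : Prop := JobSW.{u} → ∀ (G : Type u) [Group G] [Finite G] (t f σ : G)
  (L O S E E' E₁ F₁ Y₁ S₁ T : Subgroup G) (P : G → Subgroup G), Ct t f L O S E E' E₁ F₁ Y₁ S₁ P →
  Sq t σ E₁ F₁ S₁ T → Fu t E₁ F₁ S₁ T

/-- the case `T ∩ G₀ = N_T(E₁ F₁)` -/
def JobOC : Prop := JobSW.{u} → JobA7Max.{u} → ∀ (G : Type u) [Group G] [Finite G] (t f σ : G)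
  (L O S E E' E₁ F₁ Y₁ S₁ T G₀ : Subgroup G) (P : G → Subgroup G),
  Ct t f L O S E E' E₁ F₁ Y₁ S₁ P → Sq t σ E₁ F₁ S₁ T → Fu t E₁ F₁ S₁ T → G₀.Normal →
  res 2 ⊤ ≤ G₀ → T ⊓ G₀ = T ⊓ nor (E₁ ⊔ F₁) →
  ∀ g : G, g * σ * g⁻¹ ∈ T ⊓ nor (E₁ ⊔ F₁) → g * σ * g⁻¹ ∉ nor (cj t E₁)

def JobOD : Prop := JobOC.{u} → JobSW.{u} → JobA7Max.{u} → ∀ (G : Type u) [Group G] [Finite G] (t f σ : G)
  (L O S E E' E₁ F₁ Y₁ S₁ T : Subgroup G) (P : G → Subgroup G),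
  Ct t f L O S E E' E₁ F₁ Y₁ S₁ P → Sq t σ E₁ F₁ S₁ T → Fu t E₁ F₁ S₁ T →
  T ⊓ res 2 ⊤ = S₁ ⊔ cj t S₁

theorem Cen.in0_or [Finite G] {t f c : G} {L O S E E' : Subgroup G} (hC : Cen t L O E)
    (hD : Dat L S E E' f) (hc : c ∈ cen1 t) : In0 t L O c ∨ ∃ x ∈ L, cj c E = cj x E' := by
  obtain ⟨x, hx, h3⟩ := hD.syl.exists_cj_le (hD.el.cj c).two (cj_le_of_le hD.EL (hC.norL hc))
  rcases hD.two _ h3 ((hD.el.cj c).cj x) (by rw [card_cj, card_cj]) with e | e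
  · exact Or.inl (hC.c2 c hc ⟨x⁻¹, inv_mem hx, by rw [← cj_inj (g := x), e, cj_cj_inv]⟩)
  · exact Or.inr ⟨x⁻¹, inv_mem hx, by rw [← e, cj_inv_cj]⟩

theorem wrfO_of (sw : JobSW.{u}) (ou : JobOut.{u}) (am : JobA7Max.{u}) (j0 : Job0O.{u}) (ja : JobOA.{u}) (jb : JobOB.{u}) (jc : JobOC.{u})
    (jd : JobOD.{u}) {G : Type u} [Group G] [Finite G] {L : Subgroup G} (hA : AS G)
    (hL : IsStandardSubgroup L) (hZ : Odd (Nat.card ↥(L ⊓ cen L))) : ¬ FactsO L := by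
  rintro ⟨S, E, E', f, P, hD, hP, hX, hR, hO⟩
  obtain ⟨t, O, hC⟩ := j0 sw G L S E E' f P hA hL hZ hD hP hO
  obtain ⟨E₁, h1⟩ := H53.Wr.job1 G t f L O S E E' hC hD
  obtain ⟨Y₁, S₁, h4⟩ := job4 G t f L O S E E' E₁ hC hD h1 (H67.Wr.job3 G t f L O S E E' E₁ hC hD h1)
  have hn := H53.Wr.jobAb G t f L O S E E' E₁ Y₁ S₁ _ _ hC hD (fun c hc h2 => by
    refine (hC.in0_or hD hc).elim id fun ⟨x, hx, e⟩ => hC.c2 c hc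
      ⟨x * (c⁻¹ * x⁻¹ * c), mul_mem hx (conj_mem_of_mem_normalizer' (hC.norL hc) (inv_mem hx)), ?_⟩
    rw [← cj_cj, ← cj_cj, e, cj_cj (c⁻¹ * x⁻¹), inv_mul_cancel_right, cj_eq_self
      (inv_mem (le_normalizer_of_le_centralizer le_rfl h2))]) h1 h4 hX hR
  have hc : Ct t f L O S E E' E₁ _ Y₁ S₁ P := ⟨hC, hD, hO, h1, h4, rfl, hn⟩
  have w := h4.wp hC
  have tn := t_mem_nor w.tt S₁
  have tT : t ∉ S₁ ⊔ cj t S₁ := by simpa using h4.tnT hC hD h1 1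
  have YG : Y₁ ≤ res 2 ⊤ := (res_eq_of_perfect (p := 2) h4.perf).ge.trans (res_mono le_top)
  have nm : (res 2 (⊤ : Subgroup G)).Normal := res_top (G := G) (p := 2) ▸ pResidual_normal'
  rcases ja ou G t f L O S E E' E₁ _ Y₁ S₁ P hc with hs | ⟨σ, T, hq⟩
  · obtain ⟨G₀, hN, hi, ht⟩ := H8.thompson_transfer (S₁ ⊔ cj t S₁ ⊔ zpowers t) (S₁ ⊔ cj t S₁)
      (Nat.not_even_iff_odd.1 fun e => hs.not_dvd_relIndex (by simpa using e.two_dvd))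
      (index_eq_two_iff.2 ⟨⟨t, mem_sup_right (mem_zpowers t)⟩, fun b => by
        simp only [mem_subgroupOf, coe_mul]
        rcases mem_coset tn w.tt b.2 with e | e
        · exact Or.inr ⟨e, fun e' => tT (by simpa using mul_mem (inv_mem e) e')⟩
        · exact Or.inl ⟨e, fun e' => tT (by simpa using mul_mem (inv_mem e') e)⟩⟩)
      t (by rw [pow_two, w.tt]) (h4.tnT hC hD h1)
    have hY := perf_le_of_index_two h4.perf hi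
    have tG : t ∈ nor G₀ := by simp [normalizer_eq_top]
    have TG : S₁ ⊔ cj t S₁ ≤ G₀ := sup_le (h4.SY.trans hY) (cj_le_of_le (h4.SY.trans hY) tG)
    have := hs.inf_of_le_normalizer (N := G₀) le_top (by simp [normalizer_eq_top])
    rw [show (S₁ ⊔ cj t S₁ ⊔ zpowers t) ⊓ G₀ = S₁ ⊔ cj t S₁ from
      le_antisymm (fun x hx => (mem_coset tn w.tt hx.1).resolve_right fun e =>
        ht (by simpa using G₀.mul_mem (G₀.inv_mem hx.2) (TG e))) (le_inf le_sup_left TG)] at this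
    exact Ct6.fin ⟨hC, hD, h1, h4, hN, this, hY⟩ hA hX hn
  · have := hq.syl.inf_of_le_normalizer (N := res 2 ⊤) le_top
      (le_top.trans (self_le_normalizer_res ⊤))
    rw [jd jc sw am G t f σ L O S E E' E₁ _ Y₁ S₁ T P hc hq (jb sw G t f σ L O S E E' E₁ _ Y₁ S₁ T P hc hq)]
      at this
    exact Ct6.fin ⟨hC, hD, h1, h4, nm, this, YG⟩ hA hX hn

end H99.Wr
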