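import Cfsg.Agent.H99.WrOA

/-! STD-H, section 9: JobOB. -/

set_option autoImplicit false
open Subgroup Cfsg H98 H1.Gold

universe u

namespace H99.Wr

variable {G : Type u} [Group G]

theorem cj_sq {g x : G} (h : x * x = 1) : g * x * g⁻¹ * (g * x * g⁻¹) = 1 := by
  calc _ = g * (x * x) * g⁻¹ := by group
    _ = 1 := by rw [h]; group

/-- every element of `E ∩ E'` is a square in `E E'` -/
theorem Sy.sq_Z [Finite G] {S E E' : Subgroup G} (h : Sy S E E') {z : G} (hz : z ∈ E ⊓ E') :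
    ∃ y ∈ E ⊔ E', y * y = z := by
  obtain ⟨e, he, h1⟩ := h.exists_not
  let φ : E' →* ↥(E ⊓ E') :=
    { toFun := fun x => ⟨e * x * (e * x), h.comm_mem he x.2⟩
      map_one' := Subtype.ext (by simpa using h.el e he)
      map_mul' := fun x y => Subtype.ext (by
        have c := h.el'.comm (h.comm_mem he y.2).2 x.2
        have c2 := h.el'.comm x.2 y.2
        have ee := h.el e he
        show e * (x * y) * (e * (x * y)) = e * x * (e * x) * (e * y * (e * y))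
        calc e * (x * y) * (e * (x * y)) = e * x * (e * e) * y * e * (x * y) := by rw [ee]; group
          _ = e * x * e * (e * y * (e * y) * x) := by rw [c2]; group
          _ = _ := by rw [c]; group) }
  have h2 : φ.ker = (E ⊓ E').subgroupOf E' := by
    ext x
    rw [MonoidHom.mem_ker, mem_subgroupOf, Subtype.ext_iff]
    refine ⟨fun e1 => ⟨(h.nc e he x x.2 (h.comm_of_sq he x.2 e1)).resolve_left h1, x.2⟩,
      fun e1 => h.el _ (E.mul_mem he e1.1)⟩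
  have h3 := φ.ker.card_mul_index
  rw [index_ker, h2, Nat.card_congr (subgroupOfEquivOfLe inf_le_right).toEquiv, h.cZ, h.cE'] at h3
  obtain ⟨x, hx⟩ := (eq_top_of_card_eq φ.range (by rw [h.cZ]; omega)).ge (mem_top ⟨z, hz⟩)
  exact ⟨_, h.mem_J.2 ⟨e, he, x, x.2, rfl⟩, congrArg Subtype.val hx⟩

namespace Ct
variable [Finite G] {t f : G} {L O S E E' E₁ F₁ Y₁ S₁ : Subgroup G} {P : G → Subgroup G}
  (h : Ct t f L O S E E' E₁ F₁ Y₁ S₁ P)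
include h

omit [Finite G] in
theorem one_or {a b : G} (ha : a ∈ S₁) (hb : b ∈ cj t S₁) (e : a * b ∈ S₁ ∨ a * b ∈ cj t S₁) :
    a = 1 ∨ b = 1 := by
  rcases e with e | e
  · exact Or.inr (mem_bot.1 (h.w.bot ▸ (⟨by simpa using S₁.mul_mem (S₁.inv_mem ha) e, hb⟩ :
      b ∈ S₁ ⊓ cj t S₁)))
  · exact Or.inl (mem_bot.1 (h.w.bot ▸ (⟨ha, by simpa using Subgroup.mul_mem _ e (Subgroup.inv_mem _ hb)⟩ :
      a ∈ S₁ ⊓ cj t S₁)))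

theorem fam_side {A : Subgroup G} (hA : Fam t E₁ F₁ A) : A ≤ S₁ ∨ A ≤ cj t S₁ := by
  rcases hA with rfl | rfl | rfl | rfl
  exacts [Or.inl h.sy₁.ES, Or.inl h.sy₁.E'S, Or.inr h.sy₂.ES, Or.inr h.sy₂.E'S]

theorem fam_sides {A B : Subgroup G} (hA : Fam t E₁ F₁ A) (hB : Fam t E₁ F₁ B) (hc : A ≤ cen B)
    (hn : A ≠ B) : (A ≤ S₁ ∧ B ≤ cj t S₁) ∨ (A ≤ cj t S₁ ∧ B ≤ S₁) := by
  have s1 := h.sy₁
  have s2 := h.sy₂
  rcases hA with rfl | rfl | rfl | rfl <;> rcases hB with rfl | rfl | rfl | rfl <;>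
    first
    | exact (hn rfl).elim | exact (s1.not_cen hc).elim | exact (s1.symm.not_cen hc).elim
    | exact (s2.not_cen hc).elim | exact (s2.symm.not_cen hc).elim
    | simp [s1.ES, s1.E'S, s2.ES, s2.E'S]

omit [Finite G] in
theorem conj_pair {y y' a b : G} (hy : y ∈ Y₁) (hy' : y' ∈ Y₁) (ha : a ∈ Y₁) (hb : b ∈ Y₁) :
    y * (t * y' * t⁻¹) * (a * (t * b * t⁻¹)) * (y * (t * y' * t⁻¹))⁻¹ =
      y * a * y⁻¹ * (t * (y' * b * y'⁻¹) * t⁻¹) := by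
  have c1 := h.s4.comm a ha _ (conj_mem_cj (g := t) hy')
  have c2 := h.s4.comm _ (inv_mem hy) _ (conj_mem_cj (g := t) (mul_mem (mul_mem hy' hb) (inv_mem hy')))
  calc _ = y * (t * y' * t⁻¹ * a) * (t * (b * y'⁻¹) * t⁻¹) * y⁻¹ := by group
    _ = y * a * (t * (y' * b * y'⁻¹) * t⁻¹ * y⁻¹) := by rw [← c1]; group
    _ = _ := by rw [← c2]; group

theorem exists_Z : ∃ z ∈ E₁ ⊓ F₁, z ≠ 1 := (bot_or_exists_ne_one _).resolve_left fun e => by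
  have := h.sy₁.cZ
  simp [e] at this

theorem inv_F {a : G} (ha : a ∈ S₁) (h2 : a * a = 1) : ∃ y ∈ Y₁, y * a * y⁻¹ ∈ F₁ := by
  obtain ⟨y, hy, e | e⟩ := h.inv_J ha h2
  · by_cases h1 : y * a * y⁻¹ = 1
    · exact ⟨y, hy, h1 ▸ F₁.one_mem⟩
    obtain ⟨z, hz, h3⟩ := h.exists_Z
    obtain ⟨y', hy', e'⟩ := h.tr₁ e hz.1 h1 h3
    exact ⟨y' * y, mul_mem hy' hy, by
      rw [show y' * y * a * (y' * y)⁻¹ = y' * (y * a * y⁻¹) * y'⁻¹ by group, e']; exact hz.2⟩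
  · exact ⟨y, hy, e⟩

theorem dg_pure {e : G} (he : e ∈ E) (h1 : e ∈ S₁ ∨ e ∈ cj t S₁) : e = 1 := by
  obtain ⟨a, ha, rfl⟩ := h.s1.dbl.sur e he
  rcases h.one_or (h.s4.ES ha) (conj_mem_cj (h.s4.ES ha)) h1 with e1 | e1
  · rw [e1, dg_one]
  · rw [conj_eq_one_iff.1 e1, dg_one]

end Ct

namespace Sq
variable [Finite G] {t f σ : G} {L O S E E' E₁ F₁ Y₁ S₁ T : Subgroup G} {P : G → Subgroup G}
  (q : Sq t σ E₁ F₁ S₁ T) (h : Ct t f L O S E E' E₁ F₁ Y₁ S₁ P)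
include q h

theorem pair {k : G} (hk : cj k (E₁ ⊔ cj t E₁) ≤ T) : Fam t E₁ F₁ (cj k E₁) := by
  have elW := h.s1.dbl.elW
  obtain ⟨K, M, hK, hM, e⟩ := h.cj_pair (Or.inl rfl) (Or.inl rfl)
    (q.big _ hk (elW.cj k) (by rw [card_cj, h.card_W]))
  have nK : ∀ {K : Subgroup G}, K = E₁ ∨ K = F₁ → S₁ ≤ nor K := by
    rintro K (rfl | rfl)
    exacts [h.sy₁.SN, h.sy₁.SN']
  have hs := q.sylW.cj k
  rw [cj_normalizer] at hs
  obtain ⟨n, hn, h1⟩ := hs.exists_cj_le (h.w.two h.s4.two)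
    (e ▸ h.w.nor_pair (h.fam_le hK).2.1 (h.fam_le hM).2.1 (nK hK) (nK hM))
  rw [le_cj_iff, cj_cj] at h1
  have T1T : S₁ ⊔ cj t S₁ ⊔ zpowers t ≤ T := sup_le q.T0 (zpowers_le.2 q.tT)
  have mJ : k⁻¹ * n ∈ nor (E₁ ⊔ F₁ ⊔ cj t (E₁ ⊔ F₁)) := mem_normalizer_of_cj_le (by
    have key : ∀ K, K = E₁ ∨ K = F₁ → cj (k⁻¹ * n) (K ⊔ cj t K) ≤ E₁ ⊔ F₁ ⊔ cj t (E₁ ⊔ F₁) :=
      fun K hK => by
      obtain ⟨-, a, b, c⟩ := h.fam_le hK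
      obtain ⟨K', M', h2, h3, e⟩ := h.cj_pair hK hK (q.big _
        (((cj_mono _ ((h.pair_le hK hK).trans h.J_le)).trans h1).trans T1T)
        ((h.w.el_pair a a b b).cj _) (by rw [card_cj, h.w.card_pair a a, c]))
      exact e ▸ h.pair_le h2 h3
    refine le_trans (le_of_eq ?_) (sup_le (key _ (Or.inl rfl)) (key _ (Or.inr rfl)))
    rw [cj_sup t, sup_sup_sup_comm, cj_sup])
  have b := h.blkW (mem_cj.1 ((cj_normalizer k _).ge hn))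
  have e1 : ∀ A : Subgroup G, cj k A = cj (k⁻¹ * n)⁻¹ (cj (k⁻¹ * n * k) A) := fun A => by
    rw [cj_cj]; congr 1; group
  rcases b with b | b
  · rw [e1, b.1]; exact q.fam (inv_mem mJ) _ (Or.inl rfl)
  · rw [e1, b.1]; exact q.fam (inv_mem mJ) _ (Or.inr (Or.inr (Or.inl rfl)))

theorem ctrlW {g v : G} (hv : v ∈ E₁) {a b : G} (ha : a ∈ E₁) (hb : b ∈ cj t E₁)
    (e : g * v * g⁻¹ = a * b) : a = 1 ∨ b = 1 := by
  have el := h.s1.dbl.elW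
  have hW : g * v * g⁻¹ ∈ E₁ ⊔ cj t E₁ := e ▸ mul_mem (mem_sup_left ha) (mem_sup_right hb)
  obtain ⟨Q, hQ, h2⟩ := exists_isSyl_le (H := cen1 (g * v * g⁻¹)) el.two fun x hx =>
    mem_cen1.2 (el.comm hx hW)
  obtain ⟨c, hc, h3⟩ := hQ.exists_cj_le (el.cj g).two
    fun x hx => mem_cen1.2 ((el.cj g).comm hx (conj_mem_cj (mem_sup_left hv)))
  obtain ⟨k, -, h4⟩ := q.syl.exists_cj_le hQ.isPGroup le_top
  have h5 := (cj_mono k h2).trans h4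
  have f1 := q.pair h h5
  have f2 := q.pair h (k := k * t) (by rwa [← cj_cj, cj_eq_self (t_mem_nor h.c.tt E₁)])
  have f3 := q.pair h (k := k * (c * g)) (by rw [← cj_cj, ← cj_cj]; exact (cj_mono k h3).trans h4)
  rw [← cj_cj] at f2
  have e2 : k * (c * g) * v * (k * (c * g))⁻¹ = k * a * k⁻¹ * (k * b * k⁻¹) := by
    calc _ = k * (c * (g * v * g⁻¹) * c⁻¹) * k⁻¹ := by group
      _ = _ := by rw [cj_of_comm (mem_cen1.1 hc), e]; group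
  have h6 : k * a * k⁻¹ * (k * b * k⁻¹) ∈ S₁ ∨ k * a * k⁻¹ * (k * b * k⁻¹) ∈ cj t S₁ :=
    e2 ▸ (h.fam_side f3).imp (fun x => x (conj_mem_cj hv)) fun x => x (conj_mem_cj hv)
  rcases h.fam_sides f1 f2 ((cj_mono k h.wE.le_cen₁).trans (cj_centralizer _ _).le)
    (fun e1 => h.t_not_E (cj_eq_self_iff.1 (cj_inj.1 e1).symm)) with ⟨x1, x2⟩ | ⟨x1, x2⟩
  · simpa using h.one_or (x1 (conj_mem_cj ha)) (x2 (conj_mem_cj hb)) h6
  · rw [← h.w.comm _ (x2 (conj_mem_cj hb)) _ (x1 (conj_mem_cj ha))] at h6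
    simpa [or_comm] using h.one_or (x2 (conj_mem_cj hb)) (x1 (conj_mem_cj ha)) h6

/-- an involution of `T₀` is moved into `W` -/
theorem toW {a b : G} (ha : a ∈ S₁) (hb : b ∈ S₁) (h1 : a * a = 1) (h2 : b * b = 1) :
    ∃ g : G, ∃ a' ∈ E₁, ∃ b' ∈ E₁, g * (a * (t * b * t⁻¹)) * g⁻¹ = a' * (t * b' * t⁻¹) ∧
      (a' = 1 ↔ a = 1) ∧ (b' = 1 ↔ b = 1) := by
  obtain ⟨y, hy, e⟩ := h.inv_F ha h1
  obtain ⟨y', hy', e'⟩ := h.inv_F hb h2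
  refine ⟨σ * (y * (t * y' * t⁻¹)), _, q.σF ▸ conj_mem_cj e, _, q.σF ▸ conj_mem_cj e', ?_,
    by simp, by simp⟩
  calc _ = σ * (y * (t * y' * t⁻¹) * (a * (t * b * t⁻¹)) * (y * (t * y' * t⁻¹))⁻¹) * σ⁻¹ := by group
    _ = σ * (y * a * y⁻¹) * σ⁻¹ * (σ * t * (y' * b * y'⁻¹) * (σ * t)⁻¹) := by
      rw [h.conj_pair hy hy' (h.s4.SY ha) (h.s4.SY hb)]; group
    _ = _ := by rw [q.σt]; group

theorem pure {v : G} (hv : v ∈ E₁) (g : G) (hg : g * v * g⁻¹ ∈ S₁ ⊔ cj t S₁) :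
    g * v * g⁻¹ ∈ S₁ ∨ g * v * g⁻¹ ∈ cj t S₁ := by
  obtain ⟨a, ha, b, hb, e⟩ := h.w.mem_T.1 hg
  obtain ⟨h1, h2⟩ := h.w.sq_pair ha hb (e ▸ cj_sq (h.sy₁.el v hv))
  obtain ⟨k, a', ha', b', hb', e', h3, h4⟩ := q.toW h ha hb h1 h2
  rcases q.ctrlW h (g := k * g) hv ha' (conj_mem_cj hb') (by rw [← e', ← e]; group) with e1 | e1
  · exact Or.inr (by rw [e, h3.1 e1, one_mul]; exact conj_mem_cj hb)
  · exact Or.inl (by rw [e, h4.1 (conj_eq_one_iff.1 e1)]; simpa using ha)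

theorem pure' {a : G} (ha : a ∈ S₁) (h2 : a * a = 1) (g : G) (hg : g * a * g⁻¹ ∈ S₁ ⊔ cj t S₁) :
    g * a * g⁻¹ ∈ S₁ ∨ g * a * g⁻¹ ∈ cj t S₁ := by
  obtain ⟨y, -, e⟩ := h.inv_F ha h2
  have e1 : g * (σ * y)⁻¹ * (σ * (y * a * y⁻¹) * σ⁻¹) * (g * (σ * y)⁻¹)⁻¹ = g * a * g⁻¹ := by group
  exact e1 ▸ q.pure h (q.σF ▸ conj_mem_cj e) _ (e1 ▸ hg)

theorem star_t {τ : G} (hτ : τ ∈ T ⊓ nor (E₁ ⊔ F₁)) : t⁻¹ * τ * t ∈ T ⊓ nor (E₁ ⊔ F₁) :=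
  conj_mem_of_mem_normalizer' (q.T_nor_star h q.tT) hτ

theorem norS₁ {τ : G} (hτ : τ ∈ T ⊓ nor (E₁ ⊔ F₁)) : τ ∈ nor S₁ := by
  have s1 := h.sy₁
  obtain ⟨s, hs, h2, h3⟩ := s1.inv
  have h4 : τ * s * τ⁻¹ ∈ S₁ := (q.pure' h hs h2 τ (conj_mem_of_mem_normalizer (q.T_nor_T0 h hτ.1)
    (mem_sup_left hs))).resolve_right fun e => h3 (mem_sup_left (s1.cen_S hs
      (mem_cen.2 fun x hx => by
        simpa [mul_assoc] using congrArg (· * τ) (h.w.comm _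
          (s1.J_le (conj_mem_of_mem_normalizer hτ.2 (mem_sup_left hx))) _ e))))
  refine mem_normalizer_of_cj_le ?_
  rintro _ ⟨x, hx, rfl⟩
  show τ * x * τ⁻¹ ∈ S₁
  by_cases h5 : x ∈ E₁ ⊔ F₁
  · exact s1.J_le (conj_mem_of_mem_normalizer hτ.2 h5)
  · have := S₁.mul_mem (s1.J_le (conj_mem_of_mem_normalizer hτ.2
      ((s1.mul_mem_J hx hs).2 (iff_of_false h5 h3)))) (S₁.inv_mem h4)
    simpa [mul_assoc] using this

theorem norS₂ {τ : G} (hτ : τ ∈ T ⊓ nor (E₁ ⊔ F₁)) : τ ∈ nor (cj t S₁) :=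
  (cj_normalizer t S₁).le (mem_cj.2 (q.norS₁ h (q.star_t h hτ)))

theorem cls {z : G} (hz : z ∈ E₁) (h1 : z ≠ 1) {u : G} (hu : u ∈ S₁ ⊔ cj t S₁) (h2 : u * u = 1) :
    u = 1 ∨ (∃ g : G, g * u * g⁻¹ = z) ∨ ∃ g : G, g * u * g⁻¹ = dg t z := by
  obtain ⟨a, ha, b, hb, rfl⟩ := h.w.mem_T.1 hu
  obtain ⟨h3, h4⟩ := h.w.sq_pair ha hb h2
  obtain ⟨k, a', ha', b', hb', e, h5, h6⟩ := q.toW h ha hb h3 h4
  have EY := h.s4.ES.trans h.s4.SY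
  by_cases c1 : a' = 1 <;> by_cases c2 : b' = 1
  · exact Or.inl (by simp [h5.1 c1, h6.1 c2])
  · obtain ⟨y, -, e'⟩ := h.tr₁ hb' hz c2 h1
    refine Or.inr (Or.inl ⟨y * t⁻¹ * k, ?_⟩)
    calc _ = y * t⁻¹ * (k * (a * (t * b * t⁻¹)) * k⁻¹) * t * y⁻¹ := by group
      _ = z := by rw [e, c1, ← e']; group
  · obtain ⟨y, -, e'⟩ := h.tr₁ ha' hz c1 h1
    refine Or.inr (Or.inl ⟨y * k, ?_⟩)
    calc _ = y * (k * (a * (t * b * t⁻¹)) * k⁻¹) * y⁻¹ := by group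
      _ = z := by rw [e, c2, ← e']; group
  · obtain ⟨y, hy, e1⟩ := h.tr₁ ha' hz c1 h1
    obtain ⟨y', hy', e2⟩ := h.tr₁ hb' hz c2 h1
    refine Or.inr (Or.inr ⟨y * (t * y' * t⁻¹) * k, ?_⟩)
    calc _ = y * (t * y' * t⁻¹) * (k * (a * (t * b * t⁻¹)) * k⁻¹) * (y * (t * y' * t⁻¹))⁻¹ := by group
      _ = _ := by rw [e, h.conj_pair hy hy' (EY ha') (EY hb'), e1, e2]; rfl

/-- an involution of `S₁` is not a square in the centraliser of a conjugate of `t` -/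
theorem not_sq {g y : G} (hy : y * (g * t * g⁻¹) = g * t * g⁻¹ * y) (h1 : y * y ∈ S₁)
    (h2 : y * y * (y * y) = 1) : y * y = 1 := by
  have c : g⁻¹ * y * g ∈ cen1 t := mem_cen1.2 (by
    calc g⁻¹ * y * g * t = g⁻¹ * (y * (g * t * g⁻¹)) * g := by group
      _ = _ := by rw [hy]; group)
  have e : g⁻¹ * y * g * (g⁻¹ * y * g) = g⁻¹ * (y * y) * g⁻¹⁻¹ := by group
  have h3 := cj_sq (g := g⁻¹) h2
  have h4 := mem_cen1.1 (mul_mem c c)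
  have h5 := h.c.in0_sq h.d h.o.sy c
  rw [e] at h4 h5
  rcases h.c.sq_mem h5 h3 with e1 | e1
  · obtain ⟨l, -, h6⟩ := h.d.inv _ e1 h3
    have e2 : l * (g⁻¹ * (y * y) * g⁻¹⁻¹) * l⁻¹ = l * g⁻¹ * (y * y) * (l * g⁻¹)⁻¹ := by group
    rw [e2] at h6
    exact conj_eq_one_iff.1 (h.dg_pure h6 (q.pure' h h1 h2 _ (h.w.B_le (h.d.ES h6))))
  · obtain ⟨k, e2⟩ := H67.Wr.conj_t_mul h.c h.d h.s1 e1 (by
      rw [mul_assoc t, ← mul_assoc _ t, h4, mul_assoc t, h3, mul_one, h.c.tt])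
    refine (h.s4.tnT h.c h.d h.s1 (g * k) ?_).elim
    rw [show g * k * t * (g * k)⁻¹ = g * (k * t * k⁻¹) * g⁻¹ by group, e2, ← mul_assoc t, h.c.tt]
    simpa [mul_assoc] using (mem_sup_left h1 : y * y ∈ S₁ ⊔ cj t S₁)

theorem tn (sw : JobSW.{u}) (g : G) : g * t * g⁻¹ ∉ T ⊓ nor (E₁ ⊔ F₁) := fun hg => by
  have key : ∀ g : G, g * t * g⁻¹ ∈ T ⊓ nor (E₁ ⊔ F₁) → g * t * g⁻¹ ∈ nor E₁ := fun g hg => by
    by_contra h1
    obtain ⟨e1, e2⟩ := (q.star h hg).1.swap h1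
    obtain ⟨y, hy, h2, h3, h4, -⟩ := (sw G S₁ E₁ F₁ _ h.sy₁ e1 e2).2 (q.norS₁ h hg) (cj_sq h.c.tt)
    exact h4 (q.not_sq h h2 (mul_mem hy hy) (h.sy₁.el _ h3.1))
  have e : t⁻¹ * g * t * (t⁻¹ * g)⁻¹ = t⁻¹ * (g * t * g⁻¹) * t := by group
  exact h.s4.tnT h.c h.d h.s1 g (q.ker _ hg.1 (key g hg)
    ((cj_normalizer t E₁).le (mem_cj.2 (e ▸ key (t⁻¹ * g) (e ▸ q.star_t h hg)))))

theorem sylZ {z : G} (hz : z ∈ E₁) (h1 : z ≠ 1) (h2 : T ⊓ nor (E₁ ⊔ F₁) ≤ cen1 z) :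
    IsSyl 2 (T ⊓ nor (E₁ ⊔ F₁)) (cen1 z) := by
  refine ⟨h2, q.syl.isPGroup.to_le inf_le_left, fun Q hQ h3 h4 => ?_⟩
  by_contra h5
  have n1 := two_mul_card_le h3 (Ne.symm h5)
  have n2 := card_eq_relIndex_mul T (T ⊓ nor (E₁ ⊔ F₁))
  rw [q.relIndex_star h, ← inf_assoc, inf_idem] at n2
  obtain ⟨k, -, e⟩ := (q.syl.of_card_ge hQ le_top (by omega)).exists_cj_eq q.syl
  have c : ∀ x ∈ T, x * (k * z * k⁻¹) = k * z * k⁻¹ * x := by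
    rw [← e]
    rintro _ ⟨x, hx, rfl⟩
    have := mem_cen1.1 (h4 hx)
    show k * x * k⁻¹ * _ = _ * (k * x * k⁻¹)
    calc _ = k * (x * z) * k⁻¹ := by group
      _ = _ := by rw [this]; group
  have WT : E₁ ⊔ cj t E₁ ≤ T := (sup_le_sup h.s4.ES (cj_mono t h.s4.ES)).trans q.T0
  have cW : zpowers (k * z * k⁻¹) ≤ cen (E₁ ⊔ cj t E₁) :=
    zpowers_le.2 (mem_cen.2 fun x hx => c x (WT hx))
  have h6 := h.wE.fix (h.s1.cenW.le_of_le_normalizer' (el_zpowers (cj_sq (h.sy₁.el z hz))).two cW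
    (le_normalizer_of_le_centralizer cW) (mem_zpowers _)) (c t q.tT).symm
  exact h1 (conj_eq_one_iff.1 (h.dg_pure h6 (q.pure h hz k (h.w.B_le (h.d.ES h6)))))

theorem out (sw : JobSW.{u}) {z : G} (hz : z ∈ E₁ ⊓ F₁) (h1 : z ≠ 1)
    (h2 : T ⊓ nor (E₁ ⊔ F₁) ≤ cen1 z) {v : G} (vt : v * t = t * v) (vv : v * v = 1)
    (hv : cj v (E₁ ⊔ cj t E₁) = F₁ ⊔ cj t F₁) (g : G) : g * v * g⁻¹ ∉ S₁ ⊔ cj t S₁ := fun hg => by
  have s1 := h.sy₁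
  have vE : cj v E = E' := eq_of_le_of_card_ge (Ct.cj_diag h.wE h.wF vt hv)
    (by rw [card_cj, h.o.sy.cE, h.o.sy.cE'])
  have cm : ∀ k : G, k * t * k⁻¹ ∈ cen1 (k * v * k⁻¹) := fun k => mem_cen1.2 (by
    calc k * t * k⁻¹ * (k * v * k⁻¹) = k * (t * v) * k⁻¹ := by group
      _ = _ := by rw [← vt]; group)
  have cj2 : ∀ c k x : G, c * (k * x * k⁻¹) * c⁻¹ = c * k * x * (c * k)⁻¹ := fun c k x => by group
  rcases q.cls h hz.1 h1 hg (cj_sq vv) with e | ⟨k, e⟩ | ⟨k, e⟩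
  · rw [conj_eq_one_iff.1 e, cj_one] at vE
    exact h.o.sy.ne vE
  · rw [cj2] at e
    obtain ⟨c, -, h3⟩ := (q.sylZ h hz.1 h1 h2).exists_cj_le (el_zpowers (cj_sq h.c.tt)).two
      (zpowers_le.2 (e ▸ cm (k * g)))
    exact q.tn h sw _ (cj2 c _ t ▸ h3 (conj_mem_cj (mem_zpowers _)))
  rw [cj2] at e
  have cz2 : ∀ τ ∈ T ⊓ nor (E₁ ⊔ F₁), τ * (t * z * t⁻¹) * τ⁻¹ = t * z * t⁻¹ := fun τ hτ => by
    calc _ = t * (t⁻¹ * τ * t * z * (t⁻¹ * τ * t)⁻¹) * t⁻¹ := by group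
      _ = _ := by rw [cj_of_comm (mem_cen1.1 (h2 (q.star_t h hτ)))]
  have cs : T ⊓ nor (E₁ ⊔ F₁) ≤ cen1 (dg t z) := fun τ hτ => mem_cen1.2
    ((show Commute τ z from mem_cen1.1 (h2 hτ)).mul_right (comm_of_cj (cz2 τ hτ)))
  have Tc : T ≤ cen1 (dg t z) := fun τ hτ => (q.star_or h hτ).elim (fun x => cs x) fun x => by
    simpa using mul_mem (cs x) (inv_mem (mem_cen1.2 (dg_comm h.c.tt (h.wE.c' hz.1 hz.1)).symm))
  obtain ⟨c, hc, h3⟩ := (q.syl.of_le Tc le_top).exists_cj_le (el_zpowers (cj_sq h.c.tt)).two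
    (zpowers_le.2 (e ▸ cm (k * g)))
  have h4 := cj2 c _ t ▸ h3 (conj_mem_cj (mem_zpowers _))
  have e1 : c * (k * g) * v * (c * (k * g))⁻¹ = dg t z := by
    rw [← cj2, e, cj_of_comm (mem_cen1.1 hc)]
  set m := c * (k * g)
  set s := m * t * m⁻¹ with hs
  have ss : s * s = 1 := cj_sq h.c.tt
  have h5 := (q.star_or h h4).resolve_left (q.tn h sw m)
  have e2 : ∀ x : G, s * x * s⁻¹ = s * t * (t * x * t⁻¹) * (s * t)⁻¹ := fun x => by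
    calc _ = s * (t * (t * x * t⁻¹) * t⁻¹) * s⁻¹ := by rw [tt_conj h.c.tt]
      _ = _ := by group
  obtain ⟨y, hy, e3⟩ := s1.sq_Z hz
  have c1 : y * (s * y * s⁻¹) = s * y * s⁻¹ * y := h.w.comm y (s1.J_le hy) _
    (e2 y ▸ conj_mem_of_mem_normalizer (q.norS₂ h h5) (conj_mem_cj (s1.J_le hy)))
  have e4 : dg s y * dg s y = dg t z := by rw [← dg_mul c1, e3, dg, e2, cz2 _ h5]; rfl
  have c2 : m⁻¹ * dg s y * m ∈ cen1 t := mem_cen1.2 (by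
    calc m⁻¹ * dg s y * m * t = m⁻¹ * (dg s y * s) * m := by rw [hs]; group
      _ = _ := by rw [dg_comm ss c1, hs]; group)
  have h6 := h.c.in0_sq h.d h.o.sy c2
  rw [show m⁻¹ * dg s y * m * (m⁻¹ * dg s y * m) = v by
    calc _ = m⁻¹ * (dg s y * dg s y) * m := by group
      _ = v := by rw [e4, ← e1]; group] at h6
  rcases h.c.sq_mem h6 vv with e5 | e5
  · exact not_conj h.d h.o.sy e5 vE
  · exact not_conj h.d h.o.sy e5 (by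
      rw [← cj_cj, vE, cj_eq_self (le_normalizer_of_le_centralizer le_rfl
        (centralizer_anti (h.d.E'S.trans h.d.syl.le) h.c.tL))])

end Sq

theorem jobOB : JobOB.{u} := by
  intro sw G _ _ t f σ L O S E E' E₁ F₁ Y₁ S₁ T P h q
  obtain ⟨z, ⟨hz, h2⟩, h1⟩ := (bot_or_exists_ne_one _).resolve_left
    (inf_centralizer_ne_bot (h.sy₁.el.mono inf_le_left).two (q.syl.isPGroup.to_le inf_le_left)
      (fun τ hτ => (q.star h hτ).1.nor_inf) fun e => by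
        obtain ⟨z, hz, h1⟩ := h.exists_Z
        exact h1 (mem_bot.1 (e ▸ hz)))
  have h3 : T ⊓ nor (E₁ ⊔ F₁) ≤ cen1 z := fun τ hτ => mem_cen1.2 (mem_cen.1 h2 τ hτ)
  exact ⟨fun v hv => q.pure h hv, fun τ hτ => ⟨q.norS₁ h hτ, q.norS₂ h hτ⟩,
    ⟨z, hz, h1, h3, fun u hu => q.cls h hz.1 h1 hu⟩, q.tn h sw,
    fun v a b c => q.out h sw hz h1 h3 a b c⟩

end H99.Wr
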