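import Cfsg.Agent.H99.WrOA
import Cfsg.Agent.H99.WrOB
import Cfsg.Agent.H44.WrSW
import Cfsg.Agent.H44.Wr0O
import Cfsg.Agent.H72.WrOC
import Cfsg.Agent.H72.WrOD
import Cfsg.Agent.H81.WrOA
import Cfsg.Agent.H72.Mathieu
import Cfsg.Agent.H77.Simple
import Cfsg.Agent.H2.PrimeCore

/-! STD-H: assembly. -/

set_option autoImplicit false
open Subgroup Cfsg H98 H1.Gold

universe u

namespace H99.Wr

variable {G : Type u} [Group G] [Finite G]

theorem wrfO {L : Subgroup G} (hA : AS G) (hL : IsStandardSubgroup L)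
    (hZ : Odd (Nat.card ↥(L ⊓ cen L))) : ¬ FactsO L :=
  wrfO_of H44.WrO.jobSW H44.WrO.jobOut H81.jobA7Max H44.WrO.job0O jobOA jobOB H72.Wr.jobOC
    H72.Wr.jobOD hA hL hZ

theorem odd_center {L : Subgroup G} (hL : IsQuasisimple L)
    (hs : IsSimpleGroup (L ⧸ oddCore L)) : Odd (Nat.card ↥(L ⊓ cen L)) := by
  have hle : center L ≤ oddCore L := by
    have hn : ((center L).map (QuotientGroup.mk' (oddCore L))).Normal :=
      (inferInstance : (center L).Normal).map _ (QuotientGroup.mk'_surjective _)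
    rcases hn.eq_bot_or_eq_top with e | e
    · rwa [Subgroup.map_eq_bot_iff, QuotientGroup.ker_mk'] at e
    · exfalso
      have hp : Group.IsPerfect (L ⧸ oddCore L) := by
        have := hL.1
        infer_instance
      have hc : commutator (L ⧸ oddCore L) = ⊥ := by
        rw [commutator_eq_bot_iff_center_eq_top, eq_top_iff, ← e]
        rintro _ ⟨z, hz, rfl⟩
        rw [mem_center_iff]
        intro g
        obtain ⟨g, rfl⟩ := QuotientGroup.mk'_surjective _ g
        rw [← map_mul, ← map_mul, mem_center_iff.1 hz g]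
      rw [hp.commutator_eq_top] at hc
      exact top_ne_bot hc
  have e : (center L).map L.subtype = L ⊓ cen L := by
    ext x
    constructor
    · rintro ⟨z, hz, rfl⟩
      exact ⟨z.2, mem_centralizer_iff.2 fun g hg =>
        congrArg Subtype.val (mem_center_iff.1 hz ⟨g, hg⟩)⟩
    · rintro ⟨h1, h2⟩
      exact ⟨⟨x, h1⟩, mem_center_iff.2 fun g => Subtype.ext (mem_centralizer_iff.1 h2 g g.2), rfl⟩
  rw [← e, card_map_of_injective L.subtype_injective]
  exact (H2.odd_card_oddCore L).of_dvd_nat (card_dvd_of_le hle)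

theorem s3131_of (jm : JobM23.{u}) (jc : JobMcLO.{u}) (hA : AS G) {L : Subgroup G}
    (hL : IsStandardSubgroup L) :
    ¬ (Spor.IsoM23 (L ⧸ oddCore L) ∨ Spor.IsoMcL (L ⧸ oddCore L)) := by
  rintro (h | h)
  · obtain ⟨h1, h2⟩ := jm G L hL.1 h
    obtain ⟨e⟩ := h
    exact wrf G L hA hL (odd_center hL.1 (e.isSimpleGroup_congr.2 H72.simple_M23)) h2 h1
  · have h1 := jc G L hL.1 h
    obtain ⟨e⟩ := h
    exact wrfO hA hL (odd_center hL.1 (e.isSimpleGroup_congr.2 H77.simple_McL)) h1

end H99.Wr
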