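import Cfsg.Agent.H99.WrJob6
import Cfsg.Agent.H11.Wr0
import Cfsg.Agent.H53.WrJob1
import Cfsg.Agent.H53.WrJobAb
import Cfsg.Agent.H67.WrJob3
import Cfsg.Agent.H67.WrJobEs
import Cfsg.Agent.H68.WrJob4

/-! STD-H: the uniform theorem. -/

set_option autoImplicit false

universe u

namespace H99.Wr

theorem job4 : Job4.{u} := fun G _ _ t f L O S E E' E₁ hC hD h h3 =>
  H68.Wr4.job4 hC hD h G t f L O S E E' E₁ hC hD h h3

theorem wrf : WRF.{u} := wrf_of H11.Wr.job0 H53.Wr.job1 H67.Wr.job3 job4 job5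
  H53.Wr.jobAb H67.Wr.jobEs job6

end H99.Wr
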