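import Cfsg.Agent.H99.WrOBase

/-! STD-H, section 9: JobOA. -/

set_option autoImplicit false
open Subgroup Cfsg H98 H1.Gold

universe u

namespace H99.Wr

variable {G : Type u} [Group G]

theorem relIndex_le_two [Finite G] {A K : Subgroup G}
    (h : ∀ x ∈ A, ∀ y ∈ A, x ∉ K → y ∉ K → x * y ∈ K) : K.relIndex A ≤ 2 := by
  by_cases h1 : A ≤ K
  · rw [relIndex_eq_one.2 h1]; omega
  obtain ⟨a, ha, h2⟩ := SetLike.not_le_iff_exists.1 h1
  refine (index_eq_two_iff.2 ⟨⟨a, ha⟩, fun b => ?_⟩).le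
  simp only [mem_subgroupOf, coe_mul]
  by_cases h3 : (b : G) ∈ K
  · exact Or.inr ⟨h3, fun e => h2 (by simpa using K.mul_mem (K.inv_mem h3) e)⟩
  · exact Or.inl ⟨h b b.2 a ha h3 h2, h3⟩

theorem card_eq_relIndex_mul [Finite G] (A K : Subgroup G) :
    Nat.card A = K.relIndex A * Nat.card ↥(A ⊓ K) := by
  rw [← Nat.card_congr (subgroupOfEquivOfLe (inf_le_left : A ⊓ K ≤ A)).toEquiv, relIndex, mul_comm,
    inf_subgroupOf_left, card_mul_index]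

/-- a 2-group acting on a four-group -/
theorem relIndex_cen_four [Finite G] {A Z : Subgroup G} (hA : IsPGroup 2 A) (hn : A ≤ nor Z)
    (he : El Z) (hc : Nat.card Z = 4) : (cen Z).relIndex A ≤ 2 := by
  have hZ : Z ≠ ⊥ := fun e => by simp [e] at hc
  obtain ⟨z, ⟨h1, h2⟩, h3⟩ := (bot_or_exists_ne_one _).resolve_left
    (inf_centralizer_ne_bot he.two hA hn hZ)
  have i2 : (zpowers z).relIndex Z = 2 := by
    have := card_eq_relIndex_mul Z (zpowers z)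
    rw [inf_eq_right.2 (zpowers_le.2 h1), Nat.card_zpowers,
      H14.orderOf_two_of_mul_self (he z h1) h3, hc] at this
    omega
  have m : ∀ {a b : G}, a ∈ Z → b ∈ Z → (a * b ∈ zpowers z ↔ (a ∈ zpowers z ↔ b ∈ zpowers z)) :=
    fun {a b : G} ha hb => mul_mem_iff_of_index_two (H := (zpowers z).subgroupOf Z) i2 (a := ⟨a, ha⟩) (b := ⟨b, hb⟩)
  have key : ∀ x ∈ A, ∀ w ∈ Z, x * w * x⁻¹ = w ∨ x * w * x⁻¹ = z * w := fun x hx w hw => by
    have cz := cj_of_comm (mem_cen.1 h2 x hx)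
    have h4 := conj_mem_of_mem_normalizer (hn hx) hw
    have h5 : x * w * x⁻¹ * w ∈ zpowers z := (m h4 hw).2 (by
      rw [mem_zpowers_sq (he z h1), mem_zpowers_sq (he z h1), conj_eq_one_iff]
      refine or_congr_right ⟨fun e => ?_, fun e => e ▸ cz⟩
      simpa using e.trans cz.symm)
    rcases (mem_zpowers_sq (he z h1)).1 h5 with e | e
    · exact Or.inl (by rw [eq_inv_of_mul_eq_one_left e, inv_of_sq (he w hw)])
    · exact Or.inr (by rw [← e, mul_assoc _ w w, he w hw, mul_one])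
  have k2 : ∀ x ∈ A, x ∉ cen Z → ∀ w ∈ Z, w ∉ zpowers z → x * w * x⁻¹ = z * w := by
    intro x hx h4 w hw h5
    refine (key x hx w hw).resolve_left fun e => h4 (mem_cen.2 fun v hv => ?_)
    have c0 : ∀ v ∈ zpowers z, Commute x v := by
      rintro _ ⟨k, rfl⟩
      exact (show Commute x z from mem_cen.1 h2 x hx).zpow_right k
    by_cases h6 : v ∈ zpowers z
    · exact (c0 v h6).symm
    · have := (c0 _ ((m hv hw).2 (iff_of_false h6 h5))).mul_right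
        (show Commute x w from comm_of_cj e).inv_right
      rw [mul_inv_cancel_right] at this
      exact this.symm
  refine relIndex_le_two fun x hx y hy h4 h5 => mem_cen.2 fun v hv => (comm_of_cj ?_).symm
  by_cases h6 : v ∈ zpowers z
  · rcases (mem_zpowers_sq (he z h1)).1 h6 with rfl | rfl
    · simp
    · exact cj_of_comm (mem_cen.1 h2 _ (mul_mem hx hy))
  · calc x * y * v * (x * y)⁻¹ = x * (y * v * y⁻¹) * x⁻¹ := by group
      _ = x * z * x⁻¹ * (x * v * x⁻¹) := by rw [k2 y hy h5 v hv h6]; group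
      _ = v := by
        rw [k2 x hx h4 v hv h6, cj_of_comm (mem_cen.1 h2 x hx), ← mul_assoc, he z h1, one_mul]

theorem two_mul_card_le [Finite G] {P U : Subgroup G} (h : P ≤ U) (hn : P ≠ U) :
    2 * Nat.card P ≤ Nat.card U := by
  obtain ⟨m, hm⟩ := card_dvd_of_le h
  have h1 := card_lt_of_lt' (lt_of_le_of_ne h hn)
  have h2 : 2 ≤ m := by
    by_contra h7
    have : m = 0 ∨ m = 1 := by omega
    rcases this with rfl | rfl <;> omega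
  nlinarith

theorem Sy.k1 [Finite G] {S U V A P : Subgroup G} (h : Sy S U V) (hA : IsPGroup 2 A)
    (hb : ∀ x ∈ A, Blk x U V) (hP : P ≤ U ⊔ V) (he : El P) (hc : P ≤ cen A) :
    (nor U ⊓ cen (U ⊓ V)).relIndex A * Nat.card P ≤ 16 ∧
      (¬ A ≤ nor U → (nor U ⊓ cen (U ⊓ V)).relIndex A * Nat.card P ≤ 8) := by
  have r0 := relIndex_inf_le (H := nor U) (K := cen (U ⊓ V)) (L := A)
  have r1 : (nor U).relIndex A ≤ 2 := relIndex_le_two fun x hx y hy => (hb x hx).mul (hb y hy)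
  have r2 := relIndex_cen_four hA (fun x hx => (hb x hx).nor_inf) (h.el.mono inf_le_left) h.cZ
  have nZ : ¬ A ≤ cen (U ⊓ V) → ¬ U ⊓ V ≤ P := fun h1 h2 =>
    h1 fun a ha => mem_cen.2 fun z hz => (mem_cen.1 (hc (h2 hz)) a ha).symm
  have k2 : ¬ A ≤ nor U → (nor U ⊓ cen (U ⊓ V)).relIndex A * Nat.card P ≤ 8 := fun h1 => by
    obtain ⟨u, hu, h2⟩ := SetLike.not_le_iff_exists.1 h1
    obtain ⟨e1, e2⟩ := (hb u hu).swap h2
    have e3 : H98.cj u P = P := cj_eq_self (le_normalizer_of_le_centralizer le_rfl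
      (mem_cen.2 fun x hx => (mem_cen.1 (hc hx) u hu).symm))
    have PZ : P ≤ U ⊓ V := by
      rcases h.el_J hP he with e | e
      · exact le_inf e (e3 ▸ e1 ▸ cj_mono u e)
      · exact le_inf (e3 ▸ e2 ▸ cj_mono u e) e
    by_cases h3 : A ≤ cen (U ⊓ V)
    · have := card_le_of_le PZ
      rw [relIndex_eq_one.2 h3] at r0
      rw [h.cZ] at this
      nlinarith
    · have := two_mul_card_le PZ fun e => nZ h3 e.ge
      rw [h.cZ] at this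
      nlinarith [Nat.mul_le_mul r1 r2]
  refine ⟨?_, k2⟩
  by_cases h1 : A ≤ nor U
  swap
  · have := k2 h1
    omega
  rw [relIndex_eq_one.2 h1] at r0
  by_cases h3 : A ≤ cen (U ⊓ V)
  · rw [relIndex_eq_one.2 h3] at r0
    rcases h.el_J hP he with e | e <;> have := card_le_of_le e
    · rw [h.cE] at this; nlinarith
    · rw [h.cE'] at this; nlinarith
  · rcases h.el_J hP he with e | e
    · have := two_mul_card_le e fun e' => nZ h3 (e' ▸ inf_le_left)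
      rw [h.cE] at this; nlinarith
    · have := two_mul_card_le e fun e' => nZ h3 (e' ▸ inf_le_right)
      rw [h.cE'] at this; nlinarith

theorem Blk.mem {m x : G} {A B : Subgroup G} (h : Blk m A B) (hx : x ∈ A) :
    m * x * m⁻¹ ∈ A ∨ m * x * m⁻¹ ∈ B :=
  Or.imp (fun e => e.1.le (conj_mem_cj hx)) (fun e => e.1.le (conj_mem_cj hx)) h

theorem eq_of_tr [Finite G] {U A B : Subgroup G}
    (h : ∀ a ∈ U, ∀ b ∈ U, a ≠ 1 → b ≠ 1 → ∃ m, Blk m A B ∧ m * a * m⁻¹ = b) (h1 : A ⊓ U ≠ ⊥)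
    (h2 : A ⊓ B = ⊥) (hc : Nat.card A = Nat.card U) : A = U := by
  obtain ⟨v, hv, h3⟩ := (bot_or_exists_ne_one _).resolve_left h1
  rcases le_or_le (K := U) (A := A) (B := B) (fun b hb => by
    by_cases h4 : b = 1
    · exact Or.inl (h4 ▸ A.one_mem)
    obtain ⟨m, hm, rfl⟩ := h v hv.2 b hb h3 h4
    exact hm.mem hv.1) with e | e
  · exact (eq_of_le_of_card_ge e hc.le).symm
  · exact (h3 (mem_bot.1 (h2 ▸ (⟨hv.1, e hv.2⟩ : v ∈ A ⊓ B)))).elim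

theorem eq_or_eq_of_tr [Finite G] {U V A B : Subgroup G} {y : G}
    (h : ∀ a ∈ U, ∀ b ∈ U, a ≠ 1 → b ≠ 1 → ∃ m, Blk m A B ∧ m * a * m⁻¹ = b)
    (h2 : A ⊓ B = ⊥) (hc : Nat.card A = Nat.card U) (hc' : Nat.card A = Nat.card V)
    (hA : A ≤ U ⊔ V) (hV : U ≤ cen V) (he : El U) (y1 : y ∈ nor A) (y2 : y ∈ nor U) (y3 : y ∈ cen V)
    (y4 : ∀ a ∈ U, y * a = a * y → a = 1) : A = U ∨ A = V := by
  by_cases h1 : A ⊓ U = ⊥
  swap
  · exact Or.inl (eq_of_tr h h1 h2 hc)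
  refine Or.inr (eq_of_le_of_card_ge (fun x hx => ?_) hc'.ge)
  obtain ⟨a, ha, b, hb, rfl⟩ := (mem_sup_left_norm (le_normalizer_of_le_centralizer hV)).1 (hA hx)
  have e : y * (a * b) * y⁻¹ * (a * b)⁻¹ = y * a * y⁻¹ * a⁻¹ := by
    calc _ = y * a * y⁻¹ * (y * b * y⁻¹) * b⁻¹ * a⁻¹ := by group
      _ = _ := by rw [cj_of_comm (mem_cen.1 y3 b hb).symm]; group
  have h3 : y * a * y⁻¹ * a⁻¹ ∈ A ⊓ U :=
    ⟨e ▸ A.mul_mem (conj_mem_of_mem_normalizer y1 hx) (A.inv_mem hx),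
      U.mul_mem (conj_mem_of_mem_normalizer y2 ha) (U.inv_mem ha)⟩
  rw [h1, mem_bot] at h3
  rwa [y4 a ha (comm_of_cj (mul_inv_eq_one.1 h3)), one_mul]

namespace Ct
variable [Finite G] {t f : G} {L O S E E' E₁ F₁ Y₁ S₁ : Subgroup G} {P : G → Subgroup G}
  (h : Ct t f L O S E E' E₁ F₁ Y₁ S₁ P)
include h

theorem tn : t ∈ nor (S₁ ⊔ cj t S₁) := t_mem_nor h.c.tt S₁

theorem tT0 : t ∉ S₁ ⊔ cj t S₁ := by simpa using h.s4.tnT h.c h.d h.s1 1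

theorem two_T1 : IsPGroup 2 ↥(S₁ ⊔ cj t S₁ ⊔ zpowers t) :=
  IsPGroup.to_sup_of_normal_left' (h.w.two h.s4.two) (el_zpowers h.c.tt).two (zpowers_le.2 h.tn)

theorem T1_W : S₁ ⊔ cj t S₁ ⊔ zpowers t ≤ nor (E₁ ⊔ cj t E₁) :=
  sup_le (h.w.nor_pair h.s4.ES h.s4.ES h.sy₁.SN h.sy₁.SN) (zpowers_le.2 (t_mem_nor h.c.tt E₁))

/-- an involution of `T₀⟨t⟩` outside `T₀` -/
theorem inv_T1 {x : G} (hx : x ∈ S₁ ⊔ cj t S₁ ⊔ zpowers t) (h1 : x ∉ S₁ ⊔ cj t S₁) (h2 : x * x = 1) :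
    ∃ a ∈ S₁, a * t * a⁻¹ = x := by
  have e : x * t * t = x := by rw [mul_assoc, h.c.tt, mul_one]
  obtain ⟨a, ha, e1⟩ := invol_coset h.c.tt h.w.comm h.w.bot
    ((mem_coset h.tn h.c.tt hx).resolve_left h1) (by rw [e, h2])
  exact ⟨a, ha, e1.trans e⟩

theorem adj {x : G} (hx : x ∈ nor (S₁ ⊔ cj t S₁ ⊔ zpowers t)) : ∃ a ∈ S₁, a⁻¹ * x * t = t * (a⁻¹ * x) := by
  obtain ⟨a, ha, e⟩ := h.inv_T1 (conj_mem_of_mem_normalizer hx (mem_sup_right (mem_zpowers t)))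
    (h.s4.tnT h.c h.d h.s1 x) (by
      calc _ = x * (t * t) * x⁻¹ := by group
        _ = 1 := by rw [h.c.tt]; group)
  refine ⟨a, ha, comm_of_cj ?_⟩
  calc a⁻¹ * x * t * (a⁻¹ * x)⁻¹ = a⁻¹ * (x * t * x⁻¹) * a := by group
    _ = t := by rw [← e]; group

omit h in
theorem cj_diag {A B A' B' : Subgroup G} (w : Wp t A B) (w' : Wp t A' B') {c : G} (hc : c * t = t * c)
    (e : cj c (A ⊔ cj t A) = A' ⊔ cj t A') : cj c B ≤ B' := by
  rintro _ ⟨s, hs, rfl⟩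
  refine w'.fix (e ▸ conj_mem_cj (w.B_le hs)) ?_
  obtain ⟨a, ha, rfl⟩ := (w.diag s).1 hs
  have c1 : Commute c t := hc
  exact (c1.mul_left (show Commute (dg t a) t from dg_comm w.tt (w.c' ha ha))).mul_left c1.inv_left

theorem sylW : IsSyl 2 (S₁ ⊔ cj t S₁ ⊔ zpowers t) (nor (E₁ ⊔ cj t E₁)) := by
  have tm : t ∈ S₁ ⊔ cj t S₁ ⊔ zpowers t := mem_sup_right (mem_zpowers t)
  refine isSyl_of_isSyl_normalizer ⟨le_inf h.T1_W le_normalizer, h.two_T1, fun Q hQ h2 h3 =>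
    le_antisymm (fun x hx => ?_) h2⟩
  obtain ⟨a, ha, e⟩ := h.adj (h3 hx).2
  have aT : a ∈ S₁ ⊔ cj t S₁ ⊔ zpowers t := mem_sup_left (mem_sup_left ha)
  have yQ : a⁻¹ * x ∈ Q := mul_mem (inv_mem (h2 aT)) hx
  obtain ⟨k, hk⟩ := isPGroup_iff_forall.1 hQ _ yQ
  have QL : Q ⊓ L = S := h.d.syl.eq_of_le (hQ.to_le inf_le_left)
    (le_inf (h.w.B_le.trans (le_sup_left.trans h2)) h.d.syl.le) inf_le_right
  have ST : ∀ y ∈ Q, y ∈ L → y ∈ S₁ ⊔ cj t S₁ ⊔ zpowers t := fun y h5 h6 =>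
    mem_sup_left (h.w.B_le (QL ▸ (⟨h5, h6⟩ : y ∈ Q ⊓ L)))
  rcases h.c.two_mem (h.c.c2 _ (mem_cen1.2 e) ⟨1, L.one_mem, by
    rw [cj_one, cj_eq_self (mem_normalizer_of_cj_le (cj_diag h.wE h.wE e (cj_eq_self (h3 yQ).1)))]⟩)
    hk with e1 | e1
  · simpa using mul_mem aT (ST _ yQ e1)
  · simpa using mul_mem aT (mul_mem (inv_mem tm) (ST _ (mul_mem (h2 tm) yQ) e1))

theorem nW {n : G} (hn : n ∈ nor (E₁ ⊔ cj t E₁)) : n ∈ nor E₁ ∨ n * t ∈ nor E₁ := by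
  set H := nor (E₁ ⊔ cj t E₁)
  have hs := h.sylW
  have tH : t ∈ H := t_mem_nor h.c.tt E₁
  obtain ⟨N, hN, hi, ht⟩ := H8.thompson_transfer ((S₁ ⊔ cj t S₁ ⊔ zpowers t).subgroupOf H)
    ((S₁ ⊔ cj t S₁).subgroupOf H) (Nat.not_even_iff_odd.1 fun e => hs.not_dvd_relIndex e.two_dvd)
    (by
      rw [relIndex_subgroupOf hs.le]
      exact index_eq_two_iff.2 ⟨⟨t, mem_sup_right (mem_zpowers t)⟩, fun b => by
        simp only [mem_subgroupOf, coe_mul]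
        rcases mem_coset h.tn h.c.tt b.2 with e | e
        · exact Or.inr ⟨e, fun e' => h.tT0 (by simpa using mul_mem (inv_mem e) e')⟩
        · exact Or.inl ⟨e, fun e' => h.tT0 (by simpa using mul_mem (inv_mem e') e)⟩⟩)
    ⟨t, tH⟩ (Subtype.ext (by simpa [pow_two] using h.c.tt)) fun g => h.s4.tnT h.c h.d h.s1 g
  have YH : Y₁ ≤ H := fun y hy => by simpa using h.s4.yy_nor hy Y₁.one_mem
  have hY : Y₁ ≤ N.map H.subtype := by
    have := perf_le_of_index_two (Y := Y₁.subgroupOf H) (by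
      apply map_injective H.subtype_injective
      rw [map_commutator, subgroupOf_map_subtype, inf_eq_left.2 YH, h.s4.perf]) hi
    exact fun y hy => ⟨⟨y, YH hy⟩, this hy, rfl⟩
  have nN := le_normalizer_map_subtype N
  have tN : t ∉ N.map H.subtype := by
    rintro ⟨x, hx, e⟩
    exact ht ((Subtype.ext e : x = ⟨t, tH⟩) ▸ hx)
  have TG : S₁ ⊔ cj t S₁ ≤ N.map H.subtype :=
    sup_le (h.s4.SY.trans hY) (cj_le_of_le (h.s4.SY.trans hY) (nN tH))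
  have hs0 := hs.inf_of_le_normalizer (map_subtype_le N) (hs.le.trans nN)
  rw [show (S₁ ⊔ cj t S₁ ⊔ zpowers t) ⊓ N.map H.subtype = S₁ ⊔ cj t S₁ from
    le_antisymm (fun x hx => (mem_coset h.tn h.c.tt hx.1).resolve_right fun e =>
      tN (by simpa using Subgroup.mul_mem _ (Subgroup.inv_mem _ hx.2) (TG e)))
      (le_inf le_sup_left TG)] at hs0
  have key : ∀ m : H, m ∈ N → (m : G) ∈ nor E₁ := fun m hm =>
    h.s4.norW_E h.c h.d h.s1 hs0 hY (nN tH) ⟨m, hm, rfl⟩ m.2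
  by_cases h1 : (⟨n, hn⟩ : H) ∈ N
  · exact Or.inl (key _ h1)
  · exact Or.inr (key (⟨n, hn⟩ * ⟨t, tH⟩) ((mul_mem_iff_of_index_two hi).2 (iff_of_false h1 ht)))

theorem t_not_E : t ∉ nor E₁ := fun e =>
  h.not_le₁₂ h.sy₁.ES ((cj_eq_self e).ge.trans h.sy₂.ES) h.sy₁.cE

theorem blkW {n : G} (hn : n ∈ nor (E₁ ⊔ cj t E₁)) : Blk n E₁ (cj t E₁) := by
  have tW := t_mem_nor h.c.tt E₁
  have key : ∀ n ∈ nor (E₁ ⊔ cj t E₁), n ∈ nor E₁ → cj n (cj t E₁) = cj t E₁ := fun n hn h1 => by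
    rcases h.nW (conj_mem_of_mem_normalizer' (le_normalizer tW) hn) with e | e
    · rw [← cj_inj (g := t⁻¹), cj_cj, cj_cj, cj_eq_self e, cj_inv_cj]
    · rw [mul_assoc, h.c.tt, mul_one, mul_mem_cancel_right h1, inv_mem_iff] at e
      exact (h.t_not_E e).elim
  rcases h.nW hn with e | e
  · exact Or.inl ⟨cj_eq_self e, key n hn e⟩
  · refine Or.inr ⟨?_, by rw [cj_cj, cj_eq_self e]⟩
    have := key _ (mul_mem hn tW) e
    rwa [cj_cj, mul_assoc, h.c.tt, mul_one] at this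

theorem J_le : E₁ ⊔ F₁ ⊔ cj t (E₁ ⊔ F₁) ≤ S₁ ⊔ cj t S₁ := sup_le_sup h.sy₁.J_le (cj_mono t h.sy₁.J_le)

theorem fam_le {K : Subgroup G} (hK : K = E₁ ∨ K = F₁) :
    K ≤ E₁ ⊔ F₁ ∧ K ≤ S₁ ∧ El K ∧ Nat.card K = 16 := by
  rcases hK with rfl | rfl
  exacts [⟨le_sup_left, h.sy₁.ES, h.sy₁.el, h.sy₁.cE⟩, ⟨le_sup_right, h.sy₁.E'S, h.sy₁.el', h.sy₁.cE'⟩]

/-- conjugates of the four groups of order `2⁸` inside `T₀` -/
theorem cj_pair {K M : Subgroup G} (hK : K = E₁ ∨ K = F₁) (hM : M = E₁ ∨ M = F₁) {n : G}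
    (hn : cj n (K ⊔ cj t M) ≤ S₁ ⊔ cj t S₁) :
    ∃ K' M' : Subgroup G, (K' = E₁ ∨ K' = F₁) ∧ (M' = E₁ ∨ M' = F₁) ∧
      cj n (K ⊔ cj t M) = K' ⊔ cj t M' := by
  obtain ⟨-, a, b, c⟩ := h.fam_le hK
  obtain ⟨-, a', b', c'⟩ := h.fam_le hM
  exact h.big hn ((h.w.el_pair a a' b b').cj n) (by rw [card_cj, h.w.card_pair a a', c, c'])

theorem pair_le {K M : Subgroup G} (hK : K = E₁ ∨ K = F₁) (hM : M = E₁ ∨ M = F₁) :
    K ⊔ cj t M ≤ E₁ ⊔ F₁ ⊔ cj t (E₁ ⊔ F₁) :=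
  sup_le_sup (h.fam_le hK).1 (cj_mono t (h.fam_le hM).1)

theorem norJ {T : Subgroup G} (hT : S₁ ⊔ cj t S₁ ≤ T)
    (hb : ∀ A ≤ T, El A → 256 ≤ Nat.card A → A ≤ S₁ ⊔ cj t S₁) :
    nor T ≤ nor (E₁ ⊔ F₁ ⊔ cj t (E₁ ⊔ F₁)) := fun n hn => mem_normalizer_of_cj_le (by
  have key : ∀ K, K = E₁ ∨ K = F₁ → cj n (K ⊔ cj t K) ≤ E₁ ⊔ F₁ ⊔ cj t (E₁ ⊔ F₁) := fun K hK => by
    obtain ⟨-, a, b, c⟩ := h.fam_le hK
    obtain ⟨K', M', h1, h2, e⟩ := h.cj_pair hK hK (hb _ (cj_le_of_le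
      (((h.pair_le hK hK).trans h.J_le).trans hT) hn) ((h.w.el_pair a a b b).cj n)
      (by rw [card_cj, h.w.card_pair a a, c]))
    exact e ▸ h.pair_le h1 h2
  refine le_trans (le_of_eq ?_) (sup_le (key _ (Or.inl rfl)) (key _ (Or.inr rfl)))
  rw [cj_sup t, sup_sup_sup_comm, cj_sup])

theorem perm {n : G} (hn : n ∈ nor (E₁ ⊔ F₁ ⊔ cj t (E₁ ⊔ F₁))) : Fam t E₁ F₁ (cj n E₁) := by
  have s1 := h.sy₁
  have s2 := h.sy₂
  have w := h.w
  have img := fun {K M : Subgroup G} (hK : K = E₁ ∨ K = F₁) (hM : M = E₁ ∨ M = F₁) =>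
    h.cj_pair hK hM ((cj_le_of_le (h.pair_le hK hM) hn).trans h.J_le)
  have bl : ∀ m ∈ nor (cj n (E₁ ⊔ cj t E₁)), Blk m (cj n E₁) (cj n (cj t E₁)) := fun m hm => by
    have h1 := h.blkW (mem_cj.1 ((cj_normalizer n _).ge hm))
    have k : ∀ A : Subgroup G, cj m (cj n A) = cj n (cj (n⁻¹ * m * n) A) := fun A => by
      rw [cj_cj, cj_cj]; congr 1; group
    exact h1.imp (fun e => ⟨by rw [k, e.1], by rw [k, e.2]⟩) fun e => ⟨by rw [k, e.1], by rw [k, e.2]⟩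
  have dj : cj n E₁ ⊓ cj n (cj t E₁) = ⊥ := by rw [← cj_inf, h.wE.bot, cj_bot]
  have cA : Nat.card (cj n E₁) = 16 := by rw [card_cj, s1.cE]
  have AW : cj n E₁ ≤ cj n (E₁ ⊔ cj t E₁) := cj_mono n le_sup_left
  obtain ⟨y, hy, y1, y2, y3⟩ := h.rho₁
  have y4 : ∀ a ∈ E₁, y * y * a = a * (y * y) → a = 1 := fun a ha e =>
    y3 1 a (mem_sup_left ha) (by simpa [pow_two] using e)
  obtain ⟨K, M, hK, hM, e⟩ := img (Or.inl rfl) (Or.inl rfl)
  rcases hK with rfl | rfl <;> rcases hM with rfl | rfl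
  · rcases h.blkW (cj_eq_self_iff.1 e) with e1 | e1
    exacts [Or.inl e1.1, Or.inr (Or.inr (Or.inl e1.1))]
  · rw [e] at bl AW
    have nY : Y₁ ≤ nor (K ⊔ cj t M) := le_normalizer_sup h.s4.norE
      (le_normalizer_of_le_centralizer (h.s4.Y_cen.trans (centralizer_anti s2.E'S)))
    rcases eq_or_eq_of_tr (fun a ha b hb h1 h2 => (h.tr₁ ha hb h1 h2).imp fun m hm =>
      ⟨bl m (nY hm.1), hm.2⟩) dj (cA.trans s1.cE.symm) (cA.trans s2.cE'.symm) AW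
      (s1.ES.trans (w.le_cen₁.trans (centralizer_anti s2.E'S))) s1.el (bl y (nY hy)).sq
      (mul_mem y1 y1) (centralizer_anti s2.E'S (h.s4.Y_cen (mul_mem hy hy))) y4 with e1 | e1
    exacts [Or.inl e1, Or.inr (Or.inr (Or.inr e1))]
  · rw [e] at bl AW
    have nE : cj t Y₁ ≤ nor (cj t M) := (cj_mono t h.s4.norE).trans (cj_normalizer _ _).le
    have nY : cj t Y₁ ≤ nor (K ⊔ cj t M) := le_normalizer_sup
      (le_normalizer_of_le_centralizer (h.s4.Y₂_cen.trans (centralizer_anti s1.E'S))) nE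
    have hy' := conj_mem_cj (g := t) hy
    rcases eq_or_eq_of_tr (U := cj t M) (V := K) (by
        rintro _ ⟨a, ha, rfl⟩ _ ⟨b, hb, rfl⟩ h1 h2
        obtain ⟨m, hm, rfl⟩ := h.tr₁ ha hb (by simpa using h1) (by simpa using h2)
        exact ⟨_, bl _ (nY (conj_mem_cj hm)), by simp [mul_assoc]⟩)
      dj (cA.trans s2.cE.symm) (cA.trans s1.cE'.symm) (sup_comm K _ ▸ AW)
      (s2.ES.trans (w.le_cen₂.trans (centralizer_anti s1.E'S))) s2.el (bl _ (nY hy')).sq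
      (nE (mul_mem hy' hy')) (centralizer_anti s1.E'S (h.s4.Y₂_cen (mul_mem hy' hy'))) (by
        rintro _ ⟨a, ha, rfl⟩ e1
        rw [y4 a ha (by simpa [mul_assoc] using congrArg (· * t) e1), map_one]) with e1 | e1
    exacts [Or.inr (Or.inr (Or.inl e1)), Or.inr (Or.inl e1)]
  · rw [e] at bl AW
    have nX : L ⊓ nor E' ≤ nor (M ⊔ cj t M) :=
      le_normalizer_sup h.xn fun x hx => mem_nor_cj (h.c.cL hx.1) (h.xn hx)
    have ne : ∀ U D : Subgroup G, U ≤ M ⊔ cj t M → Nat.card U = 16 → Nat.card D = 64 → U ≤ D →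
        cj n E₁ ≤ D → cj n E₁ ⊓ U ≠ ⊥ := fun U D h1 h2 h3 h4 h5 h6 => by
      have h7 := card_sup_mul_card_inf_of_le_normalizer (H := cj n E₁) (K := U)
        (le_normalizer_of_le_centralizer (AW.trans ((w.el_pair s1.E'S s1.E'S s1.el' s1.el').le_cen.trans
          (centralizer_anti h1))))
      have h8 := card_le_of_le (sup_le h5 h4)
      rw [h6, cA, h2, card_bot] at h7
      omega
    obtain ⟨K', M', hK', hM', e'⟩ := img (Or.inl rfl) (Or.inr rfl)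
    have c64 : Nat.card ↥((M ⊔ cj t M) ⊓ (K' ⊔ cj t M')) = 64 := by
      rw [← e, ← e', ← cj_inf, card_cj, w.inf_pair s1.ES s1.ES s1.ES s1.E'S,
        w.card_pair (inf_le_left.trans s1.ES) (inf_le_left.trans s1.ES), inf_idem, s1.cE, s1.cZ]
    have AD : cj n E₁ ≤ (M ⊔ cj t M) ⊓ (K' ⊔ cj t M') := le_inf AW (e' ▸ cj_mono n le_sup_left)
    have c2 := c64
    rw [w.inf_pair s1.E'S s1.E'S (h.fam_le hK').2.1 (h.fam_le hM').2.1,
      w.card_pair (inf_le_left.trans s1.E'S) (inf_le_left.trans s1.E'S)] at c2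
    rcases hK' with rfl | rfl <;> rcases hM' with rfl | rfl
    · rw [s1.symm.cZ] at c2; omega
    · refine Or.inr (Or.inr (Or.inr (eq_of_tr ?_ (ne _ _ le_sup_right s2.cE' c64
        (le_inf le_sup_right le_sup_right) AD) dj (cA.trans s2.cE'.symm))))
      rintro _ ⟨a, ha, rfl⟩ _ ⟨b, hb, rfl⟩ h1 h2
      obtain ⟨m, hm, rfl⟩ := h.trX ha hb (by simpa using h1) (by simpa using h2)
      refine ⟨m, bl m (nX hm), ?_⟩
      show m * (t * a * t⁻¹) * m⁻¹ = t * (m * a * m⁻¹) * t⁻¹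
      calc _ = m * t * a * (m * t)⁻¹ := by group
        _ = _ := by rw [h.c.cL hm.1]; group
    · exact Or.inr (Or.inl (eq_of_tr (fun a ha b hb h1 h2 => (h.trX ha hb h1 h2).imp fun m hm =>
        ⟨bl m (nX hm.1), hm.2⟩) (ne _ _ le_sup_left s1.cE' c64 (le_inf le_sup_left le_sup_left) AD)
        dj (cA.trans s1.cE'.symm)))
    · rw [inf_idem, s1.cE'] at c2; omega

theorem T1_J : S₁ ⊔ cj t S₁ ⊔ zpowers t ≤ nor (E₁ ⊔ F₁ ⊔ cj t (E₁ ⊔ F₁)) :=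
  sup_le (h.w.nor_pair h.sy₁.J_le h.sy₁.J_le h.sy₁.nor_J h.sy₁.nor_J)
    (zpowers_le.2 (t_mem_nor h.c.tt _))

theorem big1 (A : Subgroup G) (hA : A ≤ S₁ ⊔ cj t S₁ ⊔ zpowers t) (he : El A)
    (hc : 256 ≤ Nat.card A) : A ≤ S₁ ⊔ cj t S₁ := fun x hx => by
  by_contra h1
  obtain ⟨a, -, e⟩ := h.inv_T1 (hA hx) h1 (he x hx)
  have := h.c.rank h.d he (e ▸ hx)
  rw [h.o.sy.cE] at this
  omega

theorem ker {T : Subgroup G} (hT : IsPGroup 2 T) (h1 : S₁ ⊔ cj t S₁ ⊔ zpowers t ≤ T) {τ : G}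
    (hτ : τ ∈ T) (h2 : τ ∈ nor E₁) (h3 : τ ∈ nor (cj t E₁)) : τ ∈ S₁ ⊔ cj t S₁ := by
  have e := h.sylW.eq_of_le (hT.to_le inf_le_left) (le_inf h1 h.T1_W) inf_le_right
  have h4 : τ ∈ T ⊓ nor (E₁ ⊔ cj t E₁) :=
    ⟨hτ, le_normalizer_sup (H := zpowers τ) (zpowers_le.2 h2) (zpowers_le.2 h3) (mem_zpowers τ)⟩
  refine (mem_coset h.tn h.c.tt (e ▸ h4)).resolve_right fun e1 => h.t_not_E ?_
  simpa using mul_mem (inv_mem h2) (h.T0_nor e1).1.1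

theorem bigT {T : Subgroup G} (hT : IsPGroup 2 T) (h1 : S₁ ⊔ cj t S₁ ⊔ zpowers t ≤ T)
    (hb : ∀ n ∈ T, (Blk n E₁ F₁ ∧ Blk n (cj t E₁) (cj t F₁)) ∨
      (Blk (n * t) E₁ F₁ ∧ Blk (n * t) (cj t E₁) (cj t F₁)))
    (A : Subgroup G) (hA : A ≤ T) (he : El A) (hc : 256 ≤ Nat.card A) : A ≤ S₁ ⊔ cj t S₁ := by
  have s1 := h.sy₁
  have s2 := h.sy₂
  have w := h.w
  have tt := h.c.tt
  set D₁ := nor E₁ ⊓ cen (E₁ ⊓ F₁)
  set D₂ := nor (cj t E₁) ⊓ cen (cj t E₁ ⊓ cj t F₁)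
  have star : ∀ n ∈ T, n ∈ nor (E₁ ⊔ F₁) → Blk n E₁ F₁ ∧ Blk n (cj t E₁) (cj t F₁) :=
    fun n hn h2 => (hb n hn).resolve_right fun e =>
      h.t_not_star (by simpa using mul_mem (inv_mem h2) e.1.nor)
  have kJ : ∀ x ∈ T, x ∈ D₁ → x ∈ D₂ → ∃ a ∈ E₁ ⊔ F₁, ∃ b ∈ cj t E₁ ⊔ cj t F₁, x = a * b := by
    intro x hx h2 h3
    obtain ⟨a, ha, b, hb', rfl⟩ := w.mem_T.1 (h.ker hT h1 hx h2.1 h3.1)
    refine ⟨a, s1.cenZ ⟨ha, ?_⟩, _, s2.cenZ ⟨conj_mem_cj hb', ?_⟩, rfl⟩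
    · have := Subgroup.mul_mem _ h2.2 (Subgroup.inv_mem _ (centralizer_anti
        (inf_le_left.trans s1.ES) (w.le_cen₂ (conj_mem_cj hb'))))
      rwa [mul_inv_cancel_right] at this
    · have := Subgroup.mul_mem _ (Subgroup.inv_mem _ (centralizer_anti
        (inf_le_left.trans s2.ES) (w.le_cen₁ ha))) h3.2
      rwa [inv_mul_cancel_left] at this
  have uq : ∀ a ∈ S₁, ∀ b ∈ cj t S₁, ∀ a' ∈ S₁, ∀ b' ∈ cj t S₁, a * b = a' * b' → a = a' ∧ b = b' := by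
    rintro a ha _ ⟨b, hb, rfl⟩ a' ha' _ ⟨b', hb', rfl⟩ e
    exact (w.uniq ha hb ha' hb' e).imp id (congrArg _)
  -- the two projections
  have proj : ∀ B ≤ A, B ≤ nor (E₁ ⊔ F₁) → ∀ C ≤ B, C ≤ D₁ → C ≤ D₂ →
      ∃ P₁ ≤ E₁ ⊔ F₁, ∃ P₂ ≤ cj t E₁ ⊔ cj t F₁, El P₁ ∧ El P₂ ∧ P₁ ≤ cen B ∧ P₂ ≤ cen B ∧
        C ≤ P₁ ⊔ P₂ := by
    intro B hB h2 C hC h3 h4
    have key : ∀ x ∈ C, ∃ a ∈ E₁ ⊔ F₁, ∃ b ∈ cj t E₁ ⊔ cj t F₁, x = a * b ∧ a ∈ cen B ∧ b ∈ cen B ∧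
        a * a = 1 ∧ b * b = 1 := fun x hx => by
      obtain ⟨a, ha, b, hb', rfl⟩ := kJ x (hA (hB (hC hx))) (h3 hx) (h4 hx)
      have k : ∀ y ∈ B, y * a * y⁻¹ = a ∧ y * b * y⁻¹ = b := fun y hy =>
        uq _ (s1.J_le (conj_mem_of_mem_normalizer (h2 hy) ha)) _ (s2.J_le (conj_mem_of_mem_normalizer
          (star y (hA (hB hy)) (h2 hy)).2.nor hb')) _ (s1.J_le ha) _ (s2.J_le hb') (by
            rw [← cj_of_comm (he.comm (hB hy) (hB (hC hx)))]; group)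
      have c := w.comm a (s1.J_le ha) b (s2.J_le hb')
      have k2 := uq _ (mul_mem (s1.J_le ha) (s1.J_le ha)) _ (mul_mem (s2.J_le hb') (s2.J_le hb')) 1
        (one_mem _) 1 (one_mem _) (by
          rw [one_mul, ← he _ (hB (hC hx)), mul_assoc a a, ← mul_assoc a b b, mul_assoc a b (a * b),
            ← mul_assoc b a b, c])
      exact ⟨a, ha, b, hb', rfl, mem_cen.2 fun y hy => comm_of_cj (k y hy).1,
        mem_cen.2 fun y hy => comm_of_cj (k y hy).2, k2⟩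
    have CT : C ≤ S₁ ⊔ cj t S₁ := fun x hx => by
      obtain ⟨a, ha, b, hb', rfl, -⟩ := key x hx
      exact mul_mem (mem_sup_left (s1.J_le ha)) (mem_sup_right (s2.J_le hb'))
    have CT' := cj_le_of_le CT h.tn
    have eC := he.mono (hC.trans hB)
    have m1 : ∀ a ∈ half t S₁ C, a ∈ E₁ ⊔ F₁ ∧ a ∈ cen B := fun a ha => by
      obtain ⟨h5, b, hb', h6⟩ := (w.mem_half' CT).1 ha
      obtain ⟨a', ha', b', hb'', e, h7, -⟩ := key _ h6
      obtain ⟨rfl, -⟩ := uq _ h5 _ (conj_mem_cj hb') _ (s1.J_le ha') _ (s2.J_le hb'') e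
      exact ⟨ha', h7⟩
    have m2 : ∀ b ∈ cj t (half t S₁ (cj t C)), b ∈ cj t E₁ ⊔ cj t F₁ ∧ b ∈ cen B := by
      rintro _ ⟨b, hb', rfl⟩
      obtain ⟨h5, a, ha, h6⟩ := (w.mem_half' CT').1 hb'
      rw [← w.swap ha h5, conj_mem_cj_iff] at h6
      obtain ⟨a', ha', b', hb'', e, -, h7, -⟩ := key _ h6
      obtain ⟨-, rfl⟩ := uq _ ha _ (conj_mem_cj h5) _ (s1.J_le ha') _ (s2.J_le hb'') e
      exact ⟨hb'', h7⟩
    exact ⟨_, fun a ha => (m1 a ha).1, _, fun b hb => (m2 b hb).1, w.el_half CT eC,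
      (w.el_half CT' (eC.cj t)).cj t, fun a ha => (m1 a ha).2, fun b hb => (m2 b hb).2,
      w.le_halves CT⟩
  by_cases h2 : A ≤ nor (E₁ ⊔ F₁)
  · by_contra h3
    obtain ⟨P₁, p1, P₂, p2, e1, e2, c1, c2, h4⟩ := proj A le_rfl h2 (A ⊓ (D₁ ⊓ D₂)) inf_le_left
      (inf_le_right.trans inf_le_left) (inf_le_right.trans inf_le_right)
    obtain ⟨k1, k1'⟩ := s1.k1 he.two (fun x hx => (star x (hA hx) (h2 hx)).1) p1 e1 c1
    obtain ⟨k2, k2'⟩ := s2.k1 he.two (fun x hx => (star x (hA hx) (h2 hx)).2) p2 e2 c2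
    have n1 := card_eq_relIndex_mul A (D₁ ⊓ D₂)
    have n2 := relIndex_inf_le (H := D₁) (K := D₂) (L := A)
    have n3 := card_le_of_le h4
    have n4 := card_sup_mul_card_inf_of_le_normalizer (H := P₁) (K := P₂)
      (le_normalizer_of_le_centralizer ((p1.trans s1.J_le).trans
        (w.le_cen₁.trans (centralizer_anti (p2.trans s2.J_le)))))
    have n5 : 0 < Nat.card ↥(P₁ ⊓ P₂) := Nat.card_pos
    have n6 : Nat.card A ≤ D₁.relIndex A * Nat.card P₁ * (D₂.relIndex A * Nat.card P₂) := by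
      calc _ ≤ D₁.relIndex A * D₂.relIndex A * (Nat.card P₁ * Nat.card P₂) :=
            n1 ▸ Nat.mul_le_mul n2 (by nlinarith)
        _ = _ := by ring
    by_cases h5 : A ≤ nor E₁
    · have := k2' fun h6 => h3 fun x hx => h.ker hT h1 (hA hx) (h5 hx) (h6 hx)
      nlinarith [Nat.mul_le_mul k1 this]
    · nlinarith [Nat.mul_le_mul (k1' h5) k2]
  · exfalso
    obtain ⟨u, hu, h3⟩ := SetLike.not_le_iff_exists.1 h2
    obtain ⟨b1, b2⟩ := (hb u (hA hu)).resolve_left fun e => h3 e.1.nor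
    have k : ∀ X : Subgroup G, cj (u * t) (cj t X) = cj u X := fun X => by
      rw [cj_cj, mul_assoc, tt, mul_one]
    set B := A ⊓ nor (E₁ ⊔ F₁)
    have uc : ∀ x ∈ B, x * u = u * x := fun x hx => he.comm hx.1 hu
    have d2 : B ⊓ D₁ ≤ D₂ := fun x hx => by
      have h4 := mem_nor_cj (uc x hx.1) hx.2.1
      have h5 := mem_cen_cj (uc x hx.1) hx.2.2
      have h6 := (star x (hA hx.1.1) hx.1.2).2
      rw [← k, cj_inf t, cj_eq_self b2.nor_inf] at h5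
      refine ⟨?_, h5⟩
      rcases b2 with ⟨e, -⟩ | ⟨e, -⟩ <;> rw [k] at e <;> rw [e] at h4
      · exact h4
      · exact Blk.fix (h6.imp And.symm And.symm) h4
    obtain ⟨P₁, p1, P₂, p2, e1, e2, c1, c2, h4⟩ := proj B inf_le_left inf_le_right (B ⊓ D₁)
      inf_le_left inf_le_right d2
    obtain ⟨k1, -⟩ := s1.k1 (he.mono inf_le_left).two (fun x hx => (star x (hA hx.1) hx.2).1) p1 e1 c1
    have n1 := card_eq_relIndex_mul A (nor (E₁ ⊔ F₁))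
    have n2 : (nor (E₁ ⊔ F₁)).relIndex A ≤ 2 := relIndex_le_two fun x hx y hy h5 h6 => by
      have h7 := ((hb x (hA hx)).resolve_left fun e => h5 e.1.nor).1.nor
      have h8 := ((hb _ (inv_mem (hA hy))).resolve_left fun e => h6 (inv_mem_iff.1 e.1.nor)).1.nor
      simpa [mul_assoc] using mul_mem h7 (inv_mem h8)
    have n3 := card_eq_relIndex_mul B D₁
    have CT : B ⊓ D₁ ≤ S₁ ⊔ cj t S₁ := h4.trans (sup_le_sup (p1.trans s1.J_le) (p2.trans s2.J_le))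
    have n4 := card_sup_mul_card_inf_of_le_normalizer (CT.trans w.T_nor₂)
    have n5 := w.card_pair (p1.trans s1.J_le) le_rfl
    have n6 := card_le_of_le (sup_le (h4.trans (sup_le_sup_left (p2.trans s2.J_le) _)) le_sup_right :
      B ⊓ D₁ ⊔ cj t S₁ ≤ P₁ ⊔ cj t S₁)
    have n7 : B ⊓ D₁ ⊓ cj t S₁ = ⊥ := eq_bot_iff.2 fun x hx => by
      obtain ⟨a, ha, b, hb', e⟩ := kJ x (hA hx.1.1.1) hx.1.2 (d2 hx.1)
      obtain ⟨rfl, rfl⟩ := uq 1 (one_mem _) x hx.2 a (s1.J_le ha) b (s2.J_le hb') (by rw [one_mul, e])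
      have h5 := conj_mem_cj (g := u) hb'
      rw [cj_of_comm (uc x hx.1.1).symm, ← cj_sup, cj_cj, cj_eq_self b1.nor] at h5
      exact w.bot ▸ (⟨s1.J_le h5, hx.2⟩ : x ∈ S₁ ⊓ cj t S₁)
    rw [n7, card_bot, card_cj, s1.cS] at n4
    rw [s1.cS] at n5
    have n8 : Nat.card ↥(B ⊓ D₁) ≤ Nat.card P₁ := by omega
    nlinarith [Nat.mul_le_mul_left (D₁.relIndex B) n8]

end Ct

theorem jobOA : JobOA.{u} := by
  intro ou G _ _ t f L O S E E' E₁ F₁ Y₁ S₁ P h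
  have s1 := h.sy₁
  have w := h.w
  have tt := h.c.tt
  obtain ⟨T, hT, h1⟩ := exists_isSyl_le h.two_T1 h.T1_J
  have fin : ∀ T : Subgroup G, IsSyl 2 T (nor (E₁ ⊔ F₁ ⊔ cj t (E₁ ⊔ F₁))) → S₁ ⊔ cj t S₁ ≤ T →
      (∀ A ≤ T, El A → 256 ≤ Nat.card A → A ≤ S₁ ⊔ cj t S₁) → IsSyl 2 T ⊤ := fun T hT h2 h3 =>
    isSyl_of_isSyl_normalizer (hT.of_le (le_inf le_top le_normalizer) (inf_le_right.trans (h.norJ h2 h3)))
  rcases h1.eq_or_lt with rfl | h2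
  · exact Or.inl (fin _ hT le_sup_left h.big1)
  right
  have tT : t ∈ T := h1 (mem_sup_right (mem_zpowers t))
  obtain ⟨x, hx, h3⟩ := SetLike.exists_of_lt (lt_inf_normalizer hT.isPGroup h2)
  obtain ⟨a, ha, e⟩ := h.adj hx.2
  have aT : a ∈ S₁ ⊔ cj t S₁ ⊔ zpowers t := mem_sup_left (mem_sup_left ha)
  obtain ⟨σ, σT, σn, σt, σE⟩ : ∃ σ ∈ T, σ ∈ nor (S₁ ⊔ cj t S₁ ⊔ zpowers t) ∧ σ * t = t * σ ∧
      cj σ E₁ = F₁ := by
    have m1 : a⁻¹ * x ∈ T := mul_mem (inv_mem (h1 aT)) hx.1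
    have m2 := mul_mem (inv_mem (le_normalizer aT)) hx.2
    set c := a⁻¹ * x
    have nW : c ∉ nor (E₁ ⊔ cj t E₁) := fun e1 => h3 (by
      have := h.sylW.eq_of_le (hT.isPGroup.to_le inf_le_left) (le_inf h1 h.T1_W) inf_le_right
      simpa [c] using mul_mem aT (this.le ⟨m1, e1⟩))
    have k : cj c (cj t E₁) = cj t (cj c E₁) := by rw [cj_cj, cj_cj, e]
    rcases h.perm (hT.le m1) with e1 | e1 | e1 | e1
    · exact (nW (cj_eq_self_iff.1 (by rw [cj_sup, k, e1]))).elim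
    · exact ⟨c, m1, m2, e, e1⟩
    · exact (nW (cj_eq_self_iff.1 (by rw [cj_sup, k, e1, cj_tt tt, sup_comm]))).elim
    · refine ⟨t * c, mul_mem tT m1, mul_mem (le_normalizer (mem_sup_right (mem_zpowers t))) m2,
        by rw [mul_assoc, e], by rw [← cj_cj, e1, cj_tt tt]⟩
  have fam : ∀ n ∈ T, ∀ A, Fam t E₁ F₁ A → Fam t E₁ F₁ (cj n A) := by
    rintro n hn A (rfl | rfl | rfl | rfl)
    · exact h.perm (hT.le hn)
    · simpa only [← cj_cj, σE] using h.perm (hT.le (mul_mem hn σT))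
    · simpa only [← cj_cj] using h.perm (hT.le (mul_mem hn tT))
    · simpa only [← cj_cj, σE] using h.perm (hT.le (mul_mem hn (mul_mem tT σT)))
  have hb := fun n hn => h.blk (fam n hn)
  obtain ⟨b1, b2⟩ := (hb σ σT).resolve_right fun e1 => by
    have h4 := cj_le_of_le (le_sup_left : E₁ ≤ E₁ ⊔ F₁) e1.1.nor
    rw [σt, ← cj_cj, σE] at h4
    exact h.not_le₁₂ (h4.trans s1.J_le) h.sy₂.E'S h.sy₂.cE'
  have σF : cj σ F₁ = E₁ := (b1.resolve_left fun e1 => s1.ne (e1.1.symm.trans σE)).2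
  have k : ∀ A : Subgroup G, cj σ (cj t A) = cj t (cj σ A) := fun A => by rw [cj_cj, cj_cj, σt]
  have σL := h.c.norL (mem_cen1.2 σt)
  obtain ⟨s, hs, h4⟩ := ou G L S E E' P σ h.d.syl h.o σL (mem_normalizer_of_cj_le (by
      rw [← h.d.syl.eq_of_le (h.two_T1.to_le inf_le_left)
        (le_inf (w.B_le.trans le_sup_left) h.d.syl.le) inf_le_right, cj_inf, cj_eq_self σn,
        cj_eq_self σL]))
    (eq_of_le_of_card_ge (Ct.cj_diag h.wE h.wF σt (by rw [cj_sup, k, σE]))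
      (by rw [card_cj, h.o.sy.cE, h.o.sy.cE']))
    (eq_of_le_of_card_ge (Ct.cj_diag h.wF h.wE σt (by rw [cj_sup, k, σF]))
      (by rw [card_cj, h.o.sy.cE, h.o.sy.cE']))
    (w.fix (h.ker hT.isPGroup h1 (mul_mem σT σT) b1.sq b2.sq)
      (by rw [mul_assoc, σt, ← mul_assoc, σt, mul_assoc]))
  have big := h.bigT hT.isPGroup h1 hb
  exact ⟨s * σ, T, fin T hT (le_sup_left.trans h1) big, le_sup_left.trans h1, tT,
    mul_mem (h1 (mem_sup_left (w.B_le hs))) σT,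
    by rw [mul_assoc, σt, ← mul_assoc, h.c.cL (h.d.syl.le hs), mul_assoc], h4,
    by rw [← cj_cj, σE, cj_eq_self (h.T0_nor (w.B_le hs)).1.2], hT.le, fun n hn => h.perm hn,
    fun τ h5 => h.ker hT.isPGroup h1 h5, big, fun n hn => h.nW hn, h.sylW⟩

end H99.Wr
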