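import Cfsg.Agent.H98.DP0CSpec

/-! # S3275, chapter U0 section C, job PB: pulling the component back -/

set_option autoImplicit false

namespace H99.DP0PB

open Subgroup Cfsg H98 H48.DP H57.DPC H48.DP2 H98.DP0C
open scoped commutatorElement

universe u

variable {G X : Type u} [Group G] [Group X] {H : Subgroup G} {π : H →* X}

/-- the full preimage -/
abbrev up (π : H →* X) (S : Subgroup X) : Subgroup G := (S.comap π).map H.subtype

theorem mem_up {S : Subgroup X} {g : G} : g ∈ up π S ↔ ∃ h : g ∈ H, π ⟨g, h⟩ ∈ S := by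
  constructor
  · rintro ⟨x, hx, rfl⟩
    exact ⟨x.2, hx⟩
  · rintro ⟨h, hx⟩
    exact ⟨⟨g, h⟩, hx, rfl⟩

theorem mem_O (p : Pj H π) {g : G} (h : g ∈ H) : g ∈ O2 H ↔ π ⟨g, h⟩ = 1 := by
  rw [← MonoidHom.mem_ker, p.ker, mem_subgroupOf]

theorem O_le (p : Pj H π) (S : Subgroup X) : O2 H ≤ up π S := fun g hg =>
  mem_up.2 ⟨pCoreOf_le H hg, by rw [(mem_O p _).1 hg]; exact one_mem S⟩

theorem up_two (p : Pj H π) {S : Subgroup X} (hS : IsPGroup 2 S) : IsPGroup 2 (up π S) := by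
  refine IsPGroup.map (hS.comap_of_ker_isPGroup π ?_) _
  rw [p.ker]
  exact (isPGroup_pCoreOf H).comap_subtype

theorem up_nor [Finite G] {S : Subgroup X} {g : G} (h : g ∈ H) (hn : π ⟨g, h⟩ ∈ No S) :
    g ∈ No (up π S) := by
  refine mem_normalizer_fintype fun x hx => ?_
  obtain ⟨hx, e⟩ := mem_up.1 hx
  refine mem_up.2 ⟨mul_mem (mul_mem h hx) (inv_mem h), ?_⟩
  have := conj_mem_of_mem_normalizer hn e
  rw [← map_inv, ← map_mul, ← map_mul] at this
  exact this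

theorem bar_nor [Finite X] {S : Subgroup G} {g : G} (h : g ∈ H) (hn : g ∈ No S) :
    π ⟨g, h⟩ ∈ No (bar π S) := by
  refine mem_normalizer_fintype ?_
  rintro _ ⟨x, hx, rfl⟩
  refine ⟨⟨g, h⟩ * x * ⟨g, h⟩⁻¹, ?_, by rw [map_mul, map_mul, map_inv]⟩
  have hx' : (x : G) ∈ S := hx
  exact (conj_mem_of_mem_normalizer hn hx' : g * x * g⁻¹ ∈ S)

theorem bar_two {S : Subgroup G} (hS : IsPGroup 2 S) : IsPGroup 2 (bar π S) :=
  hS.comap_subtype.map π

theorem up_inj (p : Pj H π) {A B : Subgroup X} (e : up π A = up π B) : A = B :=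
  comap_injective p.surj (map_injective H.subtype_injective e)

theorem O_lt (p : Pj H π) {A : Subgroup X} (hA : A ≠ ⊥) : O2 H < up π A := by
  refine lt_of_le_of_ne (O_le p A) fun e => hA (eq_bot_iff.2 fun a ha => ?_)
  obtain ⟨x, rfl⟩ := p.surj a
  have : (x : G) ∈ O2 H := e ▸ mem_up.2 ⟨x.2, ha⟩
  exact (mem_O p x.2).1 this

theorem jobPB : JobPB.{u} := by
  intro l32 G X _ _ _ _ H π K y z hy hz p hK hN z3 zK yK htwo
  have f := l32 X K hK
  have LH : up π K ≤ H := map_subtype_le _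
  have nK : ∀ x : X, x ∈ No K := fun x => le_normalizer_of_normal (mem_top x)
  refine ⟨O_le p K, LH, fun g hg => up_nor hg (nK _), ?_, mem_up.2 ⟨hz, zK⟩, hy, fun l hl => ?_,
    fun S hS h2 hn s hs => ?_, fun S hS h2 hn hO => ?_, ?_⟩
  · obtain ⟨e⟩ := hK
    let φ : up π K →* K := (π.comp (inclusion LH)).codRestrict K fun x => (mem_up.1 x.2).2
    refine ⟨e.toMonoidHom.comp φ, e.surjective.comp fun k => ?_, ?_⟩
    · obtain ⟨x, hx⟩ := p.surj k
      exact ⟨⟨x, mem_up.2 ⟨x.2, by rw [Subtype.coe_eta, hx]; exact k.2⟩⟩, Subtype.ext hx⟩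
    · ext x
      rw [MonoidHom.mem_ker, mem_subgroupOf, mem_O p (LH x.2), MonoidHom.comp_apply]
      exact (map_eq_one_iff _ e.injective).trans Subtype.ext_iff
  · obtain ⟨hl, e⟩ := mem_up.1 hl
    have hm : ⁅y, l⁆ ∈ H := (⁅(⟨y, hy⟩ : H), (⟨l, hl⟩ : H)⁆).2
    rw [mem_O p hm]
    have : π ⁅(⟨y, hy⟩ : H), (⟨l, hl⟩ : H)⁆ = 1 := by
      rw [map_commutatorElement, commutatorElement_eq_one_iff_mul_comm]
      exact (mem_centralizer_iff.1 yK _ e).symm
    exact this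
  · exact mem_up.2 ⟨hS hs, htwo _ (bar_two h2) (bar_nor hy hn) ⟨⟨s, hS hs⟩, hs, rfl⟩⟩
  · have hb : bar π S ≤ K := by
      rintro _ ⟨x, hx, rfl⟩
      exact (mem_up.1 (hS (mem_subgroupOf.1 hx))).2
    rcases f.four _ zK z3 _ hb (bar_two h2) (bar_nor hz hn) with e | e
    · refine .inl (le_antisymm (fun s hs => ?_) hO)
      rw [mem_O p (LH (hS hs)), ← mem_bot, ← e]
      exact ⟨⟨s, LH (hS hs)⟩, hs, rfl⟩
    · refine .inr ?_
      rw [← relIndex_subgroupOf (hS.trans LH), ← p.ker, relIndex_ker, e]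
  · obtain ⟨A, B, hA, hB, A2, B2, An, Bn, A1, B1, hAB, hK'⟩ := f.pair _ zK z3
    refine ⟨up π A, up π B, up_two p A2, up_two p B2, up_nor hz An, up_nor hz Bn, O_lt p A1,
      O_lt p B1, fun e => hAB (up_inj p e), ?_⟩
    rw [← Subgroup.map_sup, comap_sup_eq _ _ _ p.surj, le_antisymm (sup_le hA hB) hK']

end H99.DP0PB
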