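import Cfsg.Agent.H73.GSSpec

/-! # S3275, chapter C4 part II, job TX: transfer to the section -/

set_option autoImplicit false

namespace H99.DP0TX

open Subgroup Cfsg H98 H48.DP H57.DPC H48.DP2 H98.DP0C H73.GS
open scoped commutatorElement

universe u

theorem zp3 {G : Type u} [Group G] {a : G} (h : orderOf a = 3) : IsPGroup 3 (zpowers a) :=
  isPGroup_zpowers (k := 1) (by rw [pow_one, ← h, pow_orderOf_eq_one])

theorem sup3 {G : Type u} [Group G] {R : Subgroup G} {c : G} (hR : IsPGroup 3 R)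
    (h : orderOf c = 3) (hc : R ≤ C1 c) : IsPGroup 3 (R ⊔ zpowers c : Subgroup G) := by
  refine IsPGroup.to_sup_of_normal_right' hR (zp3 h) (le_normalizer_of_le_centralizer ?_)
  rintro g hg _ ⟨i, rfl⟩
  exact ((show Commute c g from (mem_centralizer_singleton_iff.1 (hc hg)).symm).zpow_left i).eq

theorem jobTX : JobTX.{u} := by
  intro sec lf bc ng ag G X _ _ _ _ M Q H π y x u hx N h hH hn p hN
  have : Fact (Nat.Prime 3) := ⟨Nat.prime_three⟩
  obtain ⟨l1, l2, l3⟩ := lf G X H π p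
  have xg := Bd.good h
  have xM := (Bd.mem h).2.1
  have mO : ∀ a : H, π a = 1 → (a : G) ∈ O2 H := fun a e => by
    rwa [← MonoidHom.mem_ker, p.ker, mem_subgroupOf] at e
  have nO : H ≤ No (O2 H) := le_normalizer_pCoreOf le_normalizer
  have x3' : (⟨x, hx⟩ : H) ^ 3 = 1 := Subtype.ext (h.z3 ▸ pow_orderOf_eq_one x :)
  have x3 : orderOf (π ⟨x, hx⟩) = 3 := by
    refine orderOf_eq_prime (by rw [← map_pow, x3', map_one]) fun e => ?_
    have := l2 _ ⟨x, hx⟩ 1 (zp3 h.z3) (mem_zpowers x) (one_mem _) (e.trans (map_one π).symm)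
    have e1 : x = 1 := congrArg Subtype.val this
    have := h.z3
    rw [e1, orderOf_one] at this
    omega
  have lift : ∀ R : Subgroup X, IsPGroup 3 R → π ⟨x, hx⟩ ∈ R →
      ∃ S : Subgroup G, S ≤ H ∧ IsPGroup 3 S ∧ x ∈ S ∧ bar π S = R ∧ S ≤ M := by
    intro R hR hxR
    obtain ⟨S, h1, h2, h3, h4⟩ := l1 (zpowers x) R (zpowers_le.2 hx) (zp3 h.z3) hR (by
      rintro _ ⟨a, ⟨i, e⟩, rfl⟩
      have : a = ⟨x, hx⟩ ^ i := Subtype.ext e.symm
      rw [this, map_zpow]
      exact zpow_mem hxR i)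
    exact ⟨S, h1, h2, h3 (mem_zpowers x), h4, t3 h.toUb h2 h.z3 xg xM (h3 (mem_zpowers x))⟩
  have cube : ∀ S : Subgroup G, IsPGroup 3 S → ∀ a : H, (a : G) ∈ S → π a ^ 3 = 1 →
      (a : G) ^ 3 = 1 := fun S hS a ha e =>
    congrArg Subtype.val (l2 S (a ^ 3) 1 hS (pow_mem ha 3) (one_mem _) (by rw [map_pow, e, map_one]))
  have comm : ∀ S : Subgroup G, IsPGroup 3 S → ∀ a b : H, (a : G) ∈ S → (b : G) ∈ S →
      π a * π b = π b * π a → (a : G) * b = b * a := fun S hS a b ha hb e =>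
    congrArg Subtype.val (l2 S (a * b) (b * a) hS (mul_mem ha hb) (mul_mem hb ha)
      (by rw [map_mul, map_mul, e]))
  have bm : ∀ S : Subgroup G, S ≤ M → bar π S ≤ bar π M := fun S hS => map_mono (comap_mono hS)
  refine { sec G X H π h.toHyp hH p (no27 h.toUb h.z3 xg xM hH hx hn) with
    x3 := x3, alt := fun c c3 cx cn => ?_, ag := fun D hD xD ex h27 => ?_ }
  · obtain ⟨S, SH, hS, xS, eS, SM⟩ := lift (zpowers (π ⟨x, hx⟩) ⊔ zpowers c)
      (sup3 (zp3 x3) c3 (zpowers_le.2 (mem_centralizer_singleton_iff.2 cx.symm.eq)))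
      (mem_sup_left (mem_zpowers _))
    obtain ⟨c0, cS, rfl⟩ : c ∈ bar π S := eS ▸ mem_sup_right (mem_zpowers c)
    have cS : (c0 : G) ∈ S := cS
    have c03 : orderOf (c0 : G) = 3 := by
      refine orderOf_eq_prime (cube S hS c0 cS (c3 ▸ pow_orderOf_eq_one _)) fun e => cn ?_
      rw [show c0 = 1 from Subtype.ext e, map_one]
      exact one_mem _
    have xc : x * c0 = c0 * x := comm S hS ⟨x, hx⟩ c0 xS cS cx.symm.eq
    have cn0 : (c0 : G) ∉ zpowers x := by
      rintro ⟨i, e⟩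
      have : c0 = ⟨x, hx⟩ ^ i := Subtype.ext e.symm
      exact cn (by rw [this, map_zpow]; exact zpow_mem (mem_zpowers _) i)
    by_cases gc : Good (c0 : G)
    · have OM := ng G M Q (O2 H) x c0 h.toUb xM (SM cS) h.z3 c03 xc cn0 xg gc (isPGroup_pCoreOf H)
        (nO hx) (nO c0.2)
      rw [hN OM]
      refine .inl ⟨fun R hR xR => ?_, fun g hg => ?_⟩
      · obtain ⟨S', -, -, -, rfl, S'M⟩ := lift R hR xR
        exact bm S' S'M
      · obtain ⟨g0, rfl⟩ := p.surj g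
        obtain ⟨m, hm, e⟩ := hg
        have hm : (m : G) ∈ M := hm
        have h1 := OM (mO (g0 * c0 * g0⁻¹ * m⁻¹) (by
          rw [map_mul, map_mul, map_mul, map_inv, map_inv, e, mul_inv_cancel]))
        have h2 : (g0 : G) * c0 * (g0 : G)⁻¹ ∈ M := by simpa using M.mul_mem h1 hm
        exact ⟨g0, h.tg c0 g0 c03 gc (SM cS) h2, rfl⟩
    · refine .inr ⟨fun k => gc ?_, fun R hR xR Rc => ?_⟩
      · obtain ⟨g, e⟩ := isConj_iff.1 k
        obtain ⟨g0, rfl⟩ := p.surj g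
        have o3 : orderOf ((g0 * ⟨x, hx⟩ * g0⁻¹ : H) : G) = 3 := by
          rw [← h.z3]
          exact (SemiconjBy.orderOf_eq (g0 : G) (by simp [SemiconjBy])).symm
        obtain ⟨w, ew⟩ := isConj_iff.1 (l3 _ c0 o3 c03 (by rw [map_mul, map_mul, map_inv, e]))
        rw [← ew]
        exact good_cj (good_cj xg g0) w
      · have hA : zpowers x ⊔ zpowers (c0 : G) ≤ S := sup_le (zpowers_le.2 xS) (zpowers_le.2 cS)
        obtain ⟨S', S'H, hS', AS', eS'⟩ := l1 _ (R ⊔ zpowers (π c0)) (hA.trans SH) (hS.to_le hA)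
          (sup3 hR c3 Rc) ((map_mono (comap_mono hA)).trans
            (eS.le.trans (sup_le_sup_right (zpowers_le.2 xR) _)))
        have xS' := AS' (mem_sup_left (mem_zpowers x))
        have cS' := AS' (mem_sup_right (mem_zpowers _))
        have hC : R ⊔ zpowers (π c0) ≤ C1 (π c0) :=
          sup_le Rc (zpowers_le.2 (mem_centralizer_singleton_iff.2 rfl))
        have h1 : S' ≤ C1 (c0 : G) := fun a ha => mem_centralizer_singleton_iff.2
          (comm S' hS' ⟨a, S'H ha⟩ c0 ha cS' (mem_centralizer_singleton_iff.1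
            (hC (eS' ▸ ⟨⟨a, S'H ha⟩, ha, rfl⟩))))
        have h2 := bc G M Q S' c0 x h.toUb (SM cS) c03 gc hS' h1 xS' h.z3
        intro r hr
        obtain ⟨a, ha, rfl⟩ : r ∈ bar π S' := eS' ▸ mem_sup_left hr
        rw [mem_centralizer_singleton_iff, ← map_mul, ← map_mul]
        exact congrArg π (Subtype.ext (mem_centralizer_singleton_iff.1 (h2 ha)))
  · obtain ⟨S, SH, hS, xS, rfl, SM⟩ := lift D hD xD
    have hc : 27 ≤ Nat.card S := by
      refine h27.trans ((Nat.le_of_dvd Nat.card_pos (card_map_dvd _ π)).trans ?_)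
      exact (Nat.card_congr (subgroupOfEquivOfLe SH).toEquiv).le
    obtain ⟨a, ha, b, hb, a3, b3, ab, nb, ga, gb⟩ := ag G M Q S y x u h SM hS
      (fun d hd => cube S hS ⟨d, SH hd⟩ hd (ex _ ⟨⟨d, SH hd⟩, hd, rfl⟩)) hc
    rw [hN (ng G M Q (O2 H) a b h.toUb (SM ha) (SM hb) a3 b3 ab nb ga gb (isPGroup_pCoreOf H)
      (nO (SH ha)) (nO (SH hb)))]
    exact bm S SM

end H99.DP0TX
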