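import Cfsg.Agent.H92.DP0BSpec
import Cfsg.Agent.H98.YMin

/-! # S3275, chapter U0 section B, job IS -/

set_option autoImplicit false

namespace H99.DP0IS

open Subgroup Cfsg H98 H48.DP H57.DPC H48.DP2 H92.DPB
open scoped commutatorElement

universe u

theorem cj_zp {G : Type u} [Group G] (g a : G) : cj g (zpowers a) = zpowers (g * a * g⁻¹) :=
  MonoidHom.map_zpowers _ _

theorem jobIS : JobIS.{u} := by
  intro k3 iso sy G _ _ M Q H D x h b
  have : Fact (Nat.Prime 3) := ⟨Nat.prime_three⟩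
  obtain ⟨P, DP, PM, Px⟩ := sy G M Q H D x h b
  obtain ⟨B, hB, BH, BD⟩ := b.big
  have hD : IsPGroup 3 D := P.isPGroup'.to_le DP
  have xD : x ∈ D := by
    have : zpowers x ≤ D := b.der ▸ (commutator_le.2 fun a ha c hc =>
      mul_mem (mul_mem (mul_mem ha hc) (inv_mem ha)) (inv_mem hc))
    exact this (mem_zpowers x)
  have nx : ∀ g ∈ No D, cj g (zpowers x) = zpowers x := fun g hg => by
    rw [← b.der, cj_commutator, cj_eq_self hg]
  have hn : ¬ D ≤ zpowers x := fun e => by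
    have := card_le_of_le e
    rw [b.card, Nat.card_zpowers, b.x3] at this
    omega
  obtain ⟨e, eD, ex, he⟩ := exists_fix_mod hD (el_pg hB.1) BD hn
  have o3 : ∀ d ∈ D, d ∉ zpowers x → orderOf d = 3 := fun d hd hx =>
    orderOf_eq_prime (b.ex d hd) fun e1 => hx (e1 ▸ one_mem _)
  have cm : ∀ d ∈ D, Commute d x := fun d hd => mem_centralizer_singleton_iff.1 (Px (DP hd))
  obtain ⟨u1, u2⟩ := e9 (o3 e eD ex) b.x3 (cm e eD) ex
  have UD : zpowers e ⊔ zpowers x ≤ D := sup_le (zpowers_le.2 eD) (zpowers_le.2 xD)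
  have hU : InU M (zpowers e ⊔ zpowers x) := by
    refine (k3 G M Q h B hB (BH.trans inf_le_right)).2.2 _ (UD.trans (b.le.trans inf_le_right)) u1 u2
      fun g hg => mem_normalizer_of_cj_le ?_
    rw [cj_sup, nx g (BD hg), cj_zp]
    refine sup_le (zpowers_le.2 ?_) le_sup_right
    have e1 : g * e * g⁻¹ = ⁅e, g⁆⁻¹ * e := by simp only [commutatorElement_def]; group
    rw [e1]
    exact mul_mem (mem_sup_right (inv_mem (he g hg))) (mem_sup_left (mem_zpowers e))
  refine ⟨⟨e, eD, ex, hU⟩, fun X XM X2 DX => ?_⟩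
  obtain ⟨g, hg, gM⟩ := SetLike.not_le_iff_exists.1 b.out
  have yD : g * e * g⁻¹ ∈ D := conj_mem_of_mem_normalizer hg.2 eD
  have yx : g * e * g⁻¹ ∉ zpowers x := fun k => ex (by rwa [← nx g hg.2, conj_mem_cj_iff] at k)
  refine iso G M Q P (g * e * g⁻¹) x h PM (DP yD) (DP xD) Px (o3 _ yD yx) b.x3 yx (fun hI => ?_) X XM
    X2 (DX yD) (DX xD)
  have e2 : cj g (zpowers e ⊔ zpowers x) = zpowers (g * e * g⁻¹) ⊔ zpowers x := by
    rw [cj_sup, nx g hg.2, cj_zp]
  rw [← e2] at hI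
  have h9 := h.n9 _ hI (by rw [card_cj, u2])
  obtain ⟨B1, B1M, hB1, UB⟩ := hU
  refine gM (h.t27 B1 g hB1 B1M (le_trans ?_ h9))
  exact le_normalizer_of_le_centralizer fun a ha c hc =>
    (el_comm (el_cj hB1.1 g) (cj_mono g UB hc) ha).eq

end H99.DP0IS
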