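import Cfsg.Agent.H99.CD

/-! Centrally large subgroups and abelian subgroups of largest order. -/

open scoped Pointwise commutatorElement
open Cfsg Subgroup

namespace H99

variable {G : Type*} [Group G] [Finite G]

theorem exists_mem_maxAbelianSubgroups : ∃ A : Subgroup G, A ∈ maxAbelianSubgroups G := by
  obtain ⟨A, hA⟩ := Set.Finite.exists_maximalFor (fun A : Subgroup G => Nat.card A)
    {A : Subgroup G | IsMulCommutative A} (Set.toFinite _) ⟨⊥, by
      show IsMulCommutative _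
      infer_instance⟩
  refine ⟨A, hA.prop, fun B hB => ?_⟩
  by_contra h
  have h' : Nat.card A ≤ Nat.card B := by omega
  exact h (hA.le_of_le hB h')

theorem maxAb_eq_of_le {A B : Subgroup G} (hA : A ∈ maxAbelianSubgroups G)
    (hB : IsMulCommutative B) (h : A ≤ B) : A = B :=
  Subgroup.eq_of_le_of_card_ge h (hA.2 B hB)

theorem maxAb_centralizer_eq {A : Subgroup G} (hA : A ∈ maxAbelianSubgroups G) :
    centralizer (A : Set G) = A := by
  apply le_antisymm _ ((isMulCommutative_iff_le_centralizer A).1 hA.1)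
  intro x hx
  have h1 : IsMulCommutative ↥(zpowers x ⊔ A) :=
    isMulCommutative_sup_of_le_centralizer inferInstance hA.1 ((zpowers_le).2 hx)
  rw [maxAb_eq_of_le hA h1 le_sup_right]
  exact mem_sup_left (mem_zpowers x)

theorem mem_maxAb_of_card_le {A B : Subgroup G} (hA : A ∈ maxAbelianSubgroups G)
    (hB : IsMulCommutative B) (h : Nat.card A ≤ Nat.card B) : B ∈ maxAbelianSubgroups G :=
  ⟨hB, fun C hC => (hA.2 C hC).trans h⟩

theorem maxAb_card_eq {A B : Subgroup G} (hA : A ∈ maxAbelianSubgroups G)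
    (hB : B ∈ maxAbelianSubgroups G) : Nat.card A = Nat.card B :=
  le_antisymm (hB.2 A hA.1) (hA.2 B hB.1)

omit [Finite G] in
theorem le_thompsonSubgroupA {A : Subgroup G} (hA : A ∈ maxAbelianSubgroups G) :
    A ≤ thompsonSubgroupA G := le_sSup hA

theorem centralizer_thompsonSubgroupA_le :
    centralizer (thompsonSubgroupA G : Set G) ≤ thompsonSubgroupA G := by
  obtain ⟨A, hA⟩ := exists_mem_maxAbelianSubgroups (G := G)
  exact (centralizer_le (le_thompsonSubgroupA hA)).trans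
    ((maxAb_centralizer_eq hA).le.trans (le_thompsonSubgroupA hA))

theorem isMulCommutative_centralizer_of_le {Q : Subgroup G} (h : centralizer (Q : Set G) ≤ Q) :
    IsMulCommutative (centralizer (Q : Set G)) := by
  rw [isMulCommutative_iff_le_centralizer]
  exact h.trans (le_centralizer_centralizer' Q)

/-- The counting behind the interplay of a centrally large `Q` and a large abelian `A`. -/
theorem cl_maxAb_key {Q A : Subgroup G} (hQ : IsCentrallyLarge Q)
    (hA : A ∈ maxAbelianSubgroups G) :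
    Nat.card ↥(Q ⊔ A) * Nat.card ↥(Q ⊓ A) = Nat.card Q * Nat.card A ∧
    centralizer ((Q ⊔ A : Subgroup G) : Set G) = centralizer (Q : Set G) ⊓ A ∧
    IsCentralizerLarge (Q ⊔ A) ∧
    (Q ⊓ A) ⊔ centralizer (Q : Set G) ∈ maxAbelianSubgroups G ∧
    Nat.card ↥(Q ⊓ A) * Nat.card (centralizer (Q : Set G)) =
      Nat.card A * Nat.card ↥(centralizer (Q : Set G) ⊓ A) := by
  set Z := centralizer (Q : Set G) with hZ
  have hZQ : Z ≤ Q := cl_centralizer_le hQ
  have hZc : IsMulCommutative Z := isMulCommutative_centralizer_of_le hZQ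
  have hQAZ : Q ⊓ A ≤ centralizer (Z : Set G) := inf_le_left.trans (le_centralizer_centralizer' Q)
  have hab : IsMulCommutative ↥((Q ⊓ A) ⊔ Z) :=
    isMulCommutative_sup_of_le_centralizer (isMulCommutative_of_le hA.1 inf_le_right) hZc hQAZ
  have h1 : Nat.card ↥((Q ⊓ A) ⊔ Z) ≤ Nat.card A := hA.2 _ hab
  have h2 := card_mul_card_le_sup (Q ⊓ A) Z
  have hi : Q ⊓ A ⊓ Z = Z ⊓ A := by
    rw [inf_comm Q A, inf_assoc, inf_eq_right.2 hZQ, inf_comm]
  rw [hi] at h2
  have h3 := card_mul_card_le_sup Q A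
  have hC : centralizer ((Q ⊔ A : Subgroup G) : Set G) = Z ⊓ A := by
    rw [centralizer_sup', maxAb_centralizer_eq hA]
  have h4 := cdm_le (Q ⊔ A)
  have h5 := (isCentralizerLarge_iff Q).1 (cl_cd hQ)
  rw [isCentralizerLarge_iff]
  unfold cdm at *
  rw [hC] at *
  rw [← hZ] at h5
  have p1 : 0 < Nat.card Q := Nat.card_pos
  have p2 : 0 < Nat.card ↥(Q ⊓ A) := Nat.card_pos
  have p3 : 0 < Nat.card ↥(Z ⊓ A) := Nat.card_pos
  have p4 : 0 < Nat.card A := Nat.card_pos
  have key : Nat.card ↥(Q ⊔ A) * Nat.card ↥(Q ⊓ A) = Nat.card Q * Nat.card A ∧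
      Nat.card ↥(Q ⊔ A) * Nat.card ↥(Z ⊓ A) = maxCentralizerProduct G ∧
      Nat.card A ≤ Nat.card ↥((Q ⊓ A) ⊔ Z) ∧
      Nat.card ↥(Q ⊓ A) * Nat.card Z = Nat.card A * Nat.card ↥(Z ⊓ A) := by
    generalize maxCentralizerProduct G = m at *
    generalize Nat.card ↥(Q ⊔ A) = s at *
    generalize Nat.card ↥(Q ⊓ A) = i at *
    generalize Nat.card ↥((Q ⊓ A) ⊔ Z) = b at *
    generalize Nat.card ↥(Z ⊓ A) = j at *
    generalize Nat.card Q = q at *
    generalize Nat.card A = a at *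
    generalize Nat.card Z = z at *
    subst h5
    have e1 : i * z ≤ a * j := h2.trans (Nat.mul_le_mul_right _ h1)
    have e2 : q * (i * z) ≤ q * (a * j) := Nat.mul_le_mul_left _ e1
    have e3 : (q * a) * j ≤ (s * i) * j := Nat.mul_le_mul_right _ h3
    have e4 : (s * j) * i ≤ (q * z) * i := Nat.mul_le_mul_right _ h4
    have r1 : q * (i * z) = (q * z) * i := by ring
    have r2 : q * (a * j) = (q * a) * j := by ring
    have r3 : (s * i) * j = (s * j) * i := by ring
    have f1 : q * (i * z) = q * (a * j) := by omega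
    have f2 : (q * a) * j = (s * i) * j := by omega
    have f3 : (s * j) * i = (q * z) * i := by omega
    have g1 := Nat.eq_of_mul_eq_mul_left p1 f1
    refine ⟨(Nat.eq_of_mul_eq_mul_right p3 f2).symm, Nat.eq_of_mul_eq_mul_right p2 f3, ?_, g1⟩
    exact Nat.le_of_mul_le_mul_right (g1 ▸ h2) p3
  exact ⟨key.1, rfl, key.2.1, mem_maxAb_of_card_le hA hab key.2.2.1, key.2.2.2⟩

theorem cl_coe_sup_maxAb {Q A : Subgroup G} (hQ : IsCentrallyLarge Q)
    (hA : A ∈ maxAbelianSubgroups G) :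
    ((Q ⊔ A : Subgroup G) : Set G) = (Q : Set G) * (A : Set G) :=
  (coe_sup_eq_mul_iff Q A).2 (cl_maxAb_key hQ hA).1

theorem cl_sup_maxAb {Q A : Subgroup G} (hQ : IsCentrallyLarge Q)
    (hA : A ∈ maxAbelianSubgroups G) : IsCentrallyLarge (Q ⊔ A) :=
  cl_of_le_of_cd hQ (cl_maxAb_key hQ hA).2.2.1 le_sup_left

theorem cl_mem_mul_of_centralizes {Q A : Subgroup G} (hQ : IsCentrallyLarge Q)
    (hA : A ∈ maxAbelianSubgroups G) {x : G}
    (hx : x ∈ (Q ⊔ A) ⊓ centralizer ((Q ⊓ A : Subgroup G) : Set G)) :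
    x ∈ (centralizer (Q : Set G) : Set G) * (A : Set G) := by
  obtain ⟨q, hq, a, ha, rfl⟩ := mem_sup_of_coe_eq_mul (cl_coe_sup_maxAb hQ hA) hx.1
  have haC : a ∈ centralizer ((Q ⊓ A : Subgroup G) : Set G) :=
    centralizer_le (show Q ⊓ A ≤ A from inf_le_right)
      ((isMulCommutative_iff_le_centralizer A).1 hA.1 ha)
  have hqC : q ∈ centralizer ((Q ⊓ A : Subgroup G) : Set G) :=
    (Subgroup.mul_mem_cancel_right _ haC).1 hx.2
  have hB := (cl_maxAb_key hQ hA).2.2.2.1
  have hq' : q ∈ (Q ⊓ A) ⊔ centralizer (Q : Set G) := by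
    rw [← maxAb_centralizer_eq hB, centralizer_sup']
    exact ⟨hqC, le_centralizer_centralizer' Q hq⟩
  have hn : (Q ⊓ A) ≤ normalizer ((centralizer (Q : Set G) : Subgroup G) : Set G) :=
    (inf_le_left.trans (le_centralizer_centralizer' Q)).trans (centralizer_le_normalizer _)
  rw [sup_comm] at hq'
  obtain ⟨z, hz, b, hb, rfl⟩ := mem_sup_of_coe_eq_mul
    (Subgroup.coe_mul_of_right_le_normalizer_left _ _ hn) hq'
  exact ⟨z, hz, b * a, A.mul_mem hb.2 ha, by simp [mul_assoc]⟩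

theorem cl_centralizer_sup_maxAb_le {Q A : Subgroup G} (hQ : IsCentrallyLarge Q)
    (hA : A ∈ maxAbelianSubgroups G) :
    centralizer (Q : Set G) ⊔ A ≤ (Q ⊔ A) ⊓ centralizer ((Q ⊓ A : Subgroup G) : Set G) :=
  sup_le (le_inf ((cl_centralizer_le hQ).trans le_sup_left)
    (centralizer_le (show Q ⊓ A ≤ Q from inf_le_left)))
    (le_inf le_sup_right (((isMulCommutative_iff_le_centralizer A).1 hA.1).trans
      (centralizer_le (show Q ⊓ A ≤ A from inf_le_right))))

theorem cl_coe_centralizer_sup_maxAb {Q A : Subgroup G} (hQ : IsCentrallyLarge Q)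
    (hA : A ∈ maxAbelianSubgroups G) :
    ((centralizer (Q : Set G) ⊔ A : Subgroup G) : Set G) =
      (centralizer (Q : Set G) : Set G) * (A : Set G) :=
  Set.Subset.antisymm
    (fun _ hx => cl_mem_mul_of_centralizes hQ hA (cl_centralizer_sup_maxAb_le hQ hA hx))
    (mul_subset_sup _ _)

theorem cl_sup_inf_centralizer_maxAb {Q A : Subgroup G} (hQ : IsCentrallyLarge Q)
    (hA : A ∈ maxAbelianSubgroups G) :
    (Q ⊔ A) ⊓ centralizer ((Q ⊓ A : Subgroup G) : Set G) = centralizer (Q : Set G) ⊔ A :=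
  le_antisymm (fun _ hx => mul_subset_sup _ _ (cl_mem_mul_of_centralizes hQ hA hx))
    (cl_centralizer_sup_maxAb_le hQ hA)

theorem cl_sup_thompsonSubgroupA {Q : Subgroup G} (hQ : IsCentrallyLarge Q) :
    IsCentrallyLarge (Q ⊔ thompsonSubgroupA G) :=
  sup_sSup_induction IsCentrallyLarge _ Q hQ (fun _ hX _ hA => cl_sup_maxAb hX hA)

theorem cl_jtilde_le {Q : Subgroup G} (hQ : IsCentrallyLarge Q) :
    centralizer ((thompsonSubgroupA G ⊓ centralizer (thompsonSubgroupA G : Set G) : Subgroup G) :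
      Set G) ≤ Q ⊔ thompsonSubgroupA G := by
  have h := cl_sup_thompsonSubgroupA hQ
  rw [inf_eq_right.2 centralizer_thompsonSubgroupA_le, ← cd_centralizer_centralizer (cl_cd h)]
  exact centralizer_le (centralizer_le (show thompsonSubgroupA G ≤ Q ⊔ thompsonSubgroupA G
    from le_sup_right))

theorem thompsonSubgroupA_le_centrallyLargeJoin : thompsonSubgroupA G ≤ centrallyLargeJoin G :=
  le_sup_right.trans (le_sSup (cl_sup_thompsonSubgroupA (cl_centrallyLargeJoin (G := G))))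

/-! ### minimal centrally large subgroups -/

theorem mcl_inf_sup {Q R : Subgroup G} (hQ : IsMinimalCentrallyLarge Q) (hR : IsCentrallyLarge R) :
    (Q ⊓ R) ⊔ centralizer (Q : Set G) = Q ∧ centralizer (R : Set G) ⊓ Q ≤ centralizer (Q : Set G) := by
  have hQ1 := cl_cd hQ.1
  have hR1 := cl_cd hR
  have h1 := cd_sup (cd_inf hQ1 hR1) (cd_centralizer hQ1)
  have hC : centralizer (((Q ⊓ R) ⊔ centralizer (Q : Set G) : Subgroup G) : Set G) =
      centralizer (Q : Set G) ⊔ (centralizer (R : Set G) ⊓ Q) := by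
    rw [centralizer_sup', cd_centralizer_inf hQ1 hR1, cd_centralizer_centralizer hQ1,
      sup_inf_of_coe_eq_mul (cd_coe_sup (cd_centralizer hQ1) (cd_centralizer hR1))
        (cl_centralizer_le hQ.1)]
  have h2 : IsCentrallyLarge ((Q ⊓ R) ⊔ centralizer (Q : Set G)) := by
    rw [isCentrallyLarge_iff]
    refine ⟨h1, ?_⟩
    rw [hC]
    exact sup_le le_sup_right (le_sup_of_le_left (le_inf inf_le_right
      (inf_le_left.trans (cl_centralizer_le hR))))
  have h3 := hQ.2 _ (sup_le inf_le_left (cl_centralizer_le hQ.1)) h2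
  refine ⟨h3, ?_⟩
  rw [h3] at hC
  rw [hC]
  exact le_sup_right

omit [Finite G] in
theorem commutator_sup_centralizer_self {H Z : Subgroup G} (hZ : Z ≤ centralizer ((H ⊔ Z : Subgroup G) : Set G)) :
    ⁅H ⊔ Z, H ⊔ Z⁆ = ⁅H, H⁆ := by
  apply le_antisymm _ (commutator_mono le_sup_left le_sup_left)
  have hn : Z ≤ normalizer (H : Set G) :=
    (hZ.trans (centralizer_le (show H ≤ H ⊔ Z from le_sup_left))).trans (centralizer_le_normalizer _)
  have hm := Subgroup.coe_mul_of_right_le_normalizer_left _ _ hn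
  rw [commutator_le]
  intro x hx y hy
  obtain ⟨a, ha, z, hz, rfl⟩ := mem_sup_of_coe_eq_mul hm hx
  obtain ⟨b, hb, w, hw, rfl⟩ := mem_sup_of_coe_eq_mul hm hy
  have h1 : ∀ u ∈ H ⊔ Z, Commute u z := fun u hu => hZ hz u hu
  have h2 : ∀ u ∈ H ⊔ Z, Commute u w := fun u hu => hZ hw u hu
  have e : ⁅a * z, b * w⁆ = ⁅a, b⁆ := by
    have c1 := (h1 _ hy).eq
    have c2 := (h2 a (mem_sup_left ha)).inv_left.eq
    simp only [commutatorElement_def, mul_inv_rev]
    calc a * z * (b * w) * (z⁻¹ * a⁻¹) * (w⁻¹ * b⁻¹)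
        = a * (z * (b * w)) * z⁻¹ * a⁻¹ * (w⁻¹ * b⁻¹) := by group
      _ = a * (b * w * z) * z⁻¹ * a⁻¹ * (w⁻¹ * b⁻¹) := by rw [c1]
      _ = a * b * (w * a⁻¹) * (w⁻¹ * b⁻¹) := by group
      _ = a * b * (a⁻¹ * w) * (w⁻¹ * b⁻¹) := by rw [c2]
      _ = a * b * a⁻¹ * b⁻¹ := by group
  rw [e]
  exact commutator_mem_commutator ha hb

theorem mcl_commutator_eq {Q R : Subgroup G} (hQ : IsMinimalCentrallyLarge Q)
    (hR : IsCentrallyLarge R) : ⁅Q, Q⁆ = ⁅Q ⊓ R, Q ⊓ R⁆ := by
  have h := (mcl_inf_sup hQ hR).1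
  have := commutator_sup_centralizer_self (H := Q ⊓ R) (Z := centralizer (Q : Set G)) (by rw [h])
  rwa [h] at this

theorem mcl_commutator_eq_commutator {Q R : Subgroup G} (hQ : IsMinimalCentrallyLarge Q)
    (hR : IsMinimalCentrallyLarge R) : ⁅Q, Q⁆ = ⁅R, R⁆ := by
  rw [mcl_commutator_eq hQ hR.1, mcl_commutator_eq hR hQ.1, inf_comm]

theorem mcl_card_eq {Q R : Subgroup G} (hQ : IsMinimalCentrallyLarge Q)
    (hR : IsMinimalCentrallyLarge R) :
    Nat.card Q = Nat.card R ∧
      Nat.card (centralizer (Q : Set G)) = Nat.card (centralizer (R : Set G)) := by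
  obtain ⟨h1, h2⟩ := mcl_inf_sup hQ hR.1
  obtain ⟨h3, h4⟩ := mcl_inf_sup hR hQ.1
  have c1 := cd_card_sup (cd_inf (cl_cd hQ.1) (cl_cd hR.1)) (cd_centralizer (cl_cd hQ.1))
  have c2 := cd_card_sup (cd_inf (cl_cd hR.1) (cl_cd hQ.1)) (cd_centralizer (cl_cd hR.1))
  rw [h1] at c1
  rw [h3] at c2
  have e1 : Q ⊓ R ⊓ centralizer (Q : Set G) = centralizer (Q : Set G) ⊓ centralizer (R : Set G) :=
    le_antisymm (le_inf inf_le_right ((le_inf inf_le_right (inf_le_left.trans inf_le_right)).trans h4))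
      (le_inf (le_inf (inf_le_left.trans (cl_centralizer_le hQ.1))
        (inf_le_right.trans (cl_centralizer_le hR.1))) inf_le_left)
  have e2 : R ⊓ Q ⊓ centralizer (R : Set G) = centralizer (Q : Set G) ⊓ centralizer (R : Set G) :=
    le_antisymm (le_inf ((le_inf inf_le_right (inf_le_left.trans inf_le_right)).trans h2) inf_le_right)
      (le_inf (le_inf (inf_le_right.trans (cl_centralizer_le hR.1))
        (inf_le_left.trans (cl_centralizer_le hQ.1))) inf_le_right)
  rw [e1] at c1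
  rw [e2, inf_comm R Q] at c2
  have m1 := (isCentralizerLarge_iff Q).1 (cl_cd hQ.1)
  have m2 := (isCentralizerLarge_iff R).1 (cl_cd hR.1)
  unfold cdm at m1 m2
  have p1 : 0 < Nat.card Q := Nat.card_pos
  have p2 : 0 < Nat.card ↥(Q ⊓ R) := Nat.card_pos
  have p3 : 0 < Nat.card ↥(centralizer (Q : Set G) ⊓ centralizer (R : Set G)) := Nat.card_pos
  generalize maxCentralizerProduct G = m at *
  generalize Nat.card ↥(centralizer (Q : Set G) ⊓ centralizer (R : Set G)) = d at *
  generalize Nat.card ↥(Q ⊓ R) = i at *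
  generalize Nat.card Q = q at *
  generalize Nat.card R = r at *
  generalize Nat.card (centralizer (Q : Set G)) = q' at *
  generalize Nat.card (centralizer (R : Set G)) = r' at *
  have f1 : d * (q * q) = d * (r * r) := by
    calc d * (q * q) = (q * d) * q := by ring
      _ = i * (q * q') := by rw [c1]; ring
      _ = i * (r * r') := by rw [m1, m2]
      _ = (i * r') * r := by ring
      _ = d * (r * r) := by rw [← c2]; ring
  have f2 : q = r := Nat.mul_self_inj.1 (Nat.eq_of_mul_eq_mul_left p3 f1)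
  subst f2
  exact ⟨rfl, Nat.eq_of_mul_eq_mul_left p1 (m1.trans m2.symm)⟩

theorem cdm_of_cl_comm {Q : Subgroup G} (hQ : IsCentrallyLarge Q) (hc : IsMulCommutative Q) :
    Nat.card Q * Nat.card Q = maxCentralizerProduct G := by
  have h := (isCentralizerLarge_iff Q).1 (cl_cd hQ)
  unfold cdm at h
  rwa [le_antisymm (cl_centralizer_le hQ) ((isMulCommutative_iff_le_centralizer Q).1 hc)] at h

theorem mcl_of_maxAb {A : Subgroup G} (hA : A ∈ maxAbelianSubgroups G)
    (h : maxCentralizerProduct G ≤ Nat.card A * Nat.card A) : IsMinimalCentrallyLarge A := by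
  have h1 : IsCentrallyLarge A := by
    rw [isCentrallyLarge_iff, maxAb_centralizer_eq hA]
    refine ⟨isCentralizerLarge_of_ge ?_, le_rfl⟩
    unfold cdm
    rwa [maxAb_centralizer_eq hA]
  refine ⟨h1, fun R hRA hR => Subgroup.eq_of_le_of_card_ge hRA ?_⟩
  have h2 := cdm_of_cl_comm hR (isMulCommutative_of_le hA.1 hRA)
  have h3 := cdm_of_cl_comm h1 hA.1
  exact (Nat.mul_self_inj.1 (h3.trans h2.symm)).le

omit [Finite G] in
theorem isMulCommutative_iff_commutator_eq_bot (Q : Subgroup G) :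
    IsMulCommutative Q ↔ ⁅Q, Q⁆ = ⊥ := by
  rw [isMulCommutative_iff_le_centralizer, commutator_eq_bot_iff_le_centralizer]

theorem mcl_comm_of_comm {Q R : Subgroup G} (hQ : IsMinimalCentrallyLarge Q)
    (hc : IsMulCommutative Q) (hR : IsMinimalCentrallyLarge R) : IsMulCommutative R := by
  rw [isMulCommutative_iff_commutator_eq_bot] at *
  rw [← mcl_commutator_eq_commutator hQ hR, hc]

theorem maxAb_of_cl_comm {Q : Subgroup G} (hQ : IsCentrallyLarge Q) (hc : IsMulCommutative Q) :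
    Q ∈ maxAbelianSubgroups G := by
  refine ⟨hc, fun B hB => ?_⟩
  have h1 := cdm_of_cl_comm hQ hc
  have h2 := cdm_le B
  have h3 : Nat.card B * Nat.card B ≤ cdm B := Nat.mul_le_mul_left _
    (Subgroup.card_le_of_le ((isMulCommutative_iff_le_centralizer B).1 hB))
  exact Nat.mul_self_le_mul_self_iff.1 (h3.trans (h2.trans h1.ge))

theorem mcl_iff_maxAb {Q : Subgroup G} (hQ : IsMinimalCentrallyLarge Q) (hc : IsMulCommutative Q)
    (X : Subgroup G) : IsMinimalCentrallyLarge X ↔ X ∈ maxAbelianSubgroups G := by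
  constructor
  · intro hX
    exact maxAb_of_cl_comm hX.1 (mcl_comm_of_comm hQ hc hX)
  · intro hX
    apply mcl_of_maxAb hX
    rw [← cdm_of_cl_comm hQ.1 hc, maxAb_card_eq hX (maxAb_of_cl_comm hQ.1 hc)]

end H99
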