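import Cfsg.Agent.H85.P6.H67_SPSpec
import Cfsg.Agent.H59.SOBasic

/-! `Sp₆(2)`, slot FB: the automorphisms of `P / Q` are inner (a port of `H95.SPFB`). -/

set_option autoImplicit false
set_option linter.unusedSectionVars false

namespace H99.P6.SPB

open H64.SG (Cz Cs Ns IsO2 mem_Cz)
open Matrix Subgroup H85.P6.H67.UA H85.P6.H67.SP
open H67.SA (la cm)
open H59.SO (AutOn eq_zero_or_one)

/-- An automorphism of `P` permutes `O₂(P)`. -/
theorem autO2 {G : Type*} [Group G] [Finite G] {Q P : Subgroup G} (o : IsO2 Q P) {θ : G → G}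
    (h : AutOn P θ) : (∀ u ∈ Q, θ u ∈ Q) ∧ ∀ v ∈ Q, ∃ u ∈ Q, θ u = v := by
  let N := Q.subgroupOf P
  have : N.Normal := ⟨fun n hn g =>
    mem_subgroupOf.2 (H98.conj_mem_of_mem_normalizer (H := Q) (o.2.1 g.2) hn)⟩
  have he : N.map h.equiv.toMonoidHom = N := by
    have : (N.map h.equiv.toMonoidHom).Normal := Normal.map this _ h.equiv.surjective
    refine eq_of_le_of_card_ge (fun y hy => o.2.2.2 ((N.map h.equiv.toMonoidHom).map P.subtype)
      (map_subtype_le _) (fun g hg => ?_) (((o.2.2.1.comap_subtype).map _).map _) ⟨y, hy, rfl⟩)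
      (card_map_of_injective h.equiv.injective).ge
    refine mem_normalizer_fintype ?_
    rintro _ ⟨n, hn, rfl⟩
    exact ⟨_, this.conj_mem n hn ⟨g, hg⟩, rfl⟩
  refine ⟨fun u hu => ?_, fun v hv => ?_⟩
  · exact mem_subgroupOf.1 (he.le (mem_map_of_mem _ (show (⟨u, o.1 hu⟩ : P) ∈ N from hu)))
  · obtain ⟨u, hu, e⟩ := he.ge (show (⟨v, o.1 hv⟩ : P) ∈ N from hv)
    exact ⟨u, hu, congrArg Subtype.val e⟩

theorem autZ {G : Type*} [Group G] {P : Subgroup G} {θ : G → G} (h : AutOn P θ) {z : G}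
    (hz : z ∈ P) (hc : z ∈ Cs P) : θ z ∈ Cs P := fun p hp => by
  obtain ⟨a, ha, rfl⟩ := h.bij.surjOn hp
  rw [← h.mul _ ha _ hz, ← h.mul _ hz _ ha, hc a ha]

variable {n : ℕ} {F : Type} [Field F] [StarRing F] [TrivialStar F] [CharP F 2] [Finite F]

theorem hsy (x y : Vn n F) : hf x y = hf y x := by rw [← star_hf, star_trivial]

theorem h0n : hf (ev 0 : Vn n F) (ev (la n)) = 1 := by rw [hf_ev, if_pos (by simp)]

theorem hev {i j : Fin (n + 1)} (h : i.val + j.val ≠ n) : hf (ev i : Vn n F) (ev j) = 0 := by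
  rw [hf_ev, if_neg]
  rintro rfl
  exact h (by rw [Fin.val_rev]; omega)

variable [Base n F]

theorem uq {x y : Vn n F} {c d : F} (hx : Hy x) (hy : Hy y)
    (e : EE (ev 0) x c = EE (ev 0) y d) : x = y := by
  obtain ⟨a, h1, -⟩ := EE_inj (ev_ne 0) (FV.ok _ x c hx.1) (FV.ok _ y d hy.1) e
  have := hy.2
  rw [h1, hf_add_left, hf_smul_left, hx.2, h0n, zero_add, mul_one] at this
  rw [h1, this, zero_smul, add_zero]

theorem memQ {x : Vn n F} (hx : hf x (ev 0) = 0) (c : F) : EE (ev 0) x c ∈ QQ n F :=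
  (FV.mem_Qv _ _).2 ⟨x, c, hx, rfl⟩

theorem EE_Tc {x : Vn n F} (hx : hf x (ev 0) = 0) (c d : F) :
    EE (ev 0) x c * Tc d (ev 0) = EE (ev 0) x (c + d) := by
  rw [EE_mul (FV.ok _ x c hx) (FV.ok _ 0 d (by simp))]; simp

/-- The map induced on `Q / Z`. -/
structure Mp (θ : XU n F → XU n F) (A : Vn n F → Vn n F) : Prop where
  hy : ∀ x, hf x (ev 0) = 0 → Hy (A x)
  th : ∀ x c, hf x (ev 0) = 0 → ∃ d, θ (EE (ev 0) x c) = EE (ev 0) (A x) d

theorem exists_mp {θ : XU n F → XU n F} (h : AutOn (PP n F) θ) : ∃ A, Mp θ A := by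
  have o := FR.o2 (n := n) (F := F) _ (ev_ne 0)
  have k : ∀ x : Vn n F, hf x (ev 0) = 0 → ∃ y, Hy y ∧ ∃ d, θ (EE (ev 0) x 0) = EE (ev 0) y d :=
    fun x hx => by
      obtain ⟨y, d, h1, h2⟩ := (FV.mem_QQ _).1 ((autO2 o h).1 _ (memQ hx 0))
      exact ⟨y, h1, d, h2⟩
  choose! A h1 h2 using k
  refine ⟨A, h1, fun x c hx => ?_⟩
  obtain ⟨d, hd⟩ := h2 x hx
  have hz : Tc c (ev 0) ∈ QQ n F := memQ (by simp) c
  have := autZ h (o.1 hz) ((FR.zP _ (ev_ne 0)).ge ((FV.mem_Zl _ _).2 ⟨c, rfl⟩))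
  obtain ⟨c', hc⟩ := (FV.mem_Zl _ _).1 ((FR.zP _ (ev_ne 0)).le this)
  refine ⟨d + c', ?_⟩
  rw [← zero_add c, ← EE_Tc hx, h.mul _ (o.1 (memQ hx 0)) _ (o.1 hz), hd, hc, EE_Tc (h1 x hx).1]

section Form

variable {θ : XU n F → XU n F} {A : Vn n F → Vn n F}

theorem Mp.add (h : AutOn (PP n F) θ) (m : Mp θ A) {x y : Vn n F} (hx : hf x (ev 0) = 0)
    (hy : hf y (ev 0) = 0) : A (x + y) = A x + A y := by
  have o := FR.o2 (n := n) (F := F) _ (ev_ne 0)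
  have hs : hf (x + y) (ev 0) = 0 := by rw [hf_add_left, hx, hy, add_zero]
  obtain ⟨a, ha⟩ := m.th x 0 hx
  obtain ⟨b, hb⟩ := m.th y 0 hy
  obtain ⟨c, hc⟩ := m.th (x + y) (0 + 0 + hf y x) hs
  rw [← EE_mul (FV.ok _ x 0 hx) (FV.ok _ y 0 hy), h.mul _ (o.1 (memQ hx 0)) _ (o.1 (memQ hy 0)),
    ha, hb, EE_mul (FV.ok _ _ a (m.hy x hx).1) (FV.ok _ _ b (m.hy y hy).1)] at hc
  refine (uq ⟨?_, ?_⟩ (m.hy _ hs) hc).symm
  · rw [hf_add_left, (m.hy x hx).1, (m.hy y hy).1, add_zero]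
  · rw [hf_add_left, (m.hy x hx).2, (m.hy y hy).2, add_zero]

theorem Mp.zero (h : AutOn (PP n F) θ) (m : Mp θ A) : A 0 = 0 := by
  have := m.add h (hf_zero_left (ev 0)) (hf_zero_left (ev 0))
  rwa [add_zero, v_add_self] at this

theorem Mp.e0 (h : AutOn (PP n F) θ) (m : Mp θ A) : A (ev 0) = 0 := by
  have h0 : hf (ev 0 : Vn n F) (ev 0) = 0 := FV.iso _
  obtain ⟨d, hd⟩ := m.th (ev 0) 0 h0
  have h1 : EE (ev 0 : Vn n F) (ev 0) 0 = 1 := by
    have := qq_self (1 : F) (ev 0 : Vn n F)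
    rw [one_smul, tr_eq_zero.2 (star_one F)] at this
    exact this.trans (EE_zero _)
  rw [h1, h.one, ← EE_zero (ev 0)] at hd
  exact (uq ⟨by simp, by simp⟩ (m.hy _ h0) hd).symm

theorem Mp.inv (h : AutOn (PP n F) θ) (m : Mp θ A) {p : XU n F} (hp : ac p (ev 0) = ev 0)
    {x y : Vn n F} (hx : hf x (ev 0) = 0) (hy : hf y (ev 0) = 0) :
    hf (A (ac p x)) (A (ac p y)) = hf (A x) (A y) := by
  have o := FR.o2 (n := n) (F := F) _ (ev_ne 0)
  have hP : p ∈ PP n F := hp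
  have ht : ac (θ p) (ev 0) = ev 0 := h.bij.mapsTo hP
  have k : ∀ x : Vn n F, hf x (ev 0) = 0 → ∃ a : F, A (ac p x) = ac (θ p) (A x) + a • ev 0 :=
    fun x hx => by
      have h1 : hf (ac p x) (ev 0) = 0 := by rw [← hp, hf_ac, hx]
      obtain ⟨d, hd⟩ := m.th x 0 hx
      obtain ⟨c, hc⟩ := m.th (ac p x) 0 h1
      have h2 := EE_conj (FV.ok _ x 0 hx) p
      rw [hp] at h2
      rw [← h2, h.mul _ (mul_mem hP (o.1 (memQ hx 0))) _ (inv_mem hP),
        h.mul _ hP _ (o.1 (memQ hx 0)), h.inv hP, hd, EE_conj (FV.ok _ _ d (m.hy x hx).1), ht] at hc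
      obtain ⟨a, ha, -⟩ := EE_inj (ev_ne 0) (FV.ok _ _ _ (by rw [← ht, hf_ac, (m.hy x hx).1]))
        (FV.ok _ _ _ (m.hy _ h1).1) hc
      exact ⟨a, ha⟩
  obtain ⟨a, ha⟩ := k x hx
  obtain ⟨b, hb⟩ := k y hy
  have h1 : hf (ac (θ p) (A x)) (ev 0) = 0 := by rw [← ht, hf_ac, (m.hy x hx).1]
  have h2 : hf (ev 0) (ac (θ p) (A y)) = 0 := by rw [hsy, ← ht, hf_ac, (m.hy y hy).1]
  have h0 : hf (ev 0 : Vn n F) (ev 0) = 0 := FV.iso _
  rw [ha, hb]
  simp only [hf_add_left, hf_add_right, hf_smul_left, hf_smul_right, h1, h2, h0, hf_ac]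
  simp

theorem Mp.form (hF : Nat.card F = 2) (hn : 5 ≤ n) (h : AutOn (PP n F) θ) (m : Mp θ A)
    {x y : Vn n F} (hx : hf x (ev 0) = 0) (hy : hf y (ev 0) = 0) : hf (A x) (A y) = hf x y := by
  have o := FR.o2 (n := n) (F := F) _ (ev_ne 0)
  have v1 : (1 : Fin (n + 1)).val = 1 := Nat.mod_eq_of_lt (show 1 < n + 1 by omega)
  have v2 : (2 : Fin (n + 1)).val = 2 := Nat.mod_eq_of_lt (show 2 < n + 1 by omega)
  have v0 : (0 : Fin (n + 1)).val = 0 := rfl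
  have p1 : hf (ev 1 : Vn n F) (ev 0) = 0 := hev (by simp only [v1, Fin.val_zero]; omega)
  have p2 : hf (ev 2 : Vn n F) (ev 0) = 0 := hev (by simp only [v2, Fin.val_zero]; omega)
  have p3 : hf (ev (2 : Fin (n + 1)).rev : Vn n F) (ev 0) = 0 :=
    hev (by simp only [Fin.val_rev, v2, Fin.val_zero]; omega)
  have p4 : hf (ev (1 : Fin (n + 1)).rev : Vn n F) (ev 0) = 0 :=
    hev (by simp only [Fin.val_rev, v1, Fin.val_zero]; omega)
  have a1 : ∀ x y : Vn n F, hf x (ev 0) = 0 → hf y (ev 0) = 0 → hf x y = 0 → Li3 (ev 0) x y →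
      hf (A x) (A y) = hf (A (ev 1)) (A (ev 2)) := fun x y hx hy h0 hl => by
    obtain ⟨g, g0, rfl, rfl⟩ := FW.w3 (ev 0) x y (hf_symm hx) (hf_symm hy) h0 hl
    exact m.inv h g0 p1 p2
  have q2 : hf (ev 1 : Vn n F) (ev 2) = 0 := hev (by omega)
  have q3 : hf (ev (2 : Fin (n + 1)).rev : Vn n F) (ev 2) = 1 := by rw [hf_ev, Fin.rev_rev, if_pos rfl]
  have b0 : hf (A (ev 1)) (A (ev 2)) = 0 := by
    have t := ac_Tc (FV.iso (ev 2 : Vn n F)) (star_one F)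
    have c := m.inv h (p := TT (ev 2)) (by rw [t, hf_symm p2]; simp) p1 p3
    rw [t, t, q2, q3, mul_zero, zero_smul, add_zero, mul_one, one_smul, m.add h p3 p2,
      hf_add_right] at c
    linear_combination c
  have a0 : ∀ x y : Vn n F, hf x (ev 0) = 0 → hf y (ev 0) = 0 → hf x y = 0 →
      hf (A x) (A y) = 0 := fun x y hx hy h0 => by
    by_cases hl : Li3 (ev 0) x y
    · rw [a1 x y hx hy h0 hl, b0]
    obtain ⟨a, b, c, e, k⟩ : ∃ a b c : F, a • ev 0 + b • x + c • y = 0 ∧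
        ¬ (a = 0 ∧ b = 0 ∧ c = 0) := by
      by_contra k
      exact hl fun a b c e => by_contra fun k' => k ⟨a, b, c, e, k'⟩
    have h0 : hf (ev 0 : Vn n F) (ev 0) = 0 := FV.iso _
    have sm : ∀ (a : F) (x : Vn n F), A (a • x) = a • A x := fun a x => by
      rcases eq_zero_or_one hF a with rfl | rfl
      · rw [zero_smul, zero_smul, m.zero h]
      · rw [one_smul, one_smul]
    have e' := congrArg A e
    rw [m.add h (by simp [hf_add_left, hf_smul_left, h0, hx]) (by simp [hf_smul_left, hy]),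
      m.add h (by simp [hf_smul_left, h0]) (by simp [hf_smul_left, hx]), sm, sm, sm, m.e0 h,
      m.zero h, smul_zero, zero_add] at e'
    rcases eq_zero_or_one hF b with rfl | rfl <;> rcases eq_zero_or_one hF c with rfl | rfl
    · refine absurd ⟨?_, rfl, rfl⟩ k
      simpa [ev_ne] using e
    · rw [show A y = 0 by simpa using e', hf_zero_right]
    · rw [show A x = 0 by simpa using e', hf_zero_left]
    · have : A y = A x := by
        rw [one_smul, one_smul] at e'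
        rw [← zero_add (A y), ← e', add_assoc, v_add_self, add_zero]
      rw [this]; exact FV.iso _
  have a2 : ∀ x y : Vn n F, hf x (ev 0) = 0 → hf y (ev 0) = 0 → hf x y = 1 →
      hf (A x) (A y) = hf (A (ev 1)) (A (ev (1 : Fin (n + 1)).rev)) := fun x y hx hy h1 => by
    obtain ⟨g, g0, rfl, rfl⟩ := FW.wh1 (ev 0) x y (hf_symm hx) (hf_symm hy) (ev_ne 0) h1
    exact m.inv h g0 p1 p4
  have on : ∀ z : Vn n F, Hy z → ∃ x, hf x (ev 0) = 0 ∧ A x = z := fun z hz => by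
    obtain ⟨u, hu, e⟩ := (autO2 o h).2 _ (memQ hz.1 0)
    obtain ⟨x, c, hx, rfl⟩ := (FV.mem_Qv _ _).1 hu
    obtain ⟨d, hd⟩ := m.th x c hx
    exact ⟨x, hx, uq (m.hy x hx) hz (hd.symm.trans e)⟩
  rcases eq_zero_or_one hF (hf x y) with h0 | h1
  · rw [h0, a0 x y hx hy h0]
  obtain ⟨x', hx', e1⟩ := on (ev 1) ⟨p1, hev (by simp only [v1, Fin.val_last]; omega)⟩
  obtain ⟨y', hy', e2⟩ := on (ev (1 : Fin (n + 1)).rev)
    ⟨p4, hev (by simp only [Fin.val_rev, v1, Fin.val_last]; omega)⟩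
  have e3 : hf (A x') (A y') = 1 := by rw [e1, e2, hf_ev, if_pos rfl]
  rcases eq_zero_or_one hF (hf x' y') with h2 | h2
  · exact absurd (e3.symm.trans (a0 _ _ hx' hy' h2)) one_ne_zero
  · rw [h1, a2 x y hx hy h1, ← a2 _ _ hx' hy' h2, e3]

theorem Mp.ext (hF : Nat.card F = 2) (hn : 5 ≤ n) (h : AutOn (PP n F) θ) (m : Mp θ A) :
    ∃ p ∈ PP n F, ∀ x, Hy x → ac p x = A x := by
  have h0 : hf (ev 0 : Vn n F) (ev 0) = 0 := FV.iso _
  have h1 : hf (ev (la n) : Vn n F) (ev (la n)) = 0 := FV.iso _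
  have h2 : hf (ev (la n) : Vn n F) (ev 0) = 1 := (hsy _ _).trans h0n
  have pr : ∀ v : Vn n F, hf (v + hf v (ev 0) • ev (la n)) (ev 0) = 0 := fun v => by
    rw [hf_add_left, hf_smul_left, h2, mul_one, CharTwo.add_self_eq_zero]
  let L : Vn n F →ₗ[F] Vn n F :=
    { toFun := fun v => A (v + hf v (ev 0) • ev (la n)) + hf v (ev (la n)) • ev 0 +
        hf v (ev 0) • ev (la n)
      map_add' := fun v w => by
        rw [show v + w + hf (v + w) (ev 0) • ev (la n) = (v + hf v (ev 0) • ev (la n)) +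
          (w + hf w (ev 0) • ev (la n)) by rw [hf_add_left, add_smul]; abel, m.add h (pr v) (pr w),
          hf_add_left, hf_add_left, add_smul, add_smul]
        abel
      map_smul' := fun a v => by
        rcases eq_zero_or_one hF a with rfl | rfl
        · simp [m.zero h]
        · simp }
  have hL : ∀ v, LinearMap.toMatrix' L *ᵥ v = A (v + hf v (ev 0) • ev (la n)) +
      hf v (ev (la n)) • ev 0 + hf v (ev 0) • ev (la n) := fun v => LinearMap.toMatrix'_mulVec L v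
  obtain ⟨p, hp⟩ := FV.isom (LinearMap.toMatrix' L) fun v w => by
    have k := m.form hF hn h (pr v) (pr w)
    have k1 := m.hy _ (pr v)
    have k2 := m.hy _ (pr w)
    rw [hL, hL]
    simp only [hf_add_left, hf_add_right, hf_smul_left, hf_smul_right, star_trivial, h0, h1, h2,
      h0n, k1.1, k1.2, hf_symm k2.1, hf_symm k2.2, hsy (ev (la n)) w] at k ⊢
    rw [k]
    linear_combination (hf v (ev 0) * hf w (ev (la n)) + hf w (ev 0) * hf v (ev (la n))) * two0 F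
  refine ⟨p, ?_, fun x hx => ?_⟩
  · change mt p *ᵥ _ = _
    rw [hp, hL, h0, h0n]
    simp [m.e0 h]
  · change mt p *ᵥ _ = _
    rw [hp, hL, hx.1, hx.2]
    simp

end Form

omit [Base n F] in
theorem jobFB : H85.P6.H67.SP.JobFB := by
  intro n F _ _ _ _ _ par b hF θ h
  have hn : 5 ≤ n := par.five
  have o := FR.o2 (n := n) (F := F) _ (ev_ne 0)
  have zP := FR.zP (n := n) (F := F) _ (ev_ne 0)
  obtain ⟨A, m⟩ := exists_mp h
  obtain ⟨p, hp, hA⟩ := m.ext hF hn h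
  have k : ∀ u ∈ QQ n F, ∃ z ∈ ZL n F, θ u = z * (p * u * p⁻¹) := fun u hu => by
    obtain ⟨x, c, hx, rfl⟩ := (FV.mem_QQ _).1 hu
    obtain ⟨d, hd⟩ := m.th x c hx.1
    refine ⟨Tc (d + c) (ev 0), (FV.mem_Zl _ _).2 ⟨_, rfl⟩, ?_⟩
    rw [hd, EE_conj (FV.ok _ x c hx.1), hA x hx, show ac p (ev 0) = ev 0 from hp,
      EE_mul (FV.ok _ 0 _ (by simp)) (FV.ok _ _ c (m.hy x hx.1).1)]
    simp [add_assoc, CharTwo.add_self_eq_zero]
  refine ⟨p, hp, fun y hy => FR.cE _ (mul_mem (h.bij.mapsTo hy)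
    (inv_mem (mul_mem (mul_mem hp hy) (inv_mem hp)))) fun u hu => ?_⟩
  have nQ : ∀ g ∈ PP n F, ∀ u ∈ QQ n F, g * u * g⁻¹ ∈ QQ n F := fun g hg u hu =>
    H98.conj_mem_of_mem_normalizer (o.2.1 hg) hu
  have h1 := nQ _ (inv_mem hp) u hu
  have h2 := nQ _ (inv_mem hy) _ h1
  obtain ⟨z, hz, e⟩ := k _ h1
  obtain ⟨z', hz', e'⟩ := k _ h2
  rw [h.mul _ (mul_mem (inv_mem hy) (o.1 h1)) _ (inv_mem (inv_mem hy)),
    h.mul _ (inv_mem hy) _ (o.1 h1), inv_inv y, h.inv hy, e] at e'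
  have c : θ y * z'⁻¹ = z'⁻¹ * θ y := zP.ge (inv_mem hz') _ (h.bij.mapsTo hy)
  have e2 : p * (y⁻¹ * (p⁻¹ * u * p⁻¹⁻¹) * y) * p⁻¹ =
      z'⁻¹ * ((θ y)⁻¹ * (z * (p * (p⁻¹ * u * p⁻¹⁻¹) * p⁻¹)) * θ y) := by
    rw [e', inv_mul_cancel_left]
  have : cm (θ y * (p * y * p⁻¹)⁻¹) u = z'⁻¹ * z := by
    calc _ = θ y * (p * (y⁻¹ * (p⁻¹ * u * p⁻¹⁻¹) * y) * p⁻¹) * (θ y)⁻¹ * u⁻¹ := by
          simp only [cm]; group
      _ = (θ y * z'⁻¹) * (θ y)⁻¹ * z := by rw [e2]; group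
      _ = _ := by rw [c]; group
  rw [this]
  exact mul_mem (inv_mem hz') hz

end H99.P6.SPB
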