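import Cfsg.Agent.H99.CL
import Cfsg.Agent.H13.ZJ
import Cfsg.Agent.H2.MinNormal

/-! The subgroup `D*(S)`, ambient version. -/

open scoped Pointwise commutatorElement
open Cfsg Subgroup

namespace H99

variable {G : Type*} [Group G]

theorem class_two_sup_zpowers_iff {A : Subgroup G} (hA : IsMulCommutative A) (x : G) :
    ⁅⁅A ⊔ zpowers x, A ⊔ zpowers x⁆, A ⊔ zpowers x⁆ = ⊥ ↔
      ∀ a ∈ A, ⁅a, x⁆ ∈ centralizer (A : Set G) ∧ ⁅a, x⁆ * x = x * ⁅a, x⁆ := by
  rw [commutator_eq_bot_iff_le_centralizer]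
  constructor
  · intro h a ha
    have := h (commutator_mem_commutator (mem_sup_left ha) (mem_sup_right (mem_zpowers x)))
    exact ⟨centralizer_le (show A ≤ A ⊔ zpowers x from le_sup_left) this,
      (this x (mem_sup_right (mem_zpowers x))).symm⟩
  · intro h
    set H := A ⊔ zpowers x with hH
    have hn : H ≤ normalizer ((centralizer (H : Set G) : Subgroup G) : Set G) :=
      le_normalizer.trans (H13.normalizer_le_normalizer_centralizer H)
    have hA' : A ≤ normalizer ((centralizer (H : Set G) : Subgroup G) : Set G) :=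
      le_sup_left.trans hn
    have hX' : zpowers x ≤ normalizer ((centralizer (H : Set G) : Subgroup G) : Set G) :=
      le_sup_right.trans hn
    have hXA : ⁅zpowers x, A⁆ ≤ centralizer (H : Set G) := by
      rw [zpowers_eq_closure] at hX' ⊢
      refine H13.commutator_closure_left_le hX' ?_
      rintro y rfl a ha
      rw [← commutatorElement_inv, hH, centralizer_sup']
      refine inv_mem ⟨(h a ha).1, ?_⟩
      rw [zpowers_eq_closure, centralizer_closure]
      exact mem_centralizer_singleton_iff.2 (h a ha).2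
    refine H13.commutator_sup_left_le hA' hX' ?_ ?_
    · rw [Subgroup.commutator_comm]
      refine H13.commutator_sup_left_le hA' hX' ?_ hXA
      rw [(isMulCommutative_iff_commutator_eq_bot A).1 hA]; exact bot_le
    · rw [Subgroup.commutator_comm]
      refine H13.commutator_sup_left_le hA' hX' (by rw [Subgroup.commutator_comm]; exact hXA) ?_
      rw [(isMulCommutative_iff_commutator_eq_bot _).1 inferInstance]; exact bot_le

/-- The family defining `D*(P)`, inside the ambient group. -/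
def dsFam (P : Subgroup G) : Set (Subgroup G) :=
  {A | A ≤ P ∧ IsMulCommutative A ∧ ∀ x ∈ P,
    (∀ a ∈ A, ⁅a, x⁆ ∈ centralizer (A : Set G) ∧ ⁅a, x⁆ * x = x * ⁅a, x⁆) →
      x ∈ centralizer (A : Set G)}

theorem dsFam_top : dsFam (⊤ : Subgroup G) = dStarFamily G := by
  ext A
  constructor
  · rintro ⟨-, h1, h2⟩
    exact ⟨h1, fun x hx => h2 x trivial ((class_two_sup_zpowers_iff h1 x).1 hx)⟩
  · rintro ⟨h1, h2⟩
    exact ⟨le_top, h1, fun x _ hx => h2 x ((class_two_sup_zpowers_iff h1 x).2 hx)⟩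

theorem map_mem_dsFam {G' : Type*} [Group G'] {f : G →* G'} (hf : Function.Injective f)
    {P A : Subgroup G} : A.map f ∈ dsFam (P.map f) ↔ A ∈ dsFam P := by
  have hc : ∀ y, f y ∈ centralizer ((A.map f : Subgroup G') : Set G') ↔
      y ∈ centralizer (A : Set G) := by
    intro y
    constructor
    · intro h a ha
      apply hf
      simpa using h (f a) ⟨a, ha, rfl⟩
    · rintro h _ ⟨a, ha, rfl⟩
      simpa using congrArg f (h a ha)
  constructor
  · rintro ⟨h1, h2, h3⟩
    refine ⟨(map_le_map_iff_of_injective hf).1 h1, ?_, fun x hx h => ?_⟩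
    · rw [isMulCommutative_iff_le_centralizer] at h2 ⊢
      intro a ha
      exact (hc a).1 (h2 ⟨a, ha, rfl⟩)
    · rw [← hc]
      refine h3 _ ⟨x, hx, rfl⟩ ?_
      rintro _ ⟨a, ha, rfl⟩
      rw [← map_commutatorElement, hc, ← map_mul, ← map_mul, (h a ha).2]
      exact ⟨(h a ha).1, rfl⟩
  · rintro ⟨h1, h2, h3⟩
    refine ⟨map_mono h1, inferInstance, ?_⟩
    rintro _ ⟨x, hx, rfl⟩ h
    rw [hc]
    refine h3 x hx (fun a ha => ?_)
    have := h _ ⟨a, ha, rfl⟩
    rw [← map_commutatorElement, hc, ← map_mul, ← map_mul] at this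
    exact ⟨this.1, hf this.2⟩

theorem dsFam_map {G' : Type*} [Group G'] {f : G →* G'} (hf : Function.Injective f)
    (P : Subgroup G) : dsFam (P.map f) = (fun A : Subgroup G => A.map f) '' dsFam P := by
  ext B
  constructor
  · intro hB
    have h1 : (B.comap f).map f = B := map_comap_eq_self (hB.1.trans (map_le_range f P))
    exact ⟨B.comap f, (map_mem_dsFam hf).1 (h1.symm ▸ hB), h1⟩
  · rintro ⟨A, hA, rfl⟩
    exact (map_mem_dsFam hf).2 hA

theorem sSup_dsFam_map {G' : Type*} [Group G'] {f : G →* G'} (hf : Function.Injective f)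
    (P : Subgroup G) : sSup (dsFam (P.map f)) = (sSup (dsFam P)).map f := by
  rw [dsFam_map hf, (gc_map_comap f).l_sSup, sSup_image]

theorem dStarOf_eq (P : Subgroup G) : dStarOf P = sSup (dsFam P) := by
  rw [dStarOf, dStar, ← dsFam_top, ← sSup_dsFam_map P.subtype_injective, ← MonoidHom.range_eq_map,
    range_subtype]

theorem dStar_eq : dStar G = sSup (dsFam (⊤ : Subgroup G)) := by rw [dsFam_top]; rfl

theorem sSup_dsFam_le (P : Subgroup G) : sSup (dsFam P) ≤ P := sSup_le fun _ h => h.1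

theorem normalizer_le_normalizer_sSup_dsFam (P : Subgroup G) :
    normalizer (P : Set G) ≤ normalizer ((sSup (dsFam P) : Subgroup G) : Set G) := by
  intro g hg
  rw [mem_normalizer_iff_map_conj_eq] at hg ⊢
  rw [← sSup_dsFam_map (MulAut.conj g).injective, hg]

theorem mem_dsFam_of_le {P Q A : Subgroup G} (hA : A ∈ dsFam P) (hQP : Q ≤ P) (hAQ : A ≤ Q) :
    A ∈ dsFam Q := ⟨hAQ, hA.2.1, fun x hx => hA.2.2 x (hQP hx)⟩

/-- If a `p`-group `A` normalizes `B` and `C < B`, some `x ∈ B \ C` is centralized by `A`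
modulo `C` (all inside a `p`-group, with `C` normal in `B`). -/
theorem exists_commutator_mem_of_lt [Finite G] {p : ℕ} [Fact p.Prime] {P A B C : Subgroup G}
    (hP : IsPGroup p P) (hA : A ≤ P) (hB : B ≤ P) (hAB : A ≤ normalizer (B : Set G))
    (hAC : A ≤ normalizer (C : Set G)) (hCB : C < B) :
    ∃ x ∈ B, x ∉ C ∧ x ∈ normalizer ((C ⊔ A : Subgroup G) : Set G) ∧
      ∀ a ∈ A, ⁅a, x⁆ ∈ (C ⊔ A) ⊓ B := by
  by_cases hlt : B ≤ C ⊔ A
  · obtain ⟨x, hx, hxC⟩ := SetLike.exists_of_lt hCB
    refine ⟨x, hx, hxC, le_normalizer (hlt hx), fun a ha => ⟨?_, ?_⟩⟩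
    · exact commutator_le_self _ (commutator_mem_commutator (mem_sup_right ha) (hlt hx))
    · exact le_normalizer_iff_commutator_le_right.1 hAB (commutator_mem_commutator ha hx)
  · have h1 : C ⊔ A < B ⊔ A := lt_of_le_of_ne (sup_le_sup_right hCB.le A)
      (fun h => hlt (h ▸ le_sup_left))
    obtain ⟨y, hy, hy'⟩ := SetLike.exists_of_lt
      (H13.lt_inf_normalizer_of_isPGroup (hP.to_le (sup_le hB hA)) h1)
    obtain ⟨x, hx, a₀, ha₀, rfl⟩ := mem_sup_of_coe_eq_mul
      (coe_mul_of_right_le_normalizer_left B A hAB) hy.1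
    have hxN : x ∈ normalizer ((C ⊔ A : Subgroup G) : Set G) :=
      (Subgroup.mul_mem_cancel_right _ (le_normalizer (mem_sup_right ha₀))).1 hy.2
    refine ⟨x, hx, fun h => hy' (mul_mem_sup h ha₀), hxN, fun a ha => ⟨?_, ?_⟩⟩
    · exact le_normalizer_iff_commutator_le_left.1 ((zpowers_le).2 hxN)
        (commutator_mem_commutator (mem_sup_right ha) (mem_zpowers x))
    · exact le_normalizer_iff_commutator_le_right.1 hAB (commutator_mem_commutator ha hx)

theorem dsFam_le_centralizer [Finite G] {p : ℕ} [Fact p.Prime] {P A B : Subgroup G}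
    (hP : IsPGroup p P) (hA : A ∈ dsFam P) (hB : B ≤ P) (hAB : A ≤ normalizer (B : Set G))
    (hBc : IsMulCommutative B) : B ≤ centralizer (A : Set G) := by
  by_contra hnot
  have hlt : B ⊓ centralizer (A : Set G) < B := lt_of_le_of_ne inf_le_left
    (fun h => hnot (h ▸ inf_le_right))
  have hAC : A ≤ normalizer ((B ⊓ centralizer (A : Set G) : Subgroup G) : Set G) :=
    (le_centralizer_iff.1 inf_le_right).trans (centralizer_le_normalizer _)
  obtain ⟨x, hx, hxC, -, h⟩ := exists_commutator_mem_of_lt hP hA.1 hB hAB hAC hlt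
  apply hxC
  refine ⟨hx, hA.2.2 x (hB hx) (fun a ha => ⟨?_, ?_⟩)⟩
  · exact (sup_le inf_le_right ((isMulCommutative_iff_le_centralizer A).1 hA.2.1)) (h a ha).1
  · exact (isMulCommutative_iff_le_centralizer B).1 hBc hx _ (h a ha).2

/-- A maximal `P`-invariant abelian subgroup of the `p`-group `P` is self-centralizing in `P`. -/
theorem inf_centralizer_le_of_maximal_normal_comm [Finite G] {p : ℕ} [Fact p.Prime]
    {P B : Subgroup G} (hP : IsPGroup p P) (hB : B ≤ P) (hPB : P ≤ normalizer (B : Set G))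
    (hBc : IsMulCommutative B)
    (hmax : ∀ B' : Subgroup G, B' ≤ P → P ≤ normalizer (B' : Set G) → IsMulCommutative B' →
      B ≤ B' → B' = B) : P ⊓ centralizer (B : Set G) ≤ B := by
  by_contra hnot
  set C := P ⊓ centralizer (B : Set G) with hC
  have hBC : B ≤ C := le_inf hB ((isMulCommutative_iff_le_centralizer B).1 hBc)
  have hPC : P ≤ normalizer (C : Set G) :=
    (le_inf le_normalizer (hPB.trans (H13.normalizer_le_normalizer_centralizer B))).trans
      inf_normalizer_le_normalizer_inf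
  -- work in the quotient `P / B`
  have hBn : (B.subgroupOf P).Normal := normal_subgroupOf_of_le_normalizer hPB
  have hCn : (C.subgroupOf P).Normal := normal_subgroupOf_of_le_normalizer hPC
  have hQ : IsPGroup p (P ⧸ B.subgroupOf P) := hP.to_quotient _
  have : Group.IsNilpotent (P ⧸ B.subgroupOf P) := hQ.isNilpotent
  set C' := (C.subgroupOf P).map (QuotientGroup.mk' (B.subgroupOf P)) with hC'
  have hC'n : C'.Normal := hCn.map _ (QuotientGroup.mk'_surjective _)
  have hne : C' ≠ ⊥ := by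
    intro h
    apply hnot
    intro c hc
    have : QuotientGroup.mk' (B.subgroupOf P) ⟨c, hc.1⟩ ∈ C' := ⟨⟨c, hc.1⟩, hc, rfl⟩
    rw [h, mem_bot, QuotientGroup.mk'_apply, QuotientGroup.eq_one_iff] at this
    exact this
  obtain ⟨⟨z, ⟨c, hc, rfl⟩, hz⟩, hz1⟩ :=
    (Subgroup.ne_bot_iff_exists_ne_one).1 (H2.inf_center_ne_bot_of_isNilpotent C' hne)
  have hcB : (c : G) ∉ B := by
    intro h
    apply hz1
    apply Subtype.ext
    exact (QuotientGroup.eq_one_iff c).2 h
  apply hcB
  rw [← hmax (B ⊔ zpowers (c : G)) (sup_le hB ((zpowers_le).2 c.2)) ?_ ?_ le_sup_left]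
  · exact mem_sup_right (mem_zpowers _)
  · rw [le_normalizer_iff_commutator_le_left]
    have hn : B ⊔ zpowers (c : G) ≤ normalizer ((B ⊔ zpowers (c : G) : Subgroup G) : Set G) :=
      le_normalizer
    refine H13.commutator_sup_left_le (le_sup_left.trans hn) (le_sup_right.trans hn)
      ((le_normalizer_iff_commutator_le_left.1 hPB).trans le_sup_left) ?_
    rw [zpowers_eq_closure] at hn ⊢
    refine H13.commutator_closure_left_le (le_sup_right.trans hn) ?_
    rintro y rfl g hg
    apply mem_sup_left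
    have h1 := (mem_center_iff.1 hz) (QuotientGroup.mk' _ ⟨g, hg⟩)
    have h2 : QuotientGroup.mk' (B.subgroupOf P) ⁅c, ⟨g, hg⟩⁆ = 1 := by
      rw [map_commutatorElement, commutatorElement_eq_one_iff_mul_comm]
      exact h1.symm
    exact (QuotientGroup.eq_one_iff (N := B.subgroupOf P) _).1 h2
  · exact isMulCommutative_sup_of_le_centralizer hBc inferInstance
      (le_centralizer_iff.1 ((zpowers_le).2 hc.2))

theorem sSup_dsFam_le_of_maximal [Finite G] {p : ℕ} [Fact p.Prime]
    {P B : Subgroup G} (hP : IsPGroup p P) (hB : B ≤ P) (hPB : P ≤ normalizer (B : Set G))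
    (hBc : IsMulCommutative B)
    (hmax : ∀ B' : Subgroup G, B' ≤ P → P ≤ normalizer (B' : Set G) → IsMulCommutative B' →
      B ≤ B' → B' = B) : sSup (dsFam P) ≤ B :=
  sSup_le fun _ hA => (le_inf hA.1 (le_centralizer_iff.1
    (dsFam_le_centralizer hP hA hB (hA.1.trans hPB) hBc))).trans
    (inf_centralizer_le_of_maximal_normal_comm hP hB hPB hBc hmax)

theorem sSup_dsFam_mem [Finite G] {p : ℕ} [Fact p.Prime] {P : Subgroup G} (hP : IsPGroup p P) :
    sSup (dsFam P) ∈ dsFam P := by
  obtain ⟨B, -, hB⟩ := exists_maximal_ge_of_wellFoundedGT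
    (fun B : Subgroup G => B ≤ P ∧ P ≤ normalizer (B : Set G) ∧ IsMulCommutative B) ⊥
    ⟨bot_le, le_normalizer_of_normal, inferInstance⟩
  have h := sSup_dsFam_le_of_maximal hP hB.prop.1 hB.prop.2.1 hB.prop.2.2
    (fun B' a b c d => le_antisymm (hB.le_of_ge ⟨a, b, c⟩ d) d)
  have hc := isMulCommutative_of_le hB.prop.2.2 h
  refine ⟨sSup_dsFam_le P, hc, fun x hx hx2 => ?_⟩
  have : sSup (dsFam P) ≤ centralizer ((zpowers x : Subgroup G) : Set G) := by
    refine sSup_le fun A hA => le_centralizer_iff.1 ((zpowers_le).2 (hA.2.2 x hx fun a ha => ?_))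
    have := hx2 a (le_sSup hA ha)
    exact ⟨centralizer_le (show A ≤ sSup (dsFam P) from le_sSup hA) this.1, this.2⟩
  exact le_centralizer_iff.1 this (mem_zpowers x)

end H99
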