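import Cfsg.Agent.H63.KgvSpec

set_option autoImplicit false

namespace H99.KgvJH5

open Polynomial Finset H63.Kgv

theorem ext_gen {F : Type} [Field F] [Fintype F] {γ : Fˣ} (hγ : ∀ a : Fˣ, a ∈ Subgroup.zpowers γ)
    {χ χ' : MulChar F ℂ} (h : χ (γ : F) = χ' (γ : F)) : χ = χ' := by
  refine MulChar.ext fun a => ?_
  obtain ⟨k, rfl⟩ := (mem_powers_iff_mem_zpowers).2 (hγ a)
  simp only [Units.val_pow_eq_pow_val, map_pow, h]

theorem job : JH5 := by
  intro br lf h1 ar pa pb p _ M K _ _ _ g θ s r ω hr hω t D w ht hDM hrQ hw hb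
  have hne : w ^ p ^ D ≠ w := by simpa using hb
  have hp : p.Prime := Fact.out
  haveI : Fact r.Prime := ⟨hr⟩
  haveI : NeZero r := ⟨hr.ne_zero⟩
  have hD0 : 0 < D := Nat.pos_of_dvd_of_pos hDM s.pos
  have hQ1 : 1 ≤ p ^ D := Nat.one_le_iff_ne_zero.2 (pow_ne_zero _ hp.ne_zero)
  obtain ⟨k, hk⟩ := hrQ
  have hQ : p ^ D = r * k + 1 := by omega
  have fixQ : ∀ x : Kˣ, x ^ r = 1 → x ^ p ^ D = x := fun x hx => by
    rw [hQ, pow_succ, pow_mul, hx, one_pow, one_mul]
  obtain ⟨-, frob, -⟩ := h1 br lf p M K g θ s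
  have frobn : ∀ (n : ℕ) (x : Kˣ), HH p M g θ t (x ^ p ^ n) = HH p M g θ t x := by
    intro n
    induction n with
    | zero => intro x; simp
    | succ n ih => intro x; rw [pow_succ, pow_mul, frob t _ ht, ih]
  set u : Kˣ := w ^ (r * k) with hu
  have hwu : w ^ p ^ D = w * u := by rw [hQ, pow_succ, mul_comm]
  have hu1 : u ≠ 1 := fun e => hne (by rw [hwu, e, mul_one])
  have hur : u ^ r = 1 := by
    have : w ^ r * u ^ r = w ^ r * 1 := by
      rw [← mul_pow, ← hwu, ← pow_mul, mul_comm (p ^ D), pow_mul, hw, mul_one]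
    exact mul_left_cancel this
  have hou : orderOf u = r := orderOf_eq_prime hur hu1
  have hωr : ω ^ r = 1 := hω ▸ pow_orderOf_eq_one ω
  have hω1 : ω ≠ 1 := fun e => hr.ne_one (by rw [← hω, e, orderOf_one])
  have hiter : ∀ j : ℕ, w ^ p ^ (D * j) = w * u ^ j := by
    intro j
    induction j with
    | zero => simp
    | succ j ih =>
      rw [Nat.mul_succ, pow_add, pow_mul, ih, mul_pow, hwu, ← pow_mul, mul_comm j, pow_mul,
        fixQ u hur, pow_succ', mul_assoc]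
  have hall : ∀ i : ℕ, HH p M g θ t (w * ω ^ i) = HH p M g θ t w := by
    intro i
    have hpu : IsPrimitiveRoot u r := hou ▸ IsPrimitiveRoot.orderOf u
    obtain ⟨j, -, hj⟩ := hpu.eq_pow_of_mem_rootsOfUnity (ξ := ω ^ i)
      (by rw [mem_rootsOfUnity, ← pow_mul, mul_comm, pow_mul, hωr, one_pow])
    rw [← hj, ← hiter, frobn]
  have hDr : D * r ∣ M := by
    obtain ⟨e, he⟩ := hDM
    have h2 : w ^ p ^ M = w := by
      apply Units.ext
      rw [Units.val_pow_eq_pow_val, ← s.card, FiniteField.pow_card]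
    rw [he, hiter] at h2
    have h3 : u ^ e = 1 := by simpa using h2
    rw [he]
    exact Nat.mul_dvd_mul_left D (hou ▸ orderOf_dvd_of_pow_eq_one h3)
  have hwr : w ^ p ^ (D * r) = w := by rw [hiter, hur, mul_one]
  have hrt : (r : ZMod p) * t ≠ 0 := by
    refine mul_ne_zero (fun e => ?_) ht
    have h2 : p ∣ r := (ZMod.natCast_eq_zero_iff r p).1 e
    have h3 : p ∣ r * k + 1 := hQ ▸ dvd_pow_self p hD0.ne'
    exact hp.one_lt.ne' (Nat.dvd_one.1 ((Nat.dvd_add_right (h2.mul_right k)).1 h3))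
  obtain ⟨F, L, _, _, _, _, _, ψ, χ, γ, ψ', χ', γ', b, b', hfin, hnorm, htr⟩ :=
    br p M K g θ s D r hDr
  have hθ : ∀ x : Kˣ, x ≠ 1 → (θ x : ℂ) ≠ 1 := fun x hx e =>
    hx (s.inj (by rw [map_one]; exact Units.ext e))
  have v0 : χ (w ^ r) (γ : F) = θ (w ^ r) := b.val _ hw
  have v1 : χ' w (γ' : L) = θ w := b'.val _ hwr
  have hγ : ((γ : F) ^ k) ^ r = 1 := by
    rw [← pow_mul, mul_comm, ← hk, ← b.card]
    exact FiniteField.pow_card_sub_one_eq_one _ γ.ne_zero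
  have hχγ : χ (w ^ r) ((γ : F) ^ k) ≠ 1 := by
    rw [map_pow, v0, ← Units.val_pow_eq_pow_val, ← map_pow, ← pow_mul]
    exact hθ u hu1
  have hη : ∀ a : L, χ' w a ^ r = χ (w ^ r) (Algebra.norm F a) := by
    intro a
    by_cases ha : a = 0
    · rw [ha, Algebra.norm_zero, MulChar.map_zero, MulChar.map_zero, zero_pow hr.ne_zero]
    · obtain ⟨j, hj⟩ := (mem_powers_iff_mem_zpowers).2 (b'.gen (Units.mk0 a ha))
      have e : a = (γ' : L) ^ j := by
        have := congrArg Units.val hj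
        simpa using this.symm
      rw [e, map_pow, map_pow, map_pow, hnorm, v0, v1, map_pow, Units.val_pow_eq_pow_val,
        ← pow_mul, ← pow_mul, mul_comm]
  have hη1 : χ' w ^ (Fintype.card F - 1) ≠ 1 := by
    intro e
    have := congrArg (fun c : MulChar L ℂ => c (γ' : L)) e
    simp only [MulChar.pow_apply_coe, MulChar.one_apply_coe] at this
    rw [v1, b.card, hk, ← Units.val_pow_eq_pow_val, ← map_pow] at this
    exact hθ u hu1 this
  have e1 := pb F L (ψ t) (χ (w ^ r)) (χ' w) r ((γ : F) ^ k) hr hfin hγ hχγ hη hη1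
  obtain ⟨c, hc⟩ := ar F (ψ t) r hr.pos
  have vω : ∀ i : ℕ, (ω ^ i) ^ p ^ D = ω ^ i := fun i =>
    fixQ _ (by rw [← pow_mul, mul_comm, pow_mul, hωr, one_pow])
  have hρ : ∀ i : ℕ, χ ω ^ i = χ (ω ^ i) := fun i => ext_gen b.gen (by
    rw [MulChar.pow_apply_coe, b.val _ (vω i), b.val _ (fixQ ω hωr), map_pow,
      Units.val_pow_eq_pow_val])
  have hoρ : orderOf (χ ω) = r := by
    refine orderOf_eq_prime (ext_gen b.gen ?_) fun e => hθ ω hω1 ?_
    · rw [MulChar.pow_apply_coe, b.val _ (fixQ ω hωr), MulChar.one_apply_coe,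
        ← Units.val_pow_eq_pow_val, ← map_pow, hωr, map_one, Units.val_one]
    · rw [← b.val _ (fixQ ω hωr), e, MulChar.one_apply_coe]
  have e2 := pa F (ψ t) 1 (χ ω) r (b.ne t ht) hr hoρ
  rw [one_pow, hc, b.sh, gaussSum_one_left (b.ne _ hrt),
    MulChar.one_apply (isUnit_one.neg), one_pow] at e2
  have e3 : ∏ i ∈ range r, HH p M g θ t (ω ^ i) ^ D = (-1) ^ r * (c * 1 * -1) := by
    rw [← e2, ← card_range r, ← prod_const, card_range, ← prod_mul_distrib]
    refine prod_congr rfl fun i _ => ?_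
    rw [lf p M K g θ s t D _ ht hDM (vω i), b.gs t _ (vω i), one_mul, hρ, neg_one_mul]
  have e4 : HH p M g θ (r * t) (w ^ r) ^ D = -gaussSum (χ (w ^ r)) (ψ (r * t)) := by
    rw [lf p M K g θ s _ D _ hrt hDM hw, b.gs _ _ hw]
  have e5 : ∏ i ∈ range r, HH p M g θ t (w * ω ^ i) ^ D =
      -(c * χ (w ^ r) (-1) ^ (r - 1) * gaussSum (χ (w ^ r)) (ψ (r * t))) := by
    simp only [hall]
    rw [prod_const, card_range, ← pow_mul, lf p M K g θ s t _ _ ht hDr hwr, b'.gs t _ hwr,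
      ← b.sh, ← hc, ← e1, gaussSum]
    simp only [htr]
  have hsq : χ (w ^ r) (-1) ^ 2 = 1 := by rw [← map_pow, neg_one_sq, map_one]
  have hs : χ (w ^ r) (-1) ^ (r - 1) = -(-1) ^ r := by
    rcases hr.eq_two_or_odd' with h2 | h2
    · subst h2
      rcases sq_eq_one_iff.1 hγ with h3 | h3
      · exact absurd (by rw [h3, map_one]) hχγ
      · rw [h3] at hχγ
        rcases sq_eq_one_iff.1 hsq with h4 | h4
        · exact absurd h4 hχγ
        · rw [h4]; norm_num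
    · obtain ⟨m, hm⟩ := h2
      have e : r - 1 = 2 * m := by omega
      rw [e, pow_mul, hsq, one_pow, Odd.neg_one_pow ⟨m, hm⟩, neg_neg]
  show ∏ i ∈ range r, HH p M g θ t (w * ω ^ i) ^ D =
    (∏ i ∈ range r, HH p M g θ t (ω ^ i) ^ D) * HH p M g θ (r * t) (w ^ r) ^ D
  rw [e3, e4, e5, hs]
  ring

end H99.KgvJH5
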