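import Cfsg.Agent.H67.SWDef
import Cfsg.Agent.H72.SPFR
import Cfsg.Agent.H54.SPFW

/-! STD-SP (row S3129), wreath endgame, slot `C2`: `Z_l`, `Z_s`, `M₂` are characteristic in `U`. -/

set_option autoImplicit false
set_option linter.unusedSectionVars false

namespace H99.SWC2

open H64.SG (Cz Cs mem_Cz)
open H67.SA (cm cm_eq la)
open H59.SO (AutOn)
open Subgroup H67.UA H67.SP H72.SPF
open H67.SW (Ch C2 JobC2)
open scoped commutatorElement

section Gen

variable {X : Type} [Group X] {U R : Subgroup X} {θ : X → X}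

/-- the second centre -/
def Yp (U : Subgroup X) (g : X) : Prop := g ∈ U ∧ ∀ u ∈ U, cm u g ∈ Cs U
/-- the elements of the second centre without commutators in `R` -/
def Ep (U R : Subgroup X) (g : X) : Prop := Yp U g ∧ ∀ u ∈ U, cm u g ∈ R → cm u g = 1

theorem cmU {a b : X} (ha : a ∈ U) (hb : b ∈ U) : cm a b ∈ U :=
  mul_mem (mul_mem (mul_mem ha hb) (inv_mem ha)) (inv_mem hb)

theorem cenA (a : AutOn U θ) {z : X} (h : z ∈ U) (h' : z ∈ Cs U) : θ z ∈ Cs U := fun w hw => by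
  obtain ⟨w', k, rfl⟩ := a.bij.surjOn hw
  rw [← a.mul _ k _ h, h' w' k, a.mul _ h _ k]

theorem back [Finite X] (a : AutOn U θ) (hR : R ≤ U) (h : ∀ u ∈ R, θ u ∈ R) {u : X} (hu : u ∈ U)
    (h' : θ u ∈ R) : u ∈ R := by
  obtain ⟨z, hz, e⟩ := (((Set.toFinite (R : Set X)).injOn_iff_bijOn_of_mapsTo (f := θ) h).1
    (a.bij.injOn.mono hR)).surjOn h'
  rwa [← a.bij.injOn (hR hz) hu e]

theorem Yp.aut (a : AutOn U θ) {g : X} (h : Yp U g) : Yp U (θ g) := ⟨a.bij.mapsTo h.1, fun w hw => by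
  obtain ⟨u, k, rfl⟩ := a.bij.surjOn hw
  rw [← a.cm k h.1]
  exact cenA a (cmU k h.1) (h.2 u k)⟩

theorem Ep.aut [Finite X] (a : AutOn U θ) (hR : R ≤ U) (hc : ∀ u ∈ R, θ u ∈ R) {g : X}
    (h : Ep U R g) : Ep U R (θ g) := ⟨h.1.aut a, fun w hw hm => by
  obtain ⟨u, k, rfl⟩ := a.bij.surjOn hw
  rw [← a.cm k h.1.1] at hm ⊢
  rw [h.2 u k (back a hR hc (cmU k h.1.1) hm), a.one]⟩

end Gen

variable {n : ℕ} {F : Type} [Field F] [StarRing F] [TrivialStar F] [CharP F 2] [Finite F]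

local notation "e0" => (ev 0 : Vn n F)
local notation "e1" => (ev 1 : Vn n F)
local notation "e2" => (ev 2 : Vn n F)
local notation "f1" => (ev (Fin.rev 1) : Vn n F)
local notation "f2" => (ev (Fin.rev 2) : Vn n F)

theorem peel {i : Fin (n + 1)} {k : ℕ} (e : i.val = k) {x : Vn n F} (h : Wk (k + 1) x) :
    ∃ (c : F) (y : Vn n F), Wk k y ∧ x = c • ev i + y := by
  refine ⟨x i, x i • ev i + x, fun j hj => ?_, by rw [← add_assoc, v_add_self, zero_add]⟩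
  rw [Pi.add_apply, Pi.smul_apply, ev_apply]
  split_ifs with e'
  · rw [e', smul_eq_mul, mul_one, cc]
  · have := Fin.val_ne_iff.2 e'
    rw [h j (by omega), smul_zero, add_zero]

theorem dec1 {x : Vn n F} (h : Wk 1 x) : ∃ c : F, x = c • e0 := by
  obtain ⟨c, y, h1, rfl⟩ := peel (i := 0) rfl h
  exact ⟨c, by rw [show y = 0 from funext fun i => h1 i (Nat.zero_le _), add_zero]⟩

variable [Base n F] [hp : H67.SP.Par n F]
include hp

theorem dec2 {x : Vn n F} (h : Wk 2 x) : ∃ b c : F, x = b • e1 + c • e0 := by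
  obtain ⟨b, y, h1, rfl⟩ := peel (H54.SPF.v1 hp.five) h
  obtain ⟨c, rfl⟩ := dec1 h1
  exact ⟨b, c, rfl⟩

theorem dec3 {x : Vn n F} (h : Wk 3 x) : ∃ d b c : F, x = d • e2 + b • e1 + c • e0 := by
  obtain ⟨d, y, h1, rfl⟩ := peel (H54.SPF.v2 hp.five) h
  obtain ⟨b, c, rfl⟩ := dec2 h1
  exact ⟨d, b, c, (add_assoc ..).symm⟩

theorem tab : hf e1 e0 = 0 ∧ hf e2 e0 = 0 ∧ hf e2 e1 = 0 ∧ hf f1 e0 = 0 ∧ hf f1 e1 = 1 ∧
    hf f1 e2 = 0 ∧ hf f2 e0 = 0 ∧ hf f2 e1 = 0 ∧ hf f2 e2 = 1 := by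
  have := hp.five
  simp only [hfe, Fin.val_rev, H54.SPF.v1 this, H54.SPF.v2 this, Fin.val_zero]
  refine ⟨if_neg ?_, if_neg ?_, if_neg ?_, if_neg ?_, if_pos ?_, if_neg ?_, if_neg ?_, if_neg ?_,
    if_pos ?_⟩ <;> omega

theorem w3 (d b : F) : Wk 3 (d • e2 + b • e1) :=
  wadd (wsm (wev (by rw [H54.SPF.v2 hp.five]; omega)) d)
    (wsm (wev (by rw [H54.SPF.v1 hp.five]; omega)) b)

theorem p3 {x y : Vn n F} (h : Wk 3 x) (h' : Wk 3 y) : hf x y = 0 :=
  wperp h h' (by have := hp.five; omega)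

theorem w30 : Wk 3 e0 := wev (by simp)
theorem w31 : Wk 3 e1 := wev (by rw [H54.SPF.v1 hp.five]; omega)
theorem w32 : Wk 3 e2 := wev (by rw [H54.SPF.v2 hp.five]; omega)

theorem mem3 {u x : Vn n F} (h : Wk 3 u) (h' : Wk 3 x) (c : F) : EE u x c ∈ UU n F :=
  (FV.mem_U _).2 fun j v hv => by
    have := hp.five
    rw [aE (p3 h' h), add_comm, ← add_assoc, ← add_assoc, ← add_assoc, v_add_self, zero_add]
    by_cases hj : j ≤ 2
    · rw [wperp hv h (by omega), wperp hv h' (by omega)]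
      intro a _; simp
    · have k : ∀ {y : Vn n F}, Wk 3 y → Wk j y := fun hy a ha => hy a (by omega)
      exact wadd (wadd (wsm (k h) _) (wsm (k h') _)) (wsm (k h) _)

theorem mem0 {x : Vn n F} (h : hf x e0 = 0) (c : F) : EE e0 x c ∈ UU n F := by
  have := hp.five
  refine memU (by simp; omega) (fun i hi => ?_) c
  rw [hf_ev_right] at h
  rw [← h]; congr 1; ext; simp at hi ⊢; omega

theorem u0 {u : XU n F} (hu : u ∈ UU n F) : ac u e0 = e0 := by
  rw [mv (show ac u e0 + e0 = 0 from funext fun i =>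
    (FV.mem_U u).1 hu 0 _ (wev (by simp)) i (Nat.zero_le _)), add_zero]

theorem u1 {u : XU n F} (hu : u ∈ UU n F) : ∃ α : F, ac u e1 = e1 + α • e0 := by
  obtain ⟨α, h⟩ := dec1 ((FV.mem_U u).1 hu 1 e1 (wev (by rw [H54.SPF.v1 hp.five]; omega)))
  exact ⟨α, mv h⟩

theorem u2 {u : XU n F} (hu : u ∈ UU n F) : ∃ β γ : F, ac u e2 = e2 + (β • e1 + γ • e0) := by
  obtain ⟨β, γ, h⟩ := dec2 ((FV.mem_U u).1 hu 2 e2 w32)
  exact ⟨β, γ, mv h⟩

theorem exU (α β : F) : ∃ u ∈ UU n F, ac u e1 = e1 + α • e0 ∧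
    ac u e2 = e2 + (β • e1 + (0 : F) • e0) := by
  have := hp.five
  obtain ⟨h10, h20, h21, g10, g11, g12, g20, g21, g22⟩ := tab (n := n) (F := F)
  have k1 : hf (α • f1) e0 = 0 := by rw [hf_smul_left, g10, mul_zero]
  have k2 : hf (β • f2) e1 = 0 := by rw [hf_smul_left, g21, mul_zero]
  have m : EE e1 (β • f2) 0 ∈ UU n F := memU (by rw [H54.SPF.v1 this]; omega)
    (wsm (wev (by rw [Fin.val_rev, H54.SPF.v1 this, H54.SPF.v2 this]; omega)) β) 0
  refine ⟨EE e1 (β • f2) 0 * EE e0 (α • f1) 0, mul_mem m (mem0 k1 0), ?_, ?_⟩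
  · rw [ac_mul, aE k1, hr, hs e1 f1, g11, h10]
    simp only [mul_one, zero_smul, add_zero, mul_zero]
    rw [ac_add, ac_smul, u0 m, ac_EE_self (FV.ok _ _ _ k2)]
  · rw [ac_mul, aE k1, hr, hs e2 f1, g12, h20]
    simp only [zero_smul, add_zero, mul_zero]
    rw [aE k2, hr, hs e2 f2, g22, h21]
    simp

theorem Tc_sh (c α : F) : Tc c (e1 + α • e0) = EE e0 ((c * α) • e1) (c * α ^ 2) * Tc c e1 :=
  ac_ext fun y => by
    obtain ⟨h10, -⟩ := tab (n := n) (F := F)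
    simp only [ac_mul, aE (p10 (c * α)), aT, hf_add_left, hf_add_right, hf_smul_left, hr, hx, h10]
    ext i
    simp only [Pi.add_apply, Pi.smul_apply, smul_eq_mul]
    ring

theorem cmY {u : XU n F} (hu : u ∈ UU n F) {α : F} (h1 : ac u e1 = e1 + α • e0) {x : Vn n F}
    (h : hf x e0 = 0) (a c : F) : cm u (EE e0 x a * Tc c e1) =
      EE e0 (ac u x + (c * α) • e1 + x) (c * α ^ 2 + hf x (ac u x)) := by
  have k : hf (ac u x) e0 = 0 := pS (u0 hu) h
  have k2 := hf_ac u e1 x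
  rw [h1, hf_add_left, hf_smul_left, hs e0, k, mul_zero, add_zero] at k2
  have k3 : hf (ac u x + (c * α) • e1) e0 = 0 := by rw [hf_add_left, k, p10, add_zero]
  unfold cm
  rw [← conj_mul, jE h, jT, u0 hu, h1, Tc_sh, mul_inv_rev, inE h, ← mul_assoc, ← mul_assoc,
    mul_inv_cancel_right, mE' k (p10 _), mE' k3 h]
  congr 1
  rw [hf_smul_left, k2, hf_add_right, hr, hs x e1]
  linear_combination (a + c * α * hf e1 x) * two0 F

/-- the general element of the second centre -/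
noncomputable abbrev yy (a b c d : F) : XU n F := EE (ev 0) (d • ev 2 + b • ev 1) a * Tc c (ev 1)

theorem cmZ {u : XU n F} (hu : u ∈ UU n F) {α β γ : F} (h1 : ac u e1 = e1 + α • e0)
    (h2 : ac u e2 = e2 + (β • e1 + γ • e0)) (a b c d : F) :
    cm u (yy a b c d) = zu (c * α ^ 2) (c * α + d * β) := by
  have k : ac u (d • e2 + b • e1) = d • e2 + (b + d * β) • e1 + (b * α + d * γ) • e0 := by
    rw [ac_add, ac_smul, ac_smul, h1, h2]
    ext i
    simp only [Pi.add_apply, Pi.smul_apply, smul_eq_mul]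
    ring
  rw [cmY hu h1 (p3 (w3 d b) w30), zu_eq, ← sh (b * α + d * γ) _ ((c * α + d * β) • e1), k,
    p3 (w3 d b) (wadd (w3 _ _) (wsm w30 _)), add_zero]
  congr 1
  ext i
  simp only [Pi.add_apply, Pi.smul_apply, smul_eq_mul]
  linear_combination (d * e2 i + b * e1 i) * two0 F

theorem yyU (a b c d : F) : yy a b c d ∈ UU n F :=
  mul_mem (mem3 w30 (w3 d b) a) (mem3 w31 (fun _ _ => rfl) c)

theorem memC {g : XU n F} : g ∈ Cs (UU n F) ↔ ∃ a b, g = zu a b := by rw [FR.zU, FV.mem_ZU]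

theorem cenZ {x : Vn n F} {a : F} (h : hf x e0 = 0) (hz : EE e0 x a ∈ Cs (UU n F)) :
    ∃ b t : F, x = b • e1 + t • e0 := by
  obtain ⟨a', b, e⟩ := memC.1 hz
  obtain ⟨t, ht⟩ := iE (ev_ne 0) h (p10 b) (e.trans (zu_eq a' b))
  exact ⟨b, t, mv ht⟩

theorem formY {g : XU n F} (h : Yp (UU n F) g) : ∃ a b c d, g = yy a b c d := by
  have h5 := hp.five
  obtain ⟨h10, -, -, g10, g11, -⟩ := tab (n := n) (F := F)
  have g0 : g ∈ Stab e0 := u0 h.1
  have k : ∀ y, hf y e0 = 0 → ∃ b t : F, ac g y = y + (b • e1 + t • e0) := fun y hy => by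
    have := inv_mem (h.2 _ (mem0 hy 0))
    rw [cm_eq, commutatorElement_inv, cmE g0 hy] at this
    obtain ⟨b, t, e⟩ := cenZ (by rw [hf_add_left, pS g0 hy, hy, add_zero]) this
    exact ⟨b, t, mv e⟩
  obtain ⟨c, t, hc⟩ := k _ g10
  obtain ⟨α, hα⟩ := u1 h.1
  obtain ⟨x, a, hx', e⟩ := (FV.mem_Qv _ _).1 (memQ (g := g * Tc c e1) (ev_ne 0)
    (mul_mem g0 (memT (hf_symm h10) c)) fun y hy => by
      obtain ⟨b, s, e⟩ := k y hy
      have := hf_ac g y f1
      rw [e, hc] at this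
      simp only [hf_add_left, hf_add_right, hf_smul_left, hr, hx, hy, h10, hs e0 e1, hs e1 f1,
        hs e0 f1, g10, g11] at this
      refine ⟨s + c * hf y e1 * α, ?_⟩
      rw [ac_mul, aT, ac_add, ac_smul, e, hα, show b = c * hf y e1 by
        linear_combination this - c * hf y e1 * two0 F]
      ext i
      simp only [Pi.add_apply, Pi.smul_apply, smul_eq_mul]
      linear_combination (y i + c * hf y e1 * e1 i) * two0 F)
  have e' : g = EE e0 x a * Tc c e1 := by rw [← e, mul_assoc, sqE (by simp), mul_one]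
  have w : Wk 3 x := fun i hi => by
    obtain ⟨u, hu, r⟩ := H54.SPF.root (F := F) (i := i) (j := 2)
      (by rw [Fin.lt_def, H54.SPF.v2 h5]; omega)
    obtain ⟨β, hβ⟩ := u1 hu
    have := h.2 u hu
    rw [e', cmY hu hβ hx'] at this
    obtain ⟨b, s, e⟩ := cenZ
      (by rw [hf_add_left, hf_add_left, pS (u0 hu) hx', p10, hx', add_zero, add_zero]) this
    have e3 := congrFun e 2
    have n1 : (2 : Fin (n + 1)) ≠ 1 := Fin.val_ne_iff.1 (by
      rw [H54.SPF.v1 h5, H54.SPF.v2 h5]; omega)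
    have n0 : (2 : Fin (n + 1)) ≠ 0 := Fin.val_ne_iff.1 (by rw [H54.SPF.v2 h5]; simp)
    simp only [Pi.add_apply, Pi.smul_apply, ev_apply, if_neg n1, if_neg n0, smul_zero,
      add_zero] at e3
    rw [← r x, Pi.add_apply, e3]
  obtain ⟨d, b, s, rfl⟩ := dec3 w
  exact ⟨a, b, c, d, by rw [e', sh]⟩

theorem zuL {a b : F} (h : zu (n := n) a b ∈ ZL n F) : b = 0 := by
  obtain ⟨c, e⟩ := (FV.mem_Zl _ _).1 h
  obtain ⟨t, ht⟩ := iE (ev_ne 0) (p10 b) (by simp) ((zu_eq a b).symm.trans e)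
  exact (li01 (n := n) t b (by rw [← ht, add_zero, v_add_self])).2

theorem yyE {a b c d : F} (h : c = 0 ∨ d = 0) : Ep (UU n F) (ZL n F) (yy a b c d) := by
  refine ⟨⟨yyU a b c d, fun u hu => ?_⟩, fun u hu => ?_⟩ <;>
    obtain ⟨α, h1⟩ := u1 hu <;> obtain ⟨β, γ, h2⟩ := u2 hu <;> rw [cmZ hu h1 h2]
  · exact memC.2 ⟨_, _, rfl⟩
  · intro hz
    have k := zuL hz
    have k2 : c * α ^ 2 = 0 := by
      rcases h with rfl | rfl
      · simp
      · linear_combination α * k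
    rw [k, k2]; simp [zu]

theorem formE {g : XU n F} (h : Ep (UU n F) (ZL n F) g) :
    ∃ a b c d, (c = 0 ∨ d = 0) ∧ g = yy a b c d := by
  obtain ⟨a, b, c, d, rfl⟩ := formY h.1
  refine ⟨a, b, c, d, or_iff_not_imp_right.2 fun hd => ?_, rfl⟩
  obtain ⟨u, hu, h1, h2⟩ := exU (n := n) 1 (d⁻¹ * c)
  have := h.2 u hu
  rw [cmZ hu h1 h2, mul_inv_cancel_left₀ hd, mul_one, cc, one_pow, mul_one,
    show zu (n := n) c 0 = Tc c e0 by simp [zu]] at this
  exact Tc_eq_one (ev_ne 0) (hx _) (star_trivial c) (this ((FV.mem_Zl _ _).2 ⟨c, rfl⟩))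

theorem nosq {g : XU n F} {v : Vn n F} {c : F} (hv : v ≠ 0) (h : g * g = Tc c v) : c = 0 := by
  by_contra hc
  have g0 : g ∈ Stab v := by
    rw [← FR.cz v c hv hc, mem_Cz, ← h, mul_assoc]
  obtain ⟨f, hf'⟩ := ex1 hv
  have k := hf_ac g (ac g f) f
  have k2 := hf_ac g f v
  rw [mem_Stab.1 g0, hf'] at k2
  rw [← ac_mul, h, aT, hf', hf_add_left, hf_smul_left, hs v, k2, hs f] at k
  exact hc (by linear_combination k)

theorem sqr {s : XU n F} (hs' : s ∈ UU n F) (h2 : s * s = 1) {y : Vn n F} (h : hf y e0 = 0) :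
    ∃ r ∈ UU n F, r * r = EE e0 (ac s y + y) (hf y (ac s y)) :=
  ⟨s * EE e0 y 0, mul_mem hs' (mem0 h 0), by
    rw [← cmE (u0 hs') h 0, commutatorElement_def, inE h, inv_eq_of_mul_eq_one_right h2,
      ← mul_assoc]⟩

theorem issq (a b : F) {d : F} (hd : d ≠ 0) : ∃ r ∈ UU n F, r * r = yy a b 0 d := by
  obtain ⟨-, -, h21, g10, g11, g12, g20, g21, g22⟩ := tab (n := n) (F := F)
  rw [yy, Tc, EE_zero, mul_one]
  by_cases ha : a = 0
  · obtain ⟨r, hr', e⟩ := sqr (mem3 w31 w32 (0 : F)) (sqE h21 0) (y := d • f1 + b • f2)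
      (by simp [hf_add_left, hf_smul_left, g10, g20])
    have k1 : hf (d • f1 + b • f2) e1 = d := by simp [hf_add_left, hf_smul_left, g11, g21]
    have k2 : hf (d • f1 + b • f2) e2 = b := by simp [hf_add_left, hf_smul_left, g12, g22]
    refine ⟨r, hr', e.trans ?_⟩
    generalize d • f1 + b • f2 = y at k1 k2
    rw [aE h21, k1, k2]
    simp only [hf_add_right, hr, hx, k1, k2]
    congr 1
    · ext i
      simp only [Pi.add_apply, Pi.smul_apply, smul_eq_mul]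
      linear_combination y i * two0 F
    · linear_combination b * d * two0 F - ha
  · obtain ⟨r, hr', e⟩ := sqr (mem3 (x := 0) (w3 d b) (fun _ _ => rfl) a⁻¹) (sqE (by simp) _)
      (y := (a * d⁻¹) • f2) (by simp [hf_smul_left, g20])
    have k : hf ((a * d⁻¹) • f2) (d • e2 + b • e1) = a := by
      rw [hf_smul_left, hf_add_right, hr, hr, g21, g22]; field_simp; simp
    refine ⟨r, hr', e.trans ?_⟩
    rw [aT, k, inv_mul_cancel₀ ha, one_smul, hf_add_right, hx, k, zero_add, add_right_comm,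
      v_add_self, zero_add]

theorem yyM (a b c : F) : yy a b c 0 ∈ Mk n F 2 :=
  (FV.mem_M2 _).2 ⟨a, b, c, by rw [zu_eq, yy, zero_smul, zero_add]⟩

theorem M2U : Mk n F 2 ≤ UU n F := fun g hg => by
  obtain ⟨a, b, c, rfl⟩ := (FV.mem_M2 _).1 hg
  simpa only [zu_eq, yy, zero_smul, zero_add] using yyU (n := n) a b c 0

theorem ZLU : ZL n F ≤ UU n F := fun g hg => by
  obtain ⟨c, rfl⟩ := (FV.mem_Zl _ _).1 hg
  exact mem0 (by simp) c

theorem chM (hL : Ch (UU n F) (ZL n F)) [Finite (XU n F)] : Ch (UU n F) (Mk n F 2) := by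
  intro θ a g hg
  obtain ⟨a₁, b₁, c, rfl⟩ := (FV.mem_M2 _).1 hg
  have m1 : zu (n := n) a₁ b₁ ∈ UU n F := by rw [zu_eq]; exact mem0 (p10 _) _
  have m2 : Tc c e1 ∈ UU n F := mem3 w31 (fun _ _ => rfl) c
  rw [a.mul _ m1 _ m2]
  refine mul_mem ?_ ?_
  · obtain ⟨a', b', e⟩ := memC.1 (cenA a m1 (memC.2 ⟨a₁, b₁, rfl⟩))
    exact (FV.mem_M2 _).2 ⟨a', b', 0, by rw [e, Tc, EE_zero, mul_one]⟩
  · have := (yyE (n := n) (a := 0) (b := 0) (c := c) (Or.inr rfl)).aut a ZLU (hL θ a)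
    rw [show yy (n := n) 0 0 c 0 = Tc c e1 by simp [yy]] at this
    obtain ⟨a', b', c', d', h, e⟩ := formE this
    by_cases hd : d' = 0
    · rw [e, hd]; exact yyM a' b' c'
    · obtain ⟨r, hr', e'⟩ := issq (n := n) a' b' hd
      obtain ⟨r', k, rfl⟩ := a.bij.surjOn hr'
      rw [← h.resolve_right hd, ← e, ← a.mul _ k _ k] at e'
      rw [nosq (ev_ne 1) (a.bij.injOn (mul_mem k k) m2 e'), Tc, EE_zero, a.one]
      exact one_mem _

theorem jobC2 : JobC2 := by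
  intro n F _ _ _ _ _ p b _ _ hL
  have : Finite (XU n F) := Finite.of_injective (β := Fin (n + 1) → Fin (n + 1) → F) mt
    fun _ _ => X_ext
  refine ⟨hL, fun θ a g hg => ?_, chM hL⟩
  obtain ⟨c, rfl⟩ := (FV.mem_Zs _ _ p01 _).1 hg
  obtain ⟨u, hu, h1, h2⟩ := exU (n := n) 0 c
  have m := yyU (n := n) (0 : F) 0 0 1
  have k := cmZ hu h1 h2 0 0 0 1
  rw [show zu (n := n) (0 * 0 ^ 2) (0 * 0 + 1 * c) = qq (c • ev 1) (ev 0) by simp [zu]] at k
  obtain ⟨a', b', c', d', h, e⟩ := formE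
    ((yyE (n := n) (a := 0) (b := 0) (d := (1 : F)) (Or.inl rfl)).aut a ZLU (hL θ a))
  have hd : d' ≠ 0 := by
    rintro rfl
    have := (FV.mem_M 2 _).1 (back a M2U (chM hL θ a) m (e ▸ yyM a' b' c')) (ev (la n)) 2
      (H54.SPF.v2 p.five).ge
    rw [show yy (n := n) (0 : F) 0 0 1 = EE (ev 0) (ev 2) 0 by simp [yy], aE tab.2.1,
      hs (ev (la n)) (ev 0), h0n] at this
    have n0 : (2 : Fin (n + 1)) ≠ 0 := Fin.val_ne_iff.1 (by rw [H54.SPF.v2 p.five]; simp)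
    simp only [Pi.add_apply, Pi.smul_apply, ev_apply 0, ev_apply 2, if_neg n0, if_true, smul_zero,
      add_zero, one_smul] at this
    exact one_ne_zero (α := F) (by linear_combination this - ev (la n) 2 * two0 F)
  obtain ⟨α, k1⟩ := u1 (a.bij.mapsTo hu)
  obtain ⟨β, γ, k2⟩ := u2 (a.bij.mapsTo hu)
  rw [← k, a.cm hu m, e, cmZ (a.bij.mapsTo hu) k1 k2, h.resolve_right hd]
  exact (FV.mem_Zs _ _ p01 _).2 ⟨d' * β, by simp [zu]⟩

end H99.SWC2
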