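/- STD-SP (row S3129), endgame, slot UF (blueprints/STDSP_E.md); port of `H92/SfUF`. -/
import Cfsg.Agent.H64.YESpec
import Cfsg.Agent.H92.SfUF

set_option autoImplicit false
set_option linter.unusedSectionVars false

namespace H99.YEUF

open H64.SG (O2 Syl Cz Cs Ns cjs Is2 Inv2 UF IsO2 fx)
open Subgroup H67.UA H67.SP H64.YE
open H59.SO (Ind CE B0 cje)
open H64.SF (Outer)
open H92.SfU (dih exists_odd map_O2)

universe u

variable {n : ℕ} {F : Type} [Field F] [StarRing F] [TrivialStar F] [CharP F 2] [Finite F]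
  [Base n F] [FC n F] [FO n F]

/-- Lang's theorem for the outer involutions. -/
theorem lang (χ : MulAut (XU n F)) (h2 : χ * χ = 1) (ho : ∀ g, χ ≠ MulAut.conj g) (z : XU n F)
    (hz : z * χ z = 1) : ∃ l, z = l * (χ l)⁻¹ := by
  have cj : ∀ (α : MulAut (XU n F)) g, α * MulAut.conj g = MulAut.conj (α g) * α := fun α g =>
    MulEquiv.ext fun x => by simp
  obtain ⟨o, ho'⟩ := FA.out (n := n) (F := F)
  have f1 : fs n F 1 = 1 := by
    have := FA.fs_mul (n := n) (F := F) 1 1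
    rw [one_mul] at this
    exact left_eq_mul.1 this
  have oc : ∀ g, o (MulAut.conj g) = 1 := fun g => by rw [← ho' g 1, f1, mul_one]
  have of : ∀ σ, o (fs n F σ) = σ := fun σ => by simpa using ho' 1 σ
  obtain ⟨g, σ, -, -, e1⟩ := FO.std χ h2 ho
  obtain ⟨g', σ', -, -, e2⟩ := FO.std (MulAut.conj z * χ) (by
    rw [mul_assoc, ← mul_assoc χ, cj, mul_assoc, h2, mul_one, ← map_mul, hz, map_one])
    fun k e => ho (z⁻¹ * k) (by rw [map_mul, ← e, map_inv, inv_mul_cancel_left])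
  have e3 : σ' = σ := by
    have a := congrArg o e1
    have b := congrArg o e2
    simp only [map_mul, map_inv, oc, of, one_mul, inv_one, mul_one] at a b
    rw [← a, b]
  refine ⟨g' * g⁻¹, FA.ns.conj_inj (mul_right_cancel (b := χ) ?_)⟩
  rw [map_mul (MulAut.conj (G := XU n F)), ← map_inv χ, mul_assoc, ← cj, e2, e3, e1, map_mul, map_inv,
    map_inv, map_mul, map_inv]
  group

variable {G : Type u} [Group G] [Finite G] {e : XU n F →* G} {t s : G}

/-- Two commuting conjugates. -/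
theorem key (h : B0 e t) {Gd : XU n F → Prop} (nr : ∀ u, ¬ IsConj t (e u))
    (gd : ∀ u, IsConj t (t * e u) → u = 1 ∨ Gd u) (go : ∀ u, Inv2 u → Gd u → u ∈ O2 (Cz u))
    (hc : IsConj t s) (cm : t * s = s * t)
    {ψ : MulAut (XU n F)} (i : Ind e s ψ) (ho : Outer ψ) {z : XU n F} (hz : z ∈ O2 (fx ψ))
    (z2 : Inv2 z) (ng : ¬ Gd z) : s = t := by
  obtain ⟨g, rfl⟩ := _root_.isConj_iff.1 hc
  have h' : B0 (cje g e) (g * t * g⁻¹) := h.cje g
  have tt := h.inv.1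
  have m1 : e z ∈ O2 (Cz (g * t * g⁻¹)) :=
    map_O2 e h.inj (by rw [i.map_fx h.inj]; exact inf_le_right) hz
  have zz : e z * e z = 1 := by rw [← map_mul, z2.1, map_one]
  obtain ⟨z', hz'⟩ := (ab h').ol _ m1 (H64.SG.is2_of_sq zz)
  have tm : t ∈ Cz (g * t * g⁻¹) := H64.SG.mem_Cz.2 cm.symm
  obtain ⟨χ, hχ⟩ := H59.SO.exists_ind h'.inj (h'.cz tm)
  by_cases hi : ∃ u, χ = MulAut.conj u
  · obtain ⟨u, rfl⟩ := hi
    obtain ⟨uu, e1 | e1⟩ := h'.inner FA.ns cm.symm tt hχ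
    · exact absurd (_root_.isConj_iff.2 ⟨g⁻¹, by rw [e1, H59.SO.cje_apply]; group⟩) (nr u)
    by_cases u1 : u = 1
    · rw [u1, map_one, mul_one] at e1
      exact e1.symm
    have gu := (gd u (_root_.isConj_iff.2 ⟨g⁻¹, by
      conv_lhs => rw [e1, H59.SO.cje_apply]
      group⟩)).resolve_left u1
    have m2 : cje g e u ∈ O2 (Cz t) := map_O2 _ h'.inj (by
      rintro _ ⟨a, ha, rfl⟩
      refine H64.SG.mem_Cz.2 ?_
      have c1 := h'.toB1.comm a
      have c2 : cje g e u * cje g e a = cje g e a * cje g e u := by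
        rw [← map_mul, ← map_mul, H64.SG.mem_Cz.1 ha]
      calc t * cje g e a = g * t * g⁻¹ * cje g e u * cje g e a := by rw [← e1]
        _ = cje g e a * (g * t * g⁻¹ * cje g e u) := by rw [mul_assoc, c2, ← mul_assoc, c1, mul_assoc]
        _ = _ := by rw [← e1]) (go u ⟨uu, u1⟩ gu)
    obtain ⟨u', e3⟩ := (ab h).ol _ m2 (H64.SG.is2_of_sq (by rw [← map_mul, uu, map_one]))
    have e4 : g * t * g⁻¹ = t * e u'⁻¹ := by
      rw [map_inv, e3]
      exact eq_mul_inv_of_mul_eq e1.symm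
    have i2 : Ind e (t * e u'⁻¹) (1 * MulAut.conj u'⁻¹) :=
      (H59.SO.ind_one_iff.2 h.cen).mul (H59.SO.ind_conj _)
    rw [one_mul, ← e4] at i2
    exact absurd (i.unique h.inj i2) (ho _)
  · exfalso
    have c1 : χ z' = z' := (hχ.comm_iff h'.inj).1 (by rw [hz']; exact h.toB1.comm z)
    have c2 : z' * z' = 1 := (H59.SO.sq_e h'.inj).1 (by rw [hz', zz])
    obtain ⟨l, hl⟩ := lang χ (hχ.sq h'.inj tt) (fun u e => hi ⟨u, e⟩) z' (by rw [c1, c2])
    have c3 : cje g e l * t * (cje g e l)⁻¹ = t * e z := by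
      have := hχ l⁻¹
      rw [h.toB1.comm z, ← hz', hl, map_mul, ← map_inv χ, ← this, map_inv]
      group
    rcases gd z (_root_.isConj_iff.2 ⟨_, c3⟩) with e1 | e1
    · exact z2.2 e1
    · exact ng e1

theorem jobUF : JobUF.{u} := by
  intro n F _ _ _ _ _ _ G _ _ e t _ _ _ Y _ _ _ ι τ Gd U Φ e0 m3 ea bg nr
  have b0 : B0 e t := e0.toCE.b0
  have hk := e0.ker
  have tt := e0.inv.1
  have tn := e0.act.mem_Ns
  have le : ∀ y, Φ y ∈ Ns Φ.range := fun y => Subgroup.le_normalizer ⟨y, rfl⟩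
  have fin : ∀ s, IsConj t s → s ∈ Ns Φ.range → Is2 (s * t) →
      ∃ m ∈ Ns Φ.range, s = m * t * m⁻¹ := by
    intro s hc hs h2
    have ss : s * s = 1 := by
      obtain ⟨g, rfl⟩ := _root_.isConj_iff.1 hc
      rw [conj_mul, tt]; group
    obtain ⟨β, iβ⟩ := exists_ind hk hs
    have ist := iβ.mul e0.act
    by_cases i1 : ∃ y, β = MulAut.conj y
    · obtain ⟨y, rfl⟩ := i1
      obtain ⟨y', rfl⟩ := ea.inn s y (H64.SG.is2_of_sq ss) iβ
      exact absurd hc (nr y')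
    by_cases i2 : ∃ y, β * τ = MulAut.conj y
    · obtain ⟨y, hy⟩ := i2
      obtain ⟨v, hv⟩ := ea.inn _ y h2 (hy ▸ ist)
      have e1 : Φ v * t = s := by rw [hv, mul_assoc, tt, mul_one]
      obtain ⟨w, hw⟩ := ea.tc v (e1 ▸ hc)
      exact ⟨Φ w, le w, e1 ▸ hw⟩
    have b2 := ind_sq hk iβ ss
    rcases m3 β b2 (ind_is2 hk ist h2) (fun y e => i1 ⟨y, e⟩) (fun y e => i2 ⟨y, e⟩) with
      ⟨P, p1, p2, p3⟩ | ⟨go, y, β', ψ, z, e1, e2, e3, ho, hz, z2, ng⟩
    · have := bg s hc (P.map Φ) (by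
        rintro _ ⟨a, ha, rfl⟩
        exact H64.SG.mem_Cz.2 (iβ.comm (p1 ha))) (p2.map Φ)
      rw [card_map2 hk p2] at this
      exact absurd p3 (not_lt.2 this)
    have wn := le y
    have a1 : Ind Φ (Φ y * s * (Φ y)⁻¹) β' := e1 ▸ (H59.SO.ind_conj y).conj iβ
    set s₁ := Φ y * s * (Φ y)⁻¹ with hs₁
    have s11 : s₁ * s₁ = 1 := by rw [hs₁, conj_mul, ss]; group
    have bb := ind_sq hk a1 s11
    have ap := a1.mul e0.act
    have bt : β' * τ * (β' * τ) = 1 := by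
      calc β' * τ * (β' * τ) = β' * (τ * β') * τ := by group
        _ = β' * β' * (τ * τ) := by rw [← e2]; group
        _ = 1 := by rw [bb, e0.t2, one_mul]
    have k1 : s₁ * t * (s₁ * t) ∈ Cs Φ.range := H59.SO.ind_one_iff.1 (bt ▸ ap.mul ap)
    obtain ⟨j, hj⟩ := H64.SG.odd_orderOf_of_mem ea.odd k1
    have d := dih s11 tt j
    have a2 := (ap.pow j).conj a1
    have cb : Commute (β' * τ) β' := by
      show β' * τ * β' = β' * (β' * τ)
      rw [mul_assoc, ← e2]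
    rw [(cb.pow_left j).eq, mul_inv_cancel_right] at a2
    have mn := (ap.pow j).mem_Ns
    set m := (s₁ * t) ^ j with hm
    set s₂ := m * s₁ * m⁻¹ with hs₂
    have s22 : s₂ * s₂ = 1 := by rw [hs₂, conj_mul, s11]; group
    have q : s₂ * t * (s₂ * t) = 1 := by
      rw [d, ← ((Commute.refl (s₁ * t)).mul_pow _), ← hj, pow_orderOf_eq_one]
    have cm : t * s₂ = s₂ * t := by
      have h1 : (s₂ * t)⁻¹ = s₂ * t := inv_eq_of_mul_eq_one_right q
      rw [← h1, mul_inv_rev, inv_eq_of_mul_eq_one_right tt, inv_eq_of_mul_eq_one_right s22]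
    have ind : Ind e s₂ ψ := fun u => by rw [← e0.res, a2, e3, e0.res]
    have c2 : IsConj t s₂ :=
      (hc.trans (_root_.isConj_iff.2 ⟨Φ y, rfl⟩)).trans (_root_.isConj_iff.2 ⟨m, rfl⟩)
    have k := key b0 (fun u => e0.res u ▸ nr (ι u)) e0.gd go c2 cm ind ho hz z2 ng
    refine ⟨(m * Φ y)⁻¹, inv_mem (mul_mem mn wn), ?_⟩
    rw [← k, hs₂, hs₁]; group
  refine ⟨e0.inv, tn, fun g hg => ?_⟩
  have ss : g * t * g⁻¹ * (g * t * g⁻¹) = 1 := by rw [conj_mul, tt]; group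
  obtain ⟨j, hj⟩ := exists_odd (g * t * g⁻¹ * t)
  have mn : (g * t * g⁻¹ * t) ^ j ∈ Ns Φ.range := pow_mem (mul_mem hg tn) j
  rw [← dih ss tt j] at hj
  set a := (g * t * g⁻¹ * t) ^ j
  obtain ⟨m, hm, e1⟩ := fin _ ((_root_.isConj_iff.2 ⟨g, rfl⟩).trans (_root_.isConj_iff.2 ⟨a, rfl⟩))
    (mul_mem (mul_mem mn hg) (inv_mem mn)) hj
  have : m⁻¹ * a * g ∈ Cz t := H64.SG.mem_Cz.2 (by
    calc t * (m⁻¹ * a * g) = m⁻¹ * (m * t * m⁻¹) * a * g := by group
      _ = m⁻¹ * a * g * t := by rw [← e1]; group)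
  have h3 := mul_mem (mul_mem (inv_mem mn) hm) (ea.ct this)
  rwa [show a⁻¹ * m * (m⁻¹ * a * g) = g by group] at h3

end H99.YEUF
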