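import Cfsg.Agent.H74.RESpec

set_option autoImplicit false

namespace H99.RESC

open Cfsg Subgroup H14 H98 H1.Gold H14.GC H14.FE H74.RE

universe u

variable {G : Type u} [Group G]

theorem comm_of_sq {a b : G} (ha : a * a = 1) (hb : b * b = 1) (hab : a * b * (a * b) = 1) :
    a * b = b * a := by
  have h1 : a⁻¹ = a := inv_eq_of_mul_eq_one_right ha
  have h2 : b⁻¹ = b := inv_eq_of_mul_eq_one_right hb
  have h3 : (a * b)⁻¹ = a * b := inv_eq_of_mul_eq_one_right hab
  rw [← h3, mul_inv_rev, h1, h2]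

theorem elc {Y : Subgroup G} (h : El Y) {a b : G} (ha : a ∈ Y) (hb : b ∈ Y) : a * b = b * a :=
  comm_of_sq (h a ha) (h b hb) (h _ (mul_mem ha hb))

theorem el2 {Y : Subgroup G} (h : El Y) : IsPGroup 2 Y := fun x =>
  ⟨1, Subtype.ext (by simpa [pow_two] using h x x.2)⟩

theorem elcj {Y : Subgroup G} (h : El Y) (g : G) : El (cj g Y) := fun a ha => by
  have := h _ (mem_cj.1 ha)
  have e : a * a = g * (g⁻¹ * a * g * (g⁻¹ * a * g)) * g⁻¹ := by group
  rw [e, this]; group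

theorem memFF {Q R T : Subgroup G} (h : Rs Q R T) {f : G} :
    f ∈ FF R T ↔ ∃ t ∈ T, ∃ r ∈ R, r ∈ cen T ∧ f = t * r := by
  have hn : T ≤ normalizer ((R ⊓ cen T : Subgroup G) : Set G) :=
    le_normalizer_inf h.nR (le_normalizer_centralizer le_normalizer)
  rw [mem_sup_left_norm hn]
  constructor
  · rintro ⟨t, ht, r, ⟨hr, hc⟩, e⟩
    exact ⟨t, ht, r, hr, hc, e⟩
  · rintro ⟨t, ht, r, hr, hc, e⟩
    exact ⟨t, ht, r, ⟨hr, hc⟩, e⟩

theorem elFF {Q R T : Subgroup G} (h : Rs Q R T) : El (FF R T) := fun f hf => by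
  obtain ⟨t, ht, r, hr, hc, rfl⟩ := (memFF h).1 hf
  have e : t * r = r * t := mem_centralizer_iff.1 hc t ht
  calc t * r * (t * r) = t * (r * t) * r := by group
    _ = (t * t) * (r * r) := by rw [← e]; group
    _ = 1 := by rw [h.elT t ht, h.elR r hr, one_mul]

theorem sylRT {Q R T : Subgroup G} (h : Rs Q R T) : IsSyl 2 (R ⊔ T) ⊤ := by
  refine ⟨le_top, IsPGroup.to_sup_of_normal_left' (el2 h.elR) (el2 h.elT) h.nR, ?_⟩
  intro U hU hle _
  have e : U ⊓ Q = R := h.syl.eq_of_le (hU.to_le inf_le_left)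
    (le_inf (le_sup_left.trans hle) h.syl.le) inf_le_right
  refine le_antisymm (fun x hx => ?_) hle
  obtain ⟨q, hq, t, ht, rfl⟩ := h.top x
  have htU : t ∈ U := hle (mem_sup_right ht)
  have hqU : q ∈ U := by simpa using mul_mem hx (inv_mem htU)
  have : q ∈ R := e ▸ (⟨hqU, hq⟩ : q ∈ U ⊓ Q)
  exact mul_mem (mem_sup_left this) (mem_sup_right ht)

theorem jobSC : H74.RE.JobSC.{u} := by
  intro nr G _ _ Q R T h
  haveI := h.normal
  haveI : Fact (Nat.Prime 2) := ⟨Nat.prime_two⟩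
  refine ⟨sylRT h, ⟨sup_le le_sup_right (inf_le_left.trans le_sup_left), ?_⟩, elFF h,
    fun f hf => (memFF h).1 hf⟩
  intro f hf x hx
  have hff := elFF h f hf
  obtain ⟨t, ht, r, hr, hc, rfl⟩ := (memFF h).1 hf
  obtain ⟨r1, hr1, t1, ht1, e1⟩ := (mem_sup_right_norm h.nR).1 hx
  by_cases h1 : t = 1
  · subst h1
    rw [one_mul] at e1 ⊢
    have hfQ : x * r * x⁻¹ ∈ Q := h.normal.conj_mem r (h.syl.le hr) x
    have ht1Q : t1 ∈ Q := by
      have := mul_mem (inv_mem (h.syl.le hr1)) (e1 ▸ hfQ)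
      simpa using this
    have ht11 : t1 = 1 := h.disj t1 ht1 ht1Q
    rw [ht11, mul_one] at e1
    have hf1 : x * r * x⁻¹ ∈ R := e1 ▸ hr1
    have s1 : IsSyl 2 R (Q ⊓ cen1 (x * r * x⁻¹)) :=
      h.syl.of_le (le_inf h.syl.le fun a ha => mem_centralizer_singleton_iff.2 (elc h.elR ha hf1))
        inf_le_left
    have s2' : IsSyl 2 (cj x R) Q :=
      h.syl.cj_of_mem_normalizer (by rw [normalizer_eq_top]; trivial)
    have s2 : IsSyl 2 (cj x R) (Q ⊓ cen1 (x * r * x⁻¹)) :=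
      s2'.of_le (le_inf s2'.le fun a ha => mem_centralizer_singleton_iff.2
        (elc (elcj h.elR x) ha (conj_mem_cj hr))) inf_le_left
    obtain ⟨c, ⟨_, hcc⟩, ec⟩ := s2.exists_cj_eq s1
    rw [cj_cj] at ec
    have hn : c * x ∈ nor R := cj_eq_self_iff.1 ec
    obtain ⟨q, hq, s, hs, en⟩ := h.top (c * x)
    have hqn : q ∈ nor R := by
      have := mul_mem hn (inv_mem (h.nR hs))
      rw [en] at this
      simpa using this
    have hcc' : c * (x * r * x⁻¹) = x * r * x⁻¹ * c := mem_centralizer_singleton_iff.1 hcc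
    have hsr : s * r = r * s := mem_centralizer_iff.1 hc s hs
    have e2 : x * r * x⁻¹ = q * r * q⁻¹ := by
      calc x * r * x⁻¹ = c * (x * r * x⁻¹) * c⁻¹ := by rw [hcc']; group
        _ = (c * x) * r * (c * x)⁻¹ := by group
        _ = q * (s * r) * s⁻¹ * q⁻¹ := by rw [en]; group
        _ = q * r * q⁻¹ := by rw [hsr]; group
    have := nr G Q R T h q hq hqn r hr hc
    rw [← e2] at this
    exact mem_sup_right ⟨hf1, this⟩
  · have ht11 : t1 ≠ 1 := by
      intro e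
      rw [e, mul_one] at e1
      have hq : x * (t * r) * x⁻¹ ∈ Q := e1 ▸ h.syl.le hr1
      have hq2 : t * r ∈ Q := by
        have := h.normal.conj_mem _ hq x⁻¹
        simpa [mul_assoc] using this
      have : t ∈ Q := by simpa using mul_mem hq2 (inv_mem (h.syl.le hr))
      exact h1 (h.disj t ht this)
    have hsq : r1 * t1 * (r1 * t1) = 1 := by
      rw [← e1]
      calc x * (t * r) * x⁻¹ * (x * (t * r) * x⁻¹) = x * (t * r * (t * r)) * x⁻¹ := by group
        _ = 1 := by rw [hff]; group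
    have hcm := comm_of_sq (h.elR r1 hr1) (h.elT t1 ht1) hsq
    have := h.c1 t1 ht1 ht11 r1 hr1 hcm
    exact (memFF h).2 ⟨t1, ht1, r1, hr1, this, e1.trans hcm⟩

end H99.RESC
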