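/- STD-SP (row S3129), endgame, the linear models: slots IN and GF. -/
import Cfsg.Agent.H81.YLSpec

set_option autoImplicit false
set_option linter.unusedSectionVars false

namespace H99.YLGF

open H64.SG (Is2)
open Matrix H57 Subgroup H67.SA H81.YL
open H29.SA (slDiag_scalar det_glField rep out_of_isConj out_gr)

variable {m : ℕ} {F : Type} [Field F] [Finite F] [CharP F 2]

theorem det_glGraph (g : GL (Fin (m + 1)) F) :
    GeneralLinearGroup.det (glGraph _ F g) = (GeneralLinearGroup.det g)⁻¹ := by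
  rw [← map_inv]
  exact Units.ext (by
    rw [GeneralLinearGroup.val_det_apply, glGraph_coe, det_transpose, GeneralLinearGroup.val_det_apply])

theorem inner_of_det {g : GL (Fin (m + 1)) F} (h : GeneralLinearGroup.det g = 1) :
    ∃ s : SLn m F, slDiag _ F g = MulAut.conj s := by
  obtain ⟨s, hs⟩ : g ∈ (SpecialLinearGroup.toGL : SLn m F →* GL (Fin (m + 1)) F).range := by
    rw [range_toGL_eq_ker_det]; exact h
  exact ⟨s, by rw [← hs, slDiag_toGL']⟩

theorem det_toGL (s : SLn m F) : GeneralLinearGroup.det (SpecialLinearGroup.toGL s) = 1 :=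
  Units.ext (by rw [GeneralLinearGroup.val_det_apply]; exact s.2)

theorem field_gam (σ : RingAut F) : slField _ F σ * gam m F = gam m F * slField _ F σ :=
  MulEquiv.toMonoidHom_injective (hom_ext fun i j _ c => by
    change slField _ F σ (gam m F _) = gam m F (slField _ F σ _)
    rw [gam_x, slField_x, slField_x, gam_x])

theorem gam_inv : (gam m F)⁻¹ = gam m F := inv_eq_of_mul_eq_one_right gam_mul_self

theorem inner_diag (hm : 2 ≤ m) (g : GL (Fin (m + 1)) F)
    (h : Is2 (cm (slDiag _ F g) (gam m F))) : ∃ y : SLn m F, slDiag _ F g = MulAut.conj y := by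
  obtain ⟨s, -, hs⟩ := inner_of_out hm (out_cm _ _) h
  obtain ⟨s', hs'⟩ := inner_of_det (g := SpecialLinearGroup.toGL (pm Fin.revPerm) * glGraph _ F g *
    (SpecialLinearGroup.toGL (pm Fin.revPerm))⁻¹ * g) (by
      rw [map_mul, map_mul, map_mul, map_inv, det_toGL, det_glGraph]; group)
  have e1 : gam m F * slDiag _ F g * (gam m F)⁻¹ * slDiag _ F g = MulAut.conj s' := by
    rw [← hs', gam, mul_assoc (MulAut.conj _), slGraph_mul_slDiag, map_mul, map_mul, map_mul, map_inv,
      slDiag_toGL']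
    group
  have e2 : slDiag _ F g ^ 2 = MulAut.conj (s * s') := by
    rw [map_mul, ← hs, ← e1, pow_two]; unfold cm; group
  obtain ⟨z, hz⟩ := slDiag_pow g
  obtain ⟨k, hk⟩ := odd_card_sub_one (F := F)
  rw [hk, pow_succ, pow_mul, e2, ← map_pow] at hz
  exact ⟨((s * s') ^ k)⁻¹ * z, by rw [map_mul, map_inv, ← hz, inv_mul_cancel_left]⟩

theorem jobIN : JobIN := by
  intro m F _ _ _ _ _ h5 β h2 h
  have hm : 2 ≤ m := by omega
  have e : (β * gam m F) ^ 2 = cm β (gam m F) := by
    rw [cm, inv_eq_of_mul_eq_one_right h2, gam_inv, pow_two, mul_assoc _ β]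
  have h' := e ▸ h.pow 2
  obtain ⟨g, ⟨-, k⟩ | ⟨-, k⟩⟩ := exists_dfgam hm β <;> generalize (out m F β).1 = σ at k ⊢ <;> subst k
  · obtain ⟨y, hy⟩ := inner_diag hm g (by
      convert h' using 1
      unfold cm
      rw [mul_assoc _ _ (gam m F), field_gam]; group)
    exact ⟨y, Or.inl (by rw [hy])⟩
  · obtain ⟨y, hy⟩ := inner_diag hm g (by
      convert h' using 1
      unfold cm
      calc _ = slDiag _ F g * (slField _ F σ * gam m F) * (slField _ F σ)⁻¹ * (slDiag _ F g)⁻¹ *
          (gam m F)⁻¹ := by rw [field_gam]; group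
        _ = _ := by group)
    exact ⟨y, Or.inr (by rw [hy, mul_assoc])⟩

theorem key (hm : 2 ≤ m) {σ : RingAut F} (h1 : σ ≠ 1) (h2 : σ * σ = 1) (z : SLn m F)
    (h : MulAut.conj z * (slField _ F σ * slGraph _ F) *
      (MulAut.conj z * (slField _ F σ * slGraph _ F)) = 1) :
    ∃ s : SLn m F, MulAut.conj z * (slField _ F σ * slGraph _ F) =
      MulAut.conj s * (slField _ F σ * slGraph _ F) * (MulAut.conj s)⁻¹ := by
  have o0 : ∀ τ : RingAut F, out m F (slField _ F τ * slGraph _ F) = (τ, Multiplicative.ofAdd 1) :=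
    fun τ => by rw [map_mul, out_slField hm, out_slGraph hm]; exact Prod.ext (mul_one _) (one_mul _)
  have o : out m F (MulAut.conj z * (slField _ F σ * slGraph _ F)) = (σ, Multiplicative.ofAdd 1) := by
    rw [map_mul, out_conj hm, one_mul, o0]
  have c : IsConj (MulAut.conj z * (slField _ F σ * slGraph _ F)) (slField _ F σ * slGraph _ F) := by
    rcases rep hm h (fun e => h1 (congrArg Prod.fst (o.symm.trans e))) with
      ⟨τ, -, -, e⟩ | ⟨J, e⟩ | ⟨τ, -, -, e⟩
    · have := out_of_isConj e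
      rw [o, out_slField hm] at this
      exact absurd (show Multiplicative.ofAdd (1 : ZMod 2) = 1 from congrArg Prod.snd this) (by decide)
    · rw [e, out_gr hm] at o
      exact absurd (congrArg Prod.fst o).symm h1
    · have := out_of_isConj e
      rw [o, o0] at this
      exact (show σ = τ from congrArg Prod.fst this) ▸ e
  obtain ⟨θ, hθ⟩ := isConj_iff.1 c.symm
  set ψ : Au m F := slField _ F σ * slGraph _ F with hψ
  have c1 : ∀ τ : RingAut F, slField _ F τ * ψ = ψ * slField _ F τ := fun τ => by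
    rw [hψ, mul_assoc, slGraph_mul_slField, ← mul_assoc, ← mul_assoc, ← map_mul, ← map_mul, ringAut_comm]
  have c2 : slGraph _ F * ψ = ψ * slGraph _ F := by rw [hψ, ← mul_assoc, slGraph_mul_slField]
  have c3 : ∀ k, ψ * slDiag _ F k = slDiag _ F (glField _ F σ (glGraph _ F k)) * ψ := fun k => by
    rw [hψ, mul_assoc, slGraph_mul_slDiag, ← mul_assoc, slField_mul_slDiag, mul_assoc]
  obtain ⟨g, hg⟩ : ∃ g, slDiag _ F g * ψ * (slDiag _ F g)⁻¹ = MulAut.conj z * ψ := by
    obtain ⟨g, ⟨-, k⟩ | ⟨-, k⟩⟩ := exists_dfg hm θ <;> generalize (out m F θ).1 = τ at k <;> subst k <;>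
      refine ⟨g, ?_⟩ <;> rw [← hθ]
    · rw [mul_assoc _ _ ψ, c1]; group
    · rw [mul_assoc _ _ ψ, c2, ← mul_assoc (_ * slField _ F τ), mul_assoc _ _ ψ, c1]; group
  have e1 : (SpecialLinearGroup.toGL z)⁻¹ * (g * glField _ F σ (glGraph _ F g⁻¹)) ∈
      center (GL (Fin (m + 1)) F) := by
    rw [← ker_pslDiag, MonoidHom.mem_ker, pslDiag, MonoidHom.comp_apply]
    rw [← map_inv, mul_assoc, c3, ← mul_assoc, ← map_mul, mul_left_inj] at hg
    rw [map_mul (slDiag _ F), hg, map_inv (slDiag _ F), slDiag_toGL', inv_mul_cancel, map_one]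
  rw [GeneralLinearGroup.center_eq_range_scalar] at e1
  obtain ⟨l, hl⟩ := e1
  obtain ⟨ν, rfl⟩ := H58.exists_unit_sq l
  have ss : ∀ a, σ (σ a) = a := fun a => by
    rw [← RingAut.mul_apply, h2]; rfl
  set d := GeneralLinearGroup.det g with hd
  have e2 : ((ν : F) * ν) ^ (m + 1) = d * σ d := by
    have := congrArg (fun a => ((GeneralLinearGroup.det a : Fˣ) : F)) hl
    beta_reduce at this
    rw [GeneralLinearGroup.det_scalar, Fintype.card_fin, map_mul, map_mul, map_inv, det_toGL, inv_one,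
      one_mul, Units.val_mul, det_glField, det_glGraph, map_inv, inv_inv] at this
    exact this
  set u : Fˣ := d * (ν ^ (m + 1))⁻¹ with hu
  have e3 : (u : F) * σ u = 1 := by
    have n0 : (ν : F) ^ (m + 1) ≠ 0 := pow_ne_zero _ ν.ne_zero
    have n1 : σ (ν : F) ^ (m + 1) ≠ 0 := pow_ne_zero _ ((map_ne_zero σ).2 ν.ne_zero)
    have e4 := congrArg σ e2
    rw [map_pow, map_mul, map_mul, ss] at e4
    rw [mul_pow] at e2 e4
    refine H58.eq_one_of_mul_self ?_
    simp only [hu, Units.val_mul, Units.val_inv_eq_inv_val, Units.val_pow_eq_pow_val, map_mul, map_inv₀,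
      map_pow]
    field_simp
    linear_combination (-(d : F) * σ d) * e2 - (ν : F) ^ (m + 1) * (ν : F) ^ (m + 1) * e4
  have e5 : glField _ F σ (glGraph _ F (diagAt (0 : Fin (m + 1)) u)) = diagAt 0 u := by
    rw [← glGraph_glField]
    refine Units.ext ?_
    rw [glGraph_coe, ← transpose_transpose (diagAt 0 u).1]
    congr 1
    refine Units.inv_eq_of_mul_eq_one_left ?_
    rw [glField_coe, diagAt_coe, diagonal_transpose, diagonal_map (map_zero σ), diagonal_mul_diagonal,
      ← diagonal_one]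
    congr 1
    ext i
    by_cases hi : i = 0
    · rw [hi, Function.update_self, e3]
    · rw [Function.update_of_ne hi, Pi.one_apply, map_one, mul_one]
  obtain ⟨s, hs⟩ := inner_of_det (g := (GeneralLinearGroup.scalar _ ν)⁻¹ * g * (diagAt 0 u)⁻¹) (by
    rw [map_mul, map_mul, map_inv, map_inv, det_diagAt, GeneralLinearGroup.det_scalar, Fintype.card_fin,
      hu, ← hd, mul_comm d, mul_inv_cancel])
  have c4 := c3 (diagAt 0 u)
  rw [e5] at c4
  refine ⟨s, ?_⟩
  rw [← hg, ← hs, map_mul, map_mul, map_inv, map_inv, slDiag_scalar]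
  calc _ = slDiag _ F g * (slDiag _ F (diagAt 0 u))⁻¹ * (slDiag _ F (diagAt 0 u) * ψ) *
        (slDiag _ F g)⁻¹ := by group
    _ = _ := by rw [← c4]; group

theorem jobGF : JobGF := by
  intro m F _ _ _ _ _ h5 σ y h1 h2 h
  have hm : 2 ≤ m := by omega
  have e : slField _ F σ * gam m F = MulAut.conj (pm Fin.revPerm) * (slField _ F σ * slGraph _ F) := by
    rw [field_gam, gam, mul_assoc, slGraph_mul_slField]
  have e2 : slField _ F σ * gam m F * (slField _ F σ * gam m F) = 1 := by
    rw [mul_assoc, ← mul_assoc (gam m F), ← field_gam, mul_assoc, gam_mul_self, mul_one, ← map_mul, h2,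
      map_one]
  rw [e] at e2 h ⊢
  rw [← mul_assoc (MulAut.conj y), ← map_mul] at h ⊢
  obtain ⟨s, hs⟩ := key hm h1 h2 _ h
  obtain ⟨s', hs'⟩ := key hm h1 h2 _ e2
  exact ⟨s * s'⁻¹, by rw [hs, hs', map_mul, map_inv]; group⟩

end H99.YLGF
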