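/- Tower FS, slot HolA: the module lemma. -/
import Cfsg.Agent.H82.FSSpec

set_option autoImplicit false
set_option linter.unusedSectionVars false
set_option linter.unusedVariables false

open Subgroup H82.FS
open scoped commutatorElement

universe u

namespace H99.FSHolA

section Grp
variable {G : Type u} [Group G] [Finite G] {p r : ℕ} {A : Subgroup G}

theorem exists_k (hL : Lin p r A) (g : G) : ∃ k ∈ kl A g, k⁻¹ * g ∈ normalizer (A : Set G) := by
  haveI := Fact.mk hL.hp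
  haveI := Fact.mk hL.hr
  have hA : IsPGroup p A := IsPGroup.of_card (n := 1) (by simpa using hL.card)
  have hn : A ≤ normalizer (kl A g : Set G) :=
    (le_sup_left : A ≤ ln A g).trans (normalizer_commutator_ge_left _ _)
  have dec : ∀ l ∈ kl A g ⊔ A, ∃ k ∈ kl A g, ∃ t ∈ A, k * t = l := fun l hl => by
    have : l ∈ ((kl A g ⊔ A : Subgroup G) : Set G) := hl
    rw [coe_mul_of_right_le_normalizer_left _ _ hn] at this
    exact this
  obtain ⟨P, hP⟩ := (hA.comap_subtype (K := kl A g ⊔ A)).exists_le_sylow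
  obtain ⟨Q, hQ⟩ := ((hA.map (MulAut.conj g).toMonoidHom).comap_subtype (K := kl A g ⊔ A)).exists_le_sylow
  have PA : ∀ y ∈ (P : Subgroup ↥(kl A g ⊔ A)), y.1 ∈ A := fun y hy => by
    obtain ⟨k, hk, t, ht, e⟩ := dec y y.2
    have h1 : (⟨t, mem_sup_right ht⟩ : ↥(kl A g ⊔ A)) ∈ (P : Subgroup _) := hP ht
    have h2 : (⟨k, mem_sup_left hk⟩ : ↥(kl A g ⊔ A)) ∈ (P : Subgroup _) := by
      have := mul_mem hy (inv_mem h1)
      convert this using 1
      exact Subtype.ext (by simp [← e])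
    have d := IsPGroup.disjoint_of_ne p r hL.pr.symm _ _ P.isPGroup'
      ((hL.line g).comap_subtype (K := kl A g ⊔ A))
    have : k = 1 := congrArg Subtype.val (disjoint_def.1 d h2 hk)
    rw [← e, this, one_mul]; exact ht
  obtain ⟨l, hl⟩ := MulAction.exists_smul_eq (↥(kl A g ⊔ A)) Q P
  obtain ⟨k, hk, t, ht, e⟩ := dec _ (l⁻¹).2
  have m : l.1 * g ∈ normalizer (A : Set G) := mem_normalizer_fintype fun s hs => by
    have h1 : g * s * g⁻¹ ∈ cj g A := ⟨s, hs, rfl⟩
    have h2 : (⟨g * s * g⁻¹, hL.sub g h1⟩ : ↥(kl A g ⊔ A)) ∈ (Q : Subgroup _) := hQ h1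
    have h3 : l * ⟨g * s * g⁻¹, hL.sub g h1⟩ * l⁻¹ ∈ (P : Subgroup ↥(kl A g ⊔ A)) := by
      rw [← hl, Sylow.coe_subgroup_smul]
      exact smul_mem_pointwise_smul _ (MulAut.conj l) _ h2
    have := PA _ h3
    simpa [mul_assoc] using this
  refine ⟨k, hk, ?_⟩
  have : k⁻¹ * g = t * (l.1 * g) := by
    have e' : l.1 = (k * t)⁻¹ := by rw [e]; simp
    rw [e']; group
  rw [this]
  exact mul_mem (le_normalizer ht) m

end Grp

section Rng
variable {G : Type u} [Group G] {R : Type*} [Ring R] {f : G →* R} {A : Subgroup G} [Fintype A] {a : R} {p : ℕ}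

/-- the idempotent of a point -/
structure Idm (p : ℕ) (f : G →* R) (A : Subgroup G) [Fintype A] (a : R) : Prop where
  hp : p.Prime
  p2 : p ≠ 2
  card : Nat.card A = p
  aa : a * a = a
  nor : ∀ n ∈ normalizer (A : Set G), f n * a = a * f n
  fix : ∀ t ∈ A, f t * (1 - a) = 1 - a
  sum : (∑ t : A, f t) * a = 0
  can : ∀ N : R, (p : R) * N = 0 → N = 0

/-- the elements fixing `N` -/
def stab (f : G →* R) (N : R) : Subgroup G where
  carrier := {g | f g * N = N}
  one_mem' := by simp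
  mul_mem' := fun {x y} hx hy => by
    simp only [Set.mem_setOf_eq] at *
    rw [map_mul, mul_assoc, hy, hx]
  inv_mem' := fun {x} hx => by
    simp only [Set.mem_setOf_eq] at *
    conv_lhs => rw [← hx]
    rw [← mul_assoc, ← map_mul, inv_mul_cancel, map_one, one_mul]

theorem Idm.zero (h : Idm p f A a) {N : R} (hN : a * N = N) {t : G} (ht : t ∈ A) (t1 : t ≠ 1)
    (e : f t * N = N) : N = 0 := by
  haveI := Fact.mk h.hp
  have all : ∀ s : A, f s * N = N := fun s => by
    have : s ∈ zpowers (⟨t, ht⟩ : A) := mem_zpowers_of_prime_card h.card (by simpa using t1)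
    obtain ⟨k, rfl⟩ := this
    exact (stab f N).zpow_mem e k
  refine h.can N ?_
  have : (∑ t : A, f t) * N = 0 := by rw [← hN, ← mul_assoc, h.sum, zero_mul]
  rw [Finset.sum_mul, Finset.sum_congr rfl fun s _ => all s] at this
  simpa [← h.card] using this

theorem Idm.u_mul (h : Idm p f A a) (n : G) {m : G} (hm : m ∈ normalizer (A : Set G)) :
    f n * a * (f m * a) = f (n * m) * a := by
  rw [mul_assoc, ← mul_assoc a, ← h.nor m hm, mul_assoc, h.aa, map_mul, mul_assoc]

theorem Idm.core (h : Idm p f A a) {n : G} (hn : n ∈ normalizer (A : Set G))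
    (e : ∀ t ∈ A, (f (t * n) * a + a - f n * a) * (f (n⁻¹ * t⁻¹) * a + a - f n⁻¹ * a) = a) : f n * a = a := by
  have hn' := inv_mem hn
  have ua : ∀ m, f m * a * a = f m * a := fun m => by rw [mul_assoc, h.aa]
  have au : ∀ m ∈ normalizer (A : Set G), a * (f m * a) = f m * a := fun m hm => by
    rw [← mul_assoc, ← h.nor m hm, ua]
  have e1 : ∀ t ∈ A, f (t * n) * a + f (n⁻¹ * t⁻¹) * a + 2 * a = f t * a + f t⁻¹ * a + (f n * a + f n⁻¹ * a) := by
    intro t ht
    have h1 : n⁻¹ * t⁻¹ ∈ normalizer (A : Set G) := mul_mem hn' (le_normalizer (inv_mem ht))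
    have := e t ht
    simp only [mul_add, add_mul, mul_sub, sub_mul, h.u_mul _ h1, h.u_mul _ hn', ua, au _ h1, au _ hn', h.aa] at this
    simp only [mul_assoc, mul_inv_cancel_left, mul_inv_cancel, mul_one, map_one, one_mul] at this
    rw [two_mul]
    linear_combination (norm := noncomm_ring) this
  have s1 : ∑ t : A, f t * a = 0 := by rw [← Finset.sum_mul, h.sum]
  have s2 : ∑ t : A, f (t : G)⁻¹ * a = 0 := by
    rw [← s1]; exact Fintype.sum_equiv (Equiv.inv A) _ _ fun t => by simp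
  have s3 : ∑ t : A, f (t * n) * a = 0 := by
    simp only [map_mul, mul_assoc, h.nor n hn]
    simp only [← mul_assoc, ← Finset.sum_mul, h.sum, zero_mul]
  have s4 : ∑ t : A, f (n⁻¹ * (t : G)⁻¹) * a = 0 := by
    simp only [map_mul, mul_assoc, ← Finset.mul_sum, s2, mul_zero]
  have e2 : f n * a + f n⁻¹ * a = 2 * a := by
    have := Finset.sum_congr (s₁ := Finset.univ) rfl fun (t : A) _ => e1 t t.2
    simp only [Finset.sum_add_distrib, s1, s2, s3, s4, zero_add, Finset.sum_const, Finset.card_univ,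
      ← Nat.card_eq_fintype_card, h.card, nsmul_eq_mul] at this
    refine sub_eq_zero.1 (h.can _ ?_)
    rw [mul_sub, mul_add, this, sub_self]
  obtain ⟨N, hN⟩ : ∃ N, N = a - f n * a := ⟨_, rfl⟩
  have u1 : f n * a = a - N := by rw [hN]; abel
  have u2 : f n⁻¹ * a = a + N := by rw [hN]; linear_combination (norm := noncomm_ring) e2
  have aN : a * N = N := by rw [hN, mul_sub, h.aa, au n hn]
  have Na : N * a = N := by rw [hN, sub_mul, h.aa, ua]
  have NN : N * N = 0 := by
    have := h.u_mul n hn'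
    rw [u1, u2, mul_inv_cancel, map_one, one_mul, sub_mul, mul_add, mul_add, h.aa, aN, Na] at this
    linear_combination (norm := noncomm_ring) -this
  haveI := Fact.mk h.hp
  haveI : Nontrivial A := Finite.one_lt_card_iff_nontrivial.1 (h.card ▸ h.hp.one_lt)
  obtain ⟨⟨t, ht⟩, t1⟩ := exists_ne (1 : A)
  have t1' : t ≠ 1 := by simpa using t1
  have ht' : t⁻¹ ∈ normalizer (A : Set G) := le_normalizer (inv_mem ht)
  have c1 : N * f t⁻¹ = f t * N := by
    have := e1 t ht
    rw [e2, map_mul, map_mul, mul_assoc, mul_assoc, u1, h.nor _ ht', ← mul_assoc, u2, mul_sub, add_mul] at this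
    linear_combination (norm := noncomm_ring) this
  have hs : n * t⁻¹ * n⁻¹ ∈ A := (mem_normalizer_iff.1 hn _).1 (inv_mem ht)
  have c2 : f t⁻¹ * a - f t * N = f (n * t⁻¹ * n⁻¹) * a - f (n * t⁻¹ * n⁻¹) * N := by
    rw [← mul_sub, ← u1, ← mul_assoc, ← map_mul, inv_mul_cancel_right, map_mul, mul_assoc, h.nor _ ht',
      ← mul_assoc, u1, sub_mul, c1]
  have c3 : f t⁻¹ * N = f (n * t⁻¹ * n⁻¹) * N := by
    have := congrArg (· * N) c2
    simpa only [sub_mul, mul_assoc, aN, NN, mul_zero, sub_zero] using this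
  have N0 : N = 0 := by
    by_cases k : t * (n * t⁻¹ * n⁻¹) = 1
    · rw [eq_inv_of_mul_eq_one_right k] at c2
      refine h.zero aN (mul_mem ht ht) (fun e => ?_) ?_
      · have : orderOf (⟨t, ht⟩ : A) = p := orderOf_eq_prime (by rw [← h.card]; exact pow_card_eq_one') t1
        have d : orderOf (⟨t, ht⟩ : A) ∣ 2 := orderOf_dvd_of_pow_eq_one (Subtype.ext (by simpa [sq] using e))
        rw [this] at d
        exact h.p2 ((Nat.prime_dvd_prime_iff_eq h.hp Nat.prime_two).1 d)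
      · rw [map_mul, mul_assoc, sub_right_injective c2, ← mul_assoc, ← map_mul, mul_inv_cancel, map_one, one_mul]
    · refine h.zero aN (mul_mem ht hs) k ?_
      rw [map_mul, mul_assoc, ← c3, ← mul_assoc, ← map_mul, mul_inv_cancel, map_one, one_mul]
  rw [u1, N0, sub_zero]

/-- kernel elements -/
def Kn (f : G →* R) (a : R) (k : G) : Prop := a * f k * a = a ∧ a * f k⁻¹ * a = a

theorem Idm.uu (h : Idm p f A a) (dec : ∀ g, ∃ k, Kn f a k ∧ k⁻¹ * g ∈ normalizer (A : Set G)) (m : G) :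
    ∃ n ∈ normalizer (A : Set G), a * f m * a = f n * a ∧ a * f m⁻¹ * a = f n⁻¹ * a := by
  obtain ⟨j, hj, hn⟩ := dec m
  refine ⟨_, hn, ?_, ?_⟩
  · calc a * f m * a = a * f j * (f (j⁻¹ * m) * a) := by
          rw [mul_assoc a (f j), ← mul_assoc (f j), ← map_mul, mul_inv_cancel_left, mul_assoc]
      _ = _ := by rw [h.nor _ hn, ← mul_assoc, hj.1]
  · calc a * f m⁻¹ * a = a * f (j⁻¹ * m)⁻¹ * f j⁻¹ * a := by
          rw [mul_assoc a (f _) (f _), ← map_mul]; congr 3; group
      _ = _ := by rw [← h.nor _ (inv_mem hn), mul_assoc, mul_assoc, ← mul_assoc a, hj.2]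

theorem Idm.hol (h : Idm p f A a) (dec : ∀ g, ∃ k, Kn f a k ∧ k⁻¹ * g ∈ normalizer (A : Set G)) {k l : G}
    (hk : Kn f a k) (hl : Kn f a l) : a * f (k⁻¹ * l) * a = a := by
  obtain ⟨n, hn, e1, e2⟩ := h.uu dec (k⁻¹ * l)
  rw [e1]
  refine h.core hn fun t ht => ?_
  have sp : ∀ s ∈ A, f s = a * f s + 1 - a := fun s hs => by
    have := h.fix s hs
    rw [mul_sub, mul_one, h.nor s (le_normalizer hs)] at this
    linear_combination (norm := noncomm_ring) this
  obtain ⟨n', hn', e3, e4⟩ := h.uu dec (k * t * k⁻¹ * l)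
  have x1 : a * f (k * t * k⁻¹ * l) * a = f (t * n) * a + a - f n * a := by
    have : a * f (k * t * k⁻¹ * l) * a = a * f k * a * f t * f (k⁻¹ * l) * a + a * (f k * f (k⁻¹ * l)) * a -
        a * f k * a * f (k⁻¹ * l) * a := by
      rw [mul_assoc (k * t), map_mul, map_mul]
      conv_lhs => rw [sp t ht]
      noncomm_ring
    rw [this, hk.1, ← map_mul, mul_inv_cancel_left, hl.1, e1, ← h.nor t (le_normalizer ht), map_mul f t n,
      mul_assoc (f t) (f n), ← e1]
    simp only [mul_assoc]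
  have x2 : a * f (k * t * k⁻¹ * l)⁻¹ * a = f (n⁻¹ * t⁻¹) * a + a - f n⁻¹ * a := by
    have ht' := inv_mem ht
    have : a * f (k * t * k⁻¹ * l)⁻¹ * a = a * f (k⁻¹ * l)⁻¹ * (f t⁻¹ * (a * f k⁻¹ * a)) +
        a * (f (k⁻¹ * l)⁻¹ * f k⁻¹) * a - a * f (k⁻¹ * l)⁻¹ * (a * f k⁻¹ * a) := by
      rw [show (k * t * k⁻¹ * l)⁻¹ = (k⁻¹ * l)⁻¹ * t⁻¹ * k⁻¹ by group, map_mul, map_mul]
      conv_lhs => rw [sp _ ht', ← h.nor _ (le_normalizer ht')]
      noncomm_ring
    rw [this, hk.2, ← map_mul, show (k⁻¹ * l)⁻¹ * k⁻¹ = l⁻¹ by group, hl.2, e2, h.nor _ (le_normalizer ht'),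
      ← mul_assoc, e2, map_mul, mul_assoc, mul_assoc, h.nor _ (le_normalizer ht')]
  rw [← x1, ← x2, e3, e4, h.u_mul _ (inv_mem hn'), mul_inv_cancel, map_one, one_mul]

theorem Idm.inv (h : Idm p f A a) (dec : ∀ g, ∃ k, Kn f a k ∧ k⁻¹ * g ∈ normalizer (A : Set G))
    (gen : normalClosure (A : Set G) = ⊤) {k : G} (hk : Kn f a k) (g : G) :
    f g * (a - f k * a) = a - f k * a := by
  have key : ∀ c : G, a * (f c⁻¹ * (a - f k * a)) = 0 := fun c => by
    obtain ⟨l, hl, hn⟩ := dec c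
    have : f c⁻¹ = f (l⁻¹ * c)⁻¹ * f l⁻¹ := by rw [← map_mul]; congr 1; group
    rw [this, ← mul_assoc, ← mul_assoc, ← h.nor _ (inv_mem hn), mul_assoc, mul_assoc, mul_sub, mul_sub,
      ← mul_assoc a, hl.2, ← mul_assoc (f l⁻¹), ← map_mul, ← mul_assoc a, h.hol dec hl hk, sub_self, mul_zero]
  have : normalClosure (A : Set G) ≤ stab f (a - f k * a) := by
    refine (closure_le _).2 fun y hy => ?_
    obtain ⟨t, ht, hc⟩ := Group.mem_conjugatesOfSet_iff.1 hy
    obtain ⟨c, rfl⟩ := isConj_iff.1 hc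
    have e : (1 - a) * (f c⁻¹ * (a - f k * a)) = f c⁻¹ * (a - f k * a) := by rw [sub_mul, key, one_mul, sub_zero]
    show f (c * t * c⁻¹) * _ = _
    rw [map_mul, map_mul, mul_assoc, mul_assoc, ← e, ← mul_assoc (f t), h.fix t ht, e, ← mul_assoc, ← map_mul,
      mul_inv_cancel, map_one, one_mul]
  exact this (gen ▸ mem_top g)

end Rng

theorem jobHolA : JobHolA.{u} := by
  intro G _ _ p r A hL V _ _ ρ irr hyp
  classical
  haveI := Fact.mk hL.hp
  haveI := Fact.mk hL.hr
  haveI : Fintype A := Fintype.ofFinite A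
  have p0 : (p : ZMod r) ≠ 0 := fun e =>
    hL.pr ((Nat.prime_dvd_prime_iff_eq hL.hr hL.hp).1 ((ZMod.natCast_eq_zero_iff p r).1 e))
  have cA : Fintype.card A = p := by rw [← Nat.card_eq_fintype_card, hL.card]
  obtain ⟨S, hS⟩ : ∃ S, S = ∑ t : A, ρ t := ⟨_, rfl⟩
  obtain ⟨a, ha⟩ : ∃ a, a = 1 - (p : ZMod r)⁻¹ • S := ⟨_, rfl⟩
  have tS : ∀ t ∈ A, ρ t * S = S := fun t ht => by
    rw [hS, Finset.mul_sum]
    exact Fintype.sum_equiv (Equiv.mulLeft ⟨t, ht⟩) _ _ fun s => by simp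
  have SS : S * S = (p : ZMod r) • S := by
    conv_lhs => lhs; rw [hS]
    rw [Finset.sum_mul, Finset.sum_congr rfl fun (s : A) _ => tS s s.2]
    simp [cA, Nat.cast_smul_eq_nsmul]
  have Sa : S * a = 0 := by rw [ha, mul_sub, mul_smul_comm, SS, smul_smul, inv_mul_cancel₀ p0]; simp
  have h : Idm p ρ A a := by
    refine ⟨hL.hp, hL.p2, hL.card, ?_, fun n hn => ?_, fun t ht => ?_, hS ▸ Sa, fun N e => ?_⟩
    · conv_lhs => lhs; rw [ha]
      rw [sub_mul, smul_mul_assoc, Sa]; simp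
    · have : ρ n * S = S * ρ n := by
        rw [hS, Finset.mul_sum, Finset.sum_mul]
        exact Fintype.sum_equiv (A.normalizerMonoidHom ⟨n, hn⟩).toEquiv _ _ fun s => by
          rw [← map_mul, ← map_mul]; congr 1
          show n * s = n * s * n⁻¹ * n
          group
      rw [ha, mul_sub, sub_mul, mul_smul_comm, smul_mul_assoc, this]; simp
    · rw [ha, sub_sub_cancel, mul_smul_comm, tS t ht]
    · have : (p : ZMod r) • N = 0 := by rw [← e, Nat.cast_smul_eq_nsmul, nsmul_eq_mul]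
      exact (smul_eq_zero.1 this).resolve_left p0
  have ea : a = (p : ZMod r)⁻¹ • ∑ t : A, (1 - ρ t) := by
    rw [Finset.sum_sub_distrib, ← hS, ha, smul_sub]
    simp [cA, ← Nat.cast_smul_eq_nsmul (ZMod r), smul_smul, inv_mul_cancel₀ p0]
  have kn : ∀ g, ∀ k ∈ kl A g, a * ρ k * a = a := fun g k hk => by
    have z : ∀ s t : A, (1 - ρ s) * ((ρ k - 1) * (1 - ρ t)) = 0 := fun s t => by
      ext w
      have := hyp g k hk t t.2 s s.2 w
      simp only [Module.End.mul_apply, LinearMap.sub_apply, Module.End.one_apply, map_sub,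
        LinearMap.zero_apply] at this ⊢
      linear_combination (norm := abel1) this
    have : a * ((ρ k - 1) * a) = 0 := by
      rw [ea, mul_smul_comm, mul_smul_comm, smul_mul_assoc, Finset.mul_sum, Finset.sum_mul]
      simp only [Finset.mul_sum, z, Finset.sum_const_zero, smul_zero]
    rw [sub_mul, mul_sub, one_mul, h.aa, ← mul_assoc] at this
    exact sub_eq_zero.1 this
  have dec : ∀ g, ∃ k, Kn ρ a k ∧ k⁻¹ * g ∈ normalizer (A : Set G) := fun g =>
    let ⟨k, hk, e⟩ := exists_k hL g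
    ⟨k, ⟨kn g k hk, kn g _ (inv_mem hk)⟩, e⟩
  rcases irr ρ.invariants (fun g w hw => by rwa [hw g]) with b | b
  swap
  · exact fun g _ => LinearMap.ext fun w => (b ▸ Submodule.mem_top : w ∈ ρ.invariants) g
  have ka : ∀ k, Kn ρ a k → ρ k * a = a := fun k hk => by
    refine (sub_eq_zero.1 (LinearMap.ext fun w => ?_)).symm
    have : (a - ρ k * a) w ∈ ρ.invariants := fun g => LinearMap.congr_fun (h.inv dec hL.gen hk g) w
    rwa [b] at this
  rcases irr (LinearMap.range a) (by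
    rintro g _ ⟨w, rfl⟩
    obtain ⟨k, hk, hn⟩ := dec g
    have : ρ g * a = a * ρ (k⁻¹ * g) := by
      rw [← ka k hk, mul_assoc, ka k hk, ← h.nor _ hn, ← mul_assoc, ← map_mul, mul_inv_cancel_left]
    exact ⟨_, (LinearMap.congr_fun this w).symm⟩) with c | c
  · have a0 : a = 0 := LinearMap.range_eq_bot.1 c
    have : normalClosure (A : Set G) ≤ ρ.ker := normalClosure_le_normal fun t ht => by
      simpa [a0] using h.fix t ht
    exact fun g _ => this (hL.gen ▸ mem_top g)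
  have a1 : a = 1 := LinearMap.ext fun w => by
    obtain ⟨v, rfl⟩ := LinearMap.range_eq_top.1 c w
    exact LinearMap.congr_fun h.aa v
  have top : normalClosure (A : Set G) ≤ ρ.ker ⊔ A := by
    refine (closure_le _).2 fun y hy => ?_
    obtain ⟨t, ht, hc⟩ := Group.mem_conjugatesOfSet_iff.1 hy
    obtain ⟨g, rfl⟩ := isConj_iff.1 hc
    obtain ⟨k, hk, hn⟩ := dec g
    have k1 : k ∈ ρ.ker := by simpa [a1] using ka k hk
    have := mul_mem (mul_mem (mem_sup_left k1 : k ∈ ρ.ker ⊔ A)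
      (mem_sup_right ((mem_normalizer_iff.1 hn t).1 ht))) (mem_sup_left (inv_mem k1))
    rwa [show k * (k⁻¹ * g * t * (k⁻¹ * g)⁻¹) * k⁻¹ = g * t * g⁻¹ by group] at this
  have all : ∀ g, ∃ t ∈ A, ρ g = ρ t := fun g => by
    obtain ⟨k, hk, t, ht, rfl⟩ := mem_sup_of_normal_left.1 (top (hL.gen ▸ mem_top g))
    exact ⟨t, ht, by rw [map_mul, MonoidHom.mem_ker.1 hk, one_mul]⟩
  haveI : IsCyclic A := isCyclic_of_prime_card hL.card
  have : commutator G ≤ ρ.ker := commutator_le.2 fun x _ y _ => by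
    obtain ⟨s, hs, e⟩ := all x
    obtain ⟨t, ht, e'⟩ := all y
    have c : s * t = t * s := congrArg Subtype.val (mul_comm' (⟨s, hs⟩ : A) ⟨t, ht⟩)
    have : ρ (x * y) = ρ (y * x) := by rw [map_mul, map_mul, e, e', ← map_mul, c, map_mul]
    rw [MonoidHom.mem_ker, commutatorElement_def, mul_assoc, map_mul, this, ← map_mul]
    simp
  exact fun g hg => this hg

end H99.FSHolA
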