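import Cfsg.Agent.H14.FESpec

/-! # S1308, tower FE, job Cnt2: counting squares in a commuting family -/

set_option autoImplicit false

namespace H99.FECnt2

open Cfsg Subgroup MulAction H14 H98 H1.Gold H31.S2 H14.GC H14.FE

universe u

theorem sq_lt (j : ℕ) : (j + 5) ^ 2 < 4 ^ (j + 3) := by
  induction j with
  | zero => norm_num
  | succ j ih =>
    have : 4 ^ (j + 1 + 3) = 4 * 4 ^ (j + 3) := by ring
    nlinarith

theorem arith {m k n a : ℕ} (hm : 2 ≤ m) (hk : 1 ≤ k) (hq : m * k + 1 = 2 ^ n) (h4 : 3 ≤ 2 ^ a)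
    (hkt : k + 1 ≤ 2 ^ a) (hb : (2 ^ a) ^ m ≤ (2 ^ n) ^ 2) : False := by
  have ha : 2 ≤ a := by
    by_contra h
    have : a = 0 ∨ a = 1 := by omega
    rcases this with rfl | rfl <;> norm_num at h4
  have ht : 4 ≤ 2 ^ a := Nat.pow_le_pow_right (n := 2) (by norm_num) ha
  have hn : n ≠ 0 := by
    rintro rfl
    have : 2 ≤ m * k := by nlinarith
    omega
  have hev : 2 ∣ m * k + 1 := hq ▸ dvd_pow_self 2 hn
  have hmo : ¬ 2 ∣ m := fun h => by
    have := h.mul_right k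
    omega
  set t := 2 ^ a with htd
  have hqt : 2 ^ n ≤ m * t := by nlinarith
  have h1 : t ^ m ≤ (m * t) ^ 2 := hb.trans (Nat.pow_le_pow_left hqt 2)
  rcases (by omega : m = 3 ∨ 5 ≤ m) with rfl | h5
  · have h9 : t ≤ 9 := by
      by_contra h
      have : 10 ≤ t := by omega
      nlinarith [Nat.mul_le_mul this (le_refl (t * t)), Nat.mul_le_mul this this]
    have ha3 : a ≤ 3 := by
      by_contra h
      have : 2 ^ 4 ≤ 2 ^ a := Nat.pow_le_pow_right (by norm_num) (by omega)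
      omega
    have hn4 : n ≤ 4 := by
      by_contra h
      have : 2 ^ 5 ≤ 2 ^ n := Nat.pow_le_pow_right (by norm_num) (by omega)
      omega
    have : a = 2 ∨ a = 3 := by omega
    have ht' : t = 4 ∨ t = 8 := by rcases this with rfl | rfl <;> simp [htd]
    clear_value t
    rcases ht' with rfl | rfl <;> interval_cases n <;> omega
  · obtain ⟨j, rfl⟩ : ∃ j, m = j + 5 := ⟨m - 5, by omega⟩
    have h2 : t ^ (j + 3) * t ^ 2 ≤ (j + 5) ^ 2 * t ^ 2 := by
      calc t ^ (j + 3) * t ^ 2 = t ^ (j + 5) := by ring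
        _ ≤ _ := h1
        _ = _ := by ring
    have h3 := Nat.le_of_mul_le_mul_right h2 (by positivity)
    have h6 := Nat.pow_le_pow_left ht (j + 3)
    have := sq_lt j
    omega

variable {X : Type u} [Group X]

/-- the nontrivial squares of `U` -/
def Sq (U : Subgroup X) : Set X := {s | s ≠ 1 ∧ ∃ x ∈ U, x * x = s}

theorem Sq_cj (g : X) (U : Subgroup X) : Sq (cj g U) = MulAut.conj g '' Sq U := by
  ext s
  constructor
  · rintro ⟨h1, x, hx, rfl⟩
    refine ⟨g⁻¹ * (x * x) * g, ⟨fun e => h1 ?_, _, mem_cj.1 hx, by group⟩, by simp [mul_assoc]⟩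
    calc x * x = g * (g⁻¹ * (x * x) * g) * g⁻¹ := by group
      _ = 1 := by rw [e]; group
  · rintro ⟨_, ⟨h1, x, hx, rfl⟩, rfl⟩
    refine ⟨fun e => h1 ((MulAut.conj g).injective (e.trans (map_one _).symm)), _,
      conj_mem_cj (g := g) hx, by simp [mul_assoc]⟩

variable {P : Subgroup X} {N : Set (Subgroup X)}

theorem sq_ne (f : Fam P N) {U : Subgroup X} (hU : U ∈ N) : ∃ x ∈ U, x * x ≠ 1 := by
  by_contra h
  push Not at h
  exact f.ne U hU h

theorem disj (f : Fam P N) {U U' : Subgroup X} (hU : U ∈ N) (hU' : U' ∈ N) {s : X}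
    (h : s ∈ Sq U) (h' : s ∈ Sq U') : U = U' := by
  by_contra hne
  obtain ⟨h1, x, hx, rfl⟩ := h
  obtain ⟨-, y, hy, e⟩ := h'
  have c := f.comm U hU U' hU' hne
  have c1 := c x hx y⁻¹ (inv_mem hy)
  have h2 : x * y⁻¹ * (x * y⁻¹) = 1 := by
    calc x * y⁻¹ * (x * y⁻¹) = x * (y⁻¹ * x) * y⁻¹ := by group
      _ = x * x * (y * y)⁻¹ := by rw [← c1]; group
      _ = 1 := by rw [e]; group
  have h3 := (f.om _ (mul_mem (f.le U hU hx) (inv_mem (f.le U' hU' hy)))).1 h2
  refine h1 (f.zl U hU x hx (mem_centralizer_iff.2 fun a ha => ?_))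
  have h4 := mem_centralizer_iff.1 h3 a (f.le U hU ha)
  calc a * x = a * (x * y⁻¹) * y := by group
    _ = x * y⁻¹ * (a * y) := by rw [h4]; group
    _ = x * a := by rw [c a ha y hy]; group

theorem three_le [Finite X] (f : Fam P N) {U : Subgroup X} (hU : U ∈ N) :
    3 ≤ (cen P).relIndex U := by
  obtain ⟨x, hx, h1⟩ := sq_ne f hU
  have hxc : x ∉ cen P := fun h => h1 ((f.om x (f.le U hU hx)).2 h)
  have h0 : (cen P).relIndex U ≠ 0 := FiniteIndex.index_ne_zero
  have h2 : (cen P).relIndex U ≠ 1 := fun h => hxc (relIndex_eq_one.1 h hx)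
  have h3 : (cen P).relIndex U ≠ 2 := by
    intro h
    refine h1 (f.zl U hU x hx (mem_centralizer_iff.2 fun a ha => ?_))
    by_cases hc : a ∈ cen P
    · exact (mem_centralizer_iff.1 hc x (f.le U hU hx)).symm
    · have h4 : (⟨a, ha⟩ * ⟨x, hx⟩ : U) ∈ (cen P).subgroupOf U :=
        (mul_mem_iff_of_index_two h).2 (iff_of_false hc hxc)
      have h5 := mem_centralizer_iff.1 (mem_subgroupOf.1 h4) x (f.le U hU hx)
      have h6 : x * a * x = a * x * x := by rw [mul_assoc]; exact h5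
      exact (mul_right_cancel h6).symm
  omega

theorem ncard_Sq [Finite X] (f : Fam P N) {U : Subgroup X} (hU : U ∈ N) :
    (Sq U).ncard + 1 ≤ (cen P).relIndex U := by
  let F : U ⧸ (cen P).subgroupOf U → X := fun c => (c.out : U) * (c.out : U)
  have key : ∀ x ∈ U, x * x ∈ Set.range F := by
    intro x hx
    obtain ⟨h, e⟩ := QuotientGroup.mk_out_eq_mul ((cen P).subgroupOf U) (⟨x, hx⟩ : U)
    refine ⟨QuotientGroup.mk ⟨x, hx⟩, ?_⟩
    have hc : ((h : U) : X) ∈ cen P := mem_subgroupOf.1 h.2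
    have h1 := (f.om _ (f.le U hU (h : U).2)).2 hc
    have h2 := mem_centralizer_iff.1 hc x (f.le U hU hx)
    change ((_ : U) : X) * ((_ : U) : X) = _
    rw [e]
    change x * ((h : U) : X) * (x * ((h : U) : X)) = _
    calc x * ((h : U) : X) * (x * ((h : U) : X)) = x * (((h : U) : X) * x) * ((h : U) : X) := by group
      _ = x * x * (((h : U) : X) * ((h : U) : X)) := by rw [← h2]; group
      _ = _ := by rw [h1, mul_one]
  have sub : insert 1 (Sq U) ⊆ Set.range F := by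
    rintro s (rfl | ⟨-, x, hx, rfl⟩)
    · simpa using key 1 (one_mem U)
    · exact key x hx
  have h1 := Set.ncard_le_ncard sub (Set.toFinite _)
  rw [Set.ncard_insert_of_notMem (fun h => h.1 rfl) (Set.toFinite _)] at h1
  refine h1.trans ?_
  rw [← Set.image_univ]
  refine (Set.ncard_image_le (Set.toFinite _)).trans ?_
  rw [Set.ncard_univ]
  rfl

theorem jobCnt2 : JobCnt2.{u} := by
  intro c1 X _ _ M P N f hM hN htr hb U₀ h0 U₁ h1
  by_contra hne
  classical
  have sub : ∀ U ∈ N, ∀ s ∈ Sq U, s ∈ P ∧ H14.GC.Inv s := by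
    rintro U hU _ ⟨s1, x, hx, rfl⟩
    have hx' := f.le U hU hx
    exact ⟨mul_mem hx' hx', s1, (f.om _ (mul_mem hx' hx')).2 (f.sq x hx')⟩
  obtain ⟨x₀, hx₀, s₀⟩ := sq_ne f h0
  have hs₀ : x₀ * x₀ ∈ Sq U₀ := ⟨s₀, x₀, hx₀, rfl⟩
  have cov : ∀ s ∈ P, H14.GC.Inv s → ∃ m ∈ M, s ∈ Sq (cj m U₀) := by
    intro s hs i
    obtain ⟨m, hm, e⟩ := htr _ (sub _ h0 _ hs₀).1 s hs (sub _ h0 _ hs₀).2 i
    exact ⟨m, hm, by rw [Sq_cj]; exact ⟨_, hs₀, e⟩⟩
  have cjU : ∀ U ∈ N, ∃ m ∈ M, U = cj m U₀ := by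
    intro U hU
    obtain ⟨x, hx, s1⟩ := sq_ne f hU
    have hs : x * x ∈ Sq U := ⟨s1, x, hx, rfl⟩
    obtain ⟨m, hm, e⟩ := cov _ (sub _ hU _ hs).1 (sub _ hU _ hs).2
    exact ⟨m, hm, disj f hU (hN m hm _ h0) hs e⟩
  have hk : ∀ U ∈ N, (Sq U).ncard = (Sq U₀).ncard := by
    intro U hU
    obtain ⟨m, -, rfl⟩ := cjU U hU
    rw [Sq_cj, Set.ncard_image_of_injective _ (MulAut.conj m).injective]
  have ht : ∀ U ∈ N, (cen P).relIndex U₀ ≤ (cen P).relIndex U := by
    intro U hU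
    obtain ⟨m, hm, rfl⟩ := cjU U hU
    have e : cj m (cen P) = cen P := by rw [cj_centralizer, cj_eq_self (hM hm)]
    have := relIndex_map_map_of_injective (f := (MulAut.conj m).toMonoidHom) (cen P) U₀
      (MulAut.conj m).injective
    rw [← this]
    exact (congrArg (fun Y => relIndex Y (cj m U₀)) e).le
  have hc := (c1 X P N f _ ht).trans hb
  obtain ⟨n, hn⟩ := (f.two.to_le (inf_le_left : P ⊓ cen P ≤ P)).exists_card_eq
  obtain ⟨b, hb'⟩ := (f.two.to_le (f.le U₀ h0)).exists_card_eq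
  obtain ⟨a, -, ha⟩ := (Nat.dvd_prime_pow Nat.prime_two).1 (hb' ▸ relIndex_dvd_card (cen P) U₀)
  have hfin : N.Finite := Set.toFinite N
  have cnt : N.ncard * (Sq U₀).ncard + 1 = 2 ^ n := by
    have e1 := Finset.card_biUnion (s := hfin.toFinset) (t := fun U => (Sq U).toFinite.toFinset) (by
      intro U hU U' hU' hUU
      rw [Function.onFun, Finset.disjoint_left]
      intro s hs hs'
      exact hUU (disj f (by simpa using hU) (by simpa using hU') (by simpa using hs)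
        (by simpa using hs')))
    rw [Finset.sum_congr rfl (g := fun _ => (Sq U₀).ncard) (fun U hU => by
      rw [← hk U (by simpa using hU), Set.ncard_eq_toFinset_card _ (Sq U).toFinite]),
      Finset.sum_const, smul_eq_mul, ← Set.ncard_eq_toFinset_card _ hfin] at e1
    have e2 : ((P ⊓ cen P : Subgroup X) : Set X) =
        insert 1 ((hfin.toFinset.biUnion fun U => (Sq U).toFinite.toFinset : Finset X) : Set X) := by
      ext s
      simp only [Set.mem_insert_iff, Finset.mem_coe, Finset.mem_biUnion, Set.Finite.mem_toFinset,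
        SetLike.mem_coe, mem_inf]
      constructor
      · rintro ⟨hs, hc⟩
        by_cases s1 : s = 1
        · exact Or.inl s1
        · obtain ⟨m, hm, e⟩ := cov s hs ⟨s1, (f.om s hs).2 hc⟩
          exact Or.inr ⟨_, hN m hm _ h0, e⟩
      · rintro (rfl | ⟨U, hU, hs⟩)
        · exact ⟨one_mem _, one_mem _⟩
        · exact ⟨(sub U hU s hs).1, (f.om s (sub U hU s hs).1).1 (sub U hU s hs).2.2⟩
    have e3 := congrArg Set.ncard e2
    rw [Set.ncard_insert_of_notMem (by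
      simp only [Finset.mem_coe, Finset.mem_biUnion, Set.Finite.mem_toFinset]
      rintro ⟨U, -, hs⟩
      exact hs.1 rfl) (Set.toFinite _), Set.ncard_coe_finset, e1] at e3
    rw [← e3, ← hn]
    exact (Nat.card_coe_set_eq _).symm
  have m2 : 2 ≤ N.ncard := (Set.one_lt_ncard hfin).2 ⟨U₀, h0, U₁, h1, hne⟩
  have k1 : 1 ≤ (Sq U₀).ncard := (Set.ncard_pos (Set.toFinite _)).2 ⟨_, hs₀⟩
  refine arith m2 k1 cnt (ha ▸ three_le f h0) (ha ▸ ncard_Sq f h0) ?_
  rw [hn, ha, pow_succ (2 ^ n) 2] at hc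
  exact Nat.le_of_mul_le_mul_right hc (by positivity)

end H99.FECnt2
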