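import Cfsg.Agent.H14.FEKit

/-! # S1308, tower FE, job DirE -/

set_option autoImplicit false

namespace H99.FEDirE

open Cfsg Subgroup MulAction H14 H98 H1.Gold H31.S2 H14.GC H14.FE
open scoped commutatorElement

universe u

/-- the elements that normalise `B` and centralise it modulo `O` -/
def Cz {G : Type u} [Group G] (B O : Subgroup G) (h : nor B ≤ nor O) : Subgroup G where
  carrier := {g | g ∈ nor B ∧ ∀ x ∈ B, ⁅x, g⁆ ∈ O}
  one_mem' := ⟨one_mem _, fun x _ => by simp⟩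
  mul_mem' := by
    rintro a b ⟨ha, h1⟩ ⟨hb, h2⟩
    refine ⟨mul_mem ha hb, fun x hx => ?_⟩
    have e : ⁅x, a * b⁆ = ⁅x, a⁆ * (a * ⁅x, b⁆ * a⁻¹) := by
      simp only [commutatorElement_def]; group
    rw [e]
    exact mul_mem (h1 x hx) (conj_mem_of_mem_normalizer (h ha) (h2 x hx))
  inv_mem' := by
    rintro a ⟨ha, h1⟩
    refine ⟨inv_mem ha, fun x hx => ?_⟩
    have e : ⁅x, a⁻¹⁆ = a⁻¹ * ⁅x, a⁆⁻¹ * a⁻¹⁻¹ := by
      simp only [commutatorElement_def]; group
    rw [e]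
    exact conj_mem_of_mem_normalizer (inv_mem (h ha)) (inv_mem (h1 x hx))

theorem jobDirE : JobDirE.{u} := by
  intro G _ _ A h hz C hC B hB d hd d2
  have hn : nor B ≤ nor (opp 2 B) := normalizer_le_normalizer_opp B
  have hl : sSup (C \ {B}) ≤ Cz B (opp 2 B) hn := by
    refine sSup_le fun B' hB' g hg => ⟨hC.2 B' hB'.1 B hB hg, fun x hx => ?_⟩
    have hne : B ≠ B' := fun e => hB'.2 e.symm
    have v := hC.1 B hB
    have v' := hC.1 B' hB'.1
    have a := hC.2 B hB B' hB'.1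
    exact h.inf_le_opp v v' hne a (h.comm_mem v v' a hx hg)
  obtain ⟨x, hx, e⟩ := hz B (hC.1 B hB) d hd.1 d2
  exact e ((hl hd.2).2 x hx)

end H99.FEDirE
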