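import Cfsg.Agent.H99.BA2
import Cfsg.Agent.H34.BS
import Cfsg.Agent.H42.OddOrder
import Cfsg.Agent.H2.MinNormal
import Cfsg.Agent.H2.PrimeCore
import Cfsg.Agent.H84.Isolated

/-! Binary affine actions: characteristic two. -/

set_option autoImplicit false

namespace H99.BA

open Cfsg

variable {H V : Type*} [Group H] [AddCommGroup V] [DistribMulAction H V]

theorem W_inv {h : H} {d : V} (hd : d ∈ W V h⁻¹) : d ∈ W V h := by
  obtain ⟨x, rfl⟩ := hd
  exact ⟨-(h⁻¹ • x), by rw [smul_neg, smul_inv_smul]; abel⟩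

theorem W_mul {s t : H} {d : V} (hd : d ∈ W V (s * t)) : ∃ a ∈ W V s, ∃ b ∈ W V t, d = a + b := by
  obtain ⟨x, rfl⟩ := hd
  exact ⟨_, sub_mem_W s (t • x), _, sub_mem_W t x, by rw [mul_smul]; abel⟩

theorem fix2 (h2 : ∀ v : V, -v = v) (D : AddSubgroup V) : ∀ (n : ℕ) (g : H) (y : V), y ∉ D →
    g ^ 2 ^ n • y - y ∈ D → ∃ y', y' ∉ D ∧ g • y' - y' ∈ D := by
  intro n
  induction n with
  | zero => intro g y hy h; exact ⟨y, hy, by simpa using h⟩
  | succ n ih =>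
    intro g y hy h
    obtain ⟨z, hz, h'⟩ := ih (g ^ 2) y hy (by rwa [← pow_mul, ← pow_succ'])
    by_cases h3 : g • z - z ∈ D
    · exact ⟨z, hz, h3⟩
    · refine ⟨_, h3, ?_⟩
      convert h' using 1
      rw [smul_sub, ← mul_smul, ← sq]
      linear_combination (norm := abel) h2 (g • z) - h2 z

theorem odd_disj (h2 : ∀ v : V, -v = v) {a : H} (ha : Odd (orderOf a)) :
    ∀ v ∈ W V a, a • v = v → v = 0 := by
  rintro v ⟨x, e⟩ hv
  have k : ∀ n : ℕ, a ^ n • v = v ∧ a ^ n • x = x - n • v := fun n => by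
    induction n with
    | zero => simp
    | succ n ih =>
      refine ⟨by rw [pow_succ, mul_smul, hv, ih.1], ?_⟩
      rw [pow_succ, mul_smul, show a • x = x - v by rw [← e]; abel, smul_sub, ih.1, ih.2, succ_nsmul]
      abel
  have h1 := (k (orderOf a)).2
  rw [pow_orderOf_eq_one, one_smul] at h1
  obtain ⟨j, hj⟩ := ha
  rw [hj, add_nsmul, one_nsmul, mul_nsmul, two_nsmul, show v + v = 0 by
    linear_combination (norm := abel) -h2 v, nsmul_zero, zero_add] at h1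
  linear_combination (norm := abel) h1

namespace Bin

variable (B : Bin H V) (h2 : ∀ v : V, -v = v)
include B h2

theorem WC {t : H} (ht : Refl V t) {d : V} (hd : d ∈ W V t) : t • d = d := by
  rw [neg_of_W (B.R2 ht) hd, h2]

theorem fixW {t h : H} (ht : Refl V t) (e : h * t * h⁻¹ = t) {d : V} (hd : d ∈ W V t) : h • d = d := by
  by_cases h0 : d = 0
  · rw [h0, smul_zero]
  · have := (B.R5 ht hd h0 (e ▸ W_conj (k := h) hd)).2
    rwa [h2, or_self] at this

theorem iso [Finite H] {t : H} (ht : Refl V t) : IsIsolatedInvolution t := by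
  refine ⟨H84.orderOf_two_of ht.1 (B.R2 ht), fun k hc => ?_⟩
  set s := k * t * k⁻¹ with hs
  have hS : Refl V s := ht.conj k
  by_contra hne
  have c1 : s * t * s⁻¹ = t := by rw [← hc.eq, mul_inv_cancel_right]
  have c2 : t * s * t⁻¹ = s := by rw [hc.eq, mul_inv_cancel_right]
  have nox : ∀ x : V, x - t • x ≠ 0 → Sim H (x - t • x) (x - s • x) → False := fun x h0 hx => by
    have e1 := B.fixW h2 hS c2 (sub_mem_W s x)
    have e2 := B.fixW h2 ht c1 (sub_mem_W t x)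
    have e3 := B.WC h2 ht (sub_mem_W t x)
    have e4 : x - (t * s) • x = (x - t • x) - (x - s • x) := by
      rw [smul_sub] at e1
      rw [mul_smul]
      linear_combination (norm := abel) e1 - h2 (x - s • x)
    have e5 := B.g_fix e4 (c := x - t • x) (by rw [mul_smul, e2, e3])
    rw [(B.g_swap hx).1] at e5
    exact hne (B.R3 hS ht (e5 ▸ sub_mem_W s x) (sub_mem_W t x) h0)
  obtain ⟨e, he, h0⟩ := B.exists_W ht.1
  obtain ⟨g1, g2⟩ := B.g_swap (Sim.smul k e)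
  set g := B.g (e - k • e)
  have he' : k • e ∈ W V s := W_conj he
  have a1 : g * t * g⁻¹ = s := B.R3 (ht.conj g) hS (g1 ▸ W_conj he) he' (smul_ne h0)
  have a2 : g * s * g⁻¹ = t := B.R3 (hS.conj g) ht (g2 ▸ W_conj he') he h0
  obtain ⟨n, m, ⟨j, rfl⟩, ho⟩ := Nat.exists_eq_two_pow_mul_odd (orderOf_pos g).ne'
  have a3 : ∀ j : ℕ, g ^ (2 * j + 1) * t * (g ^ (2 * j + 1))⁻¹ = s ∧
      g ^ (2 * j + 1) * s * (g ^ (2 * j + 1))⁻¹ = t := fun j => by
    induction j with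
    | zero => simpa using ⟨a1, a2⟩
    | succ j ih =>
      have : ∀ x : H, g ^ (2 * (j + 1) + 1) * x * (g ^ (2 * (j + 1) + 1))⁻¹ =
          g * (g * (g ^ (2 * j + 1) * x * (g ^ (2 * j + 1))⁻¹) * g⁻¹) * g⁻¹ := fun x => by group
      rw [this, this, ih.1, ih.2]
      exact ⟨by rw [a2, a1], by rw [a1, a2]⟩
  obtain ⟨b1, -⟩ := a3 j
  obtain ⟨x, rfl⟩ := he
  obtain ⟨y, hy, hy'⟩ := fix2 h2 (C V t ⊓ C V s) n (g ^ (2 * j + 1)) x
    (fun h => h0 (sub_eq_zero.2 h.1.symm))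
    (by rw [← pow_mul, mul_comm, ← ho, pow_orderOf_eq_one, one_smul, sub_self]; exact zero_mem _)
  set g' := g ^ (2 * j + 1)
  have b2 : g' • (y - t • y) = y - s • y := by
    have : s • (g' • y - y) = g' • y - y := hy'.2
    rw [smul_sub] at this
    rw [smul_sub, ← mul_smul, mul_inv_eq_iff_eq_mul.1 b1, mul_smul]
    linear_combination (norm := abel) -this
  refine nox y (fun h => hy ⟨(sub_eq_zero.1 h).symm, ?_⟩) ⟨g', b2⟩
  rw [h, smul_zero] at b2
  exact (sub_eq_zero.1 b2.symm).symm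

theorem noCent {t : H} (ht : Refl V t) (A : Subgroup H) [hA : A.Normal] (h1 : A ≠ ⊥) :
    ∃ a ∈ A, a * t * a⁻¹ ≠ t := by
  by_contra hc
  push Not at hc
  rcases B.irr (⨅ a : A, C V (a : H)) (fun k v hv => by
    rw [AddSubgroup.mem_iInf] at hv ⊢
    intro a
    have := (C_conj (k := k)).2 (hv ⟨_, hA.conj_mem _ a.2 k⁻¹⟩)
    simpa [mul_assoc] using this) with e | e
  · obtain ⟨d, hd, h0⟩ := B.exists_W ht.1
    refine h0 ?_
    rw [← AddSubgroup.mem_bot, ← e, AddSubgroup.mem_iInf]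
    exact fun a => B.fixW h2 ht (hc a a.2) hd
  · refine h1 ((Subgroup.eq_bot_iff_forall _).2 fun a ha => B.faith _ fun v => ?_)
    have : v ∈ (⊤ : AddSubgroup V) := trivial
    rw [← e, AddSubgroup.mem_iInf] at this
    exact this ⟨a, ha⟩

theorem CW [Finite H] [Finite V] {t : H} (ht : Refl V t) : C V t ≤ W V t := by
  have hiso := B.iso h2 ht
  have t2 := B.R2 ht
  have := H2.pPrimeCore_characteristic 2 H
  have hN : oddCore H ≠ ⊥ := fun e => by
    obtain ⟨a, -, ha⟩ := B.noCent h2 ht ⊤ (fun e => ht.1 (by rw [← Subgroup.mem_bot, ← e]; trivial))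
    have := H34.zstar hiso a
    rw [e, Subgroup.mem_bot] at this
    refine ha ?_
    calc a * t * a⁻¹ = (t * a * t⁻¹ * a⁻¹)⁻¹ * (t * a * t⁻¹ * a⁻¹) * (a * t * a⁻¹) := by group
      _ = t := by rw [this, inv_one, one_mul, ← this]; group
  have : Group.IsSolvable (oddCore H) := H42.odd_order (H2.odd_card_oddCore H)
  obtain ⟨p, A, -, hA, hAN, hA1, ⟨hAc, -⟩, -⟩ := H2.exists_elementaryAbelian_normal_le _ hN
  have hodd : ∀ a ∈ A, Odd (orderOf a) := fun a ha =>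
    (H2.odd_card_oddCore H).of_dvd_nat (Subgroup.orderOf_dvd_natCard _ (hAN ha))
  have hcom : ∀ a ∈ A, ∀ b ∈ A, a * b = b * a := fun a ha b hb =>
    congrArg Subtype.val (hAc.is_comm.comm ⟨a, ha⟩ ⟨b, hb⟩)
  obtain ⟨a₀, ha₀, hn⟩ := B.noCent h2 ht A hA1
  have ti : t⁻¹ = t := inv_eq_of_mul_eq_one_right t2
  obtain ⟨b, hb, hb1, hbt⟩ : ∃ b ∈ A, b ≠ 1 ∧ t * b * t⁻¹ = b⁻¹ := by
    refine ⟨a₀ * (t * a₀⁻¹ * t⁻¹), mul_mem ha₀ (hA.conj_mem _ (inv_mem ha₀) t), fun e => hn ?_, ?_⟩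
    · calc a₀ * t * a₀⁻¹ = a₀ * (t * a₀⁻¹ * t⁻¹) * t := by group
        _ = t := by rw [e, one_mul]
    · calc t * (a₀ * (t * a₀⁻¹ * t⁻¹)) * t⁻¹ = t * a₀ * t * a₀⁻¹ * (t * t)⁻¹ := by group
        _ = t * a₀ * t⁻¹ * a₀⁻¹ := by rw [t2, ti]; group
        _ = _ := by group
  have key : ∀ k : H, W V (k * t * k⁻¹) ≤ W V (b * b) := fun k => by
    set s := k * t * k⁻¹ with hs
    have hS : Refl V s := ht.conj k
    have s2 := B.R2 hS
    have si : s⁻¹ = s := inv_eq_of_mul_eq_one_right s2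
    have hS' : Refl V (b * s * b⁻¹) := hS.conj b
    have hb' : s * b * s⁻¹ ∈ A := hA.conj_mem _ hb s
    have hne : b * s * b⁻¹ ≠ s := fun e => by
      have h3 := H84.eq_inv_of_odd_inverts (H84.iso_odd hiso (isConj_iff.2 ⟨k, rfl⟩) :
        Odd (orderOf (s * t))) (a := b) (by
          calc s * t * b * (s * t)⁻¹ = s * (t * b * t⁻¹) * s⁻¹ := by group
            _ = (b * s * b⁻¹) * b⁻¹ * (b * s * b⁻¹)⁻¹ := by rw [hbt, e]
            _ = b * (s * b⁻¹ * s⁻¹) * b⁻¹ := by group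
            _ = s * b⁻¹ * s⁻¹ := by
              rw [hcom b hb _ (hA.conj_mem _ (inv_mem hb) s), mul_inv_cancel_right]
            _ = b⁻¹ * (b * s * b⁻¹) * s⁻¹ := by group
            _ = b⁻¹ := by rw [e, mul_inv_cancel_right])
      exact hb1 (H84.eq_one_of_odd_of_mul_self (hodd b hb) (by nth_rw 2 [h3]; exact mul_inv_cancel b))
    have hc : b * (s * b * s⁻¹) ∈ A := mul_mem hb hb'
    have ha' : b * s * b⁻¹ * s ∈ A := by
      have := mul_mem hb (inv_mem hb')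
      rwa [show b * (s * b * s⁻¹)⁻¹ = b * s * b⁻¹ * s⁻¹ by group, si] at this
    have c1 : b * (s * b * s⁻¹) * s * (b * (s * b * s⁻¹))⁻¹ = s := by
      rw [mul_inv_eq_iff_eq_mul, hcom b hb _ hb']
      nth_rw 2 [← hcom b hb _ hb']
      calc s * b * s⁻¹ * b * s = s * (b * (s⁻¹ * b * s)) := by group
        _ = _ := by rw [si]
    have c2 : b * (s * b * s⁻¹) * (b * s * b⁻¹) * (b * (s * b * s⁻¹))⁻¹ = b * s * b⁻¹ := by
      calc _ = b * (b⁻¹ * (b * (s * b * s⁻¹) * b)) * s * (b * (s * b * s⁻¹) * b)⁻¹ := by group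
        _ = b * (b * (s * b * s⁻¹) * s * (b * (s * b * s⁻¹))⁻¹) * b⁻¹ := by
          rw [hcom _ hc b hb]; group
        _ = _ := by rw [c1]
    have hd := odd_disj h2 (hodd _ ha')
    rintro _ ⟨x, rfl⟩
    obtain ⟨y, hy, z, hz, rfl⟩ := split hd x
    have hz' : z - s • z = 0 := by
      by_contra h0
      refine hne (B.R3 hS' hS ?_ (sub_mem_W s z) h0)
      rw [mem_C, mul_smul] at hz
      refine neg_mem_iff.1 ⟨s • z, ?_⟩
      rw [hz, neg_sub]
    have hy' : s • y ∈ W V (b * s * b⁻¹ * s) := by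
      have := W_conj (k := s) hy
      refine W_inv ?_
      convert this using 2
      calc (b * s * b⁻¹ * s)⁻¹ = s⁻¹ * b * s⁻¹ * b⁻¹ := by group
        _ = s * b * s * b⁻¹ := by rw [si]
        _ = _ := by group
    obtain ⟨w, hw, e⟩ := surj_W hd (sub_mem hy hy')
    refine ⟨w, ?_⟩
    obtain ⟨w1, hw1, w2, hw2, e'⟩ := W_mul hw
    have : (b * (s * b * s⁻¹)) • w = w := by
      rw [e', smul_add, B.fixW h2 hS' c2 hw1, B.fixW h2 hS c1 hw2]
    have e2 : b * b = b * s * b⁻¹ * s * (b * (s * b * s⁻¹)) := by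
      rw [hcom b hb _ hb']
      calc b * b = b * s * b⁻¹ * (s * s) * b * s⁻¹ * b := by rw [s2]; group
        _ = _ := by group
    rw [e2, mul_smul, this, e, smul_add]
    linear_combination (norm := abel) -hz'
  have hT : ∀ v, v ∈ W V (b * b) := by
    rcases B.irr (⨅ k : H, (W V (b * b)).comap (DistribSMul.toAddMonoidHom V k)) (fun k v hv => by
      rw [AddSubgroup.mem_iInf] at hv ⊢
      intro k'
      have := hv (k' * k)
      simpa [mul_smul] using this) with e | e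
    · obtain ⟨d, hd, h0⟩ := B.exists_W ht.1
      refine (h0 ?_).elim
      rw [← AddSubgroup.mem_bot, ← e, AddSubgroup.mem_iInf]
      exact fun k => key k (W_conj hd)
    · intro v
      have : v ∈ (⊤ : AddSubgroup V) := trivial
      rw [← e, AddSubgroup.mem_iInf] at this
      simpa using this 1
  have e1 : b * b = b * t * b⁻¹ * t := by rw [← hbt, ti]; simp only [← mul_assoc]; rw [mul_assoc b t t, t2, mul_one, mul_assoc _ t t, t2, mul_one]
  intro c hc
  obtain ⟨w1, hw1, w2, hw2, e⟩ := W_mul (e1 ▸ hT c)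
  have h3 : t • w1 = w1 := by
    have : w1 = c - w2 := by rw [e]; abel
    rw [this, smul_sub, B.WC h2 ht hw2, show t • c = c from hc]
  have := odd_disj h2 (hodd _ (mul_mem hb hb)) w1 (hT _) (by
    rw [e1, mul_smul, h3, B.WC h2 (ht.conj b) hw1])
  rw [e, this, zero_add]; exact hw2

theorem two [Finite H] [Finite V] {g₀ : H} (hg : g₀ ≠ 1) : Fin2 B := by
  have k : ∀ d : V, d ≠ 0 → B.g d ≠ 1 ∧ B.g d • d = d := fun d hd => by
    obtain ⟨h, hh⟩ := B.all_W hg d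
    exact ⟨B.g_ne hh hd, by rw [B.g_neg hh, h2]⟩
  refine ⟨fun v hv => ?_, fun d hd => ⟨d, hd, (k d hd).2⟩⟩
  obtain ⟨r, hr, le⟩ := exists_refl (V := V) (k v hv).1
  have h1 : v ∈ C V r := le (k v hv).2
  refine ⟨r, hr.1, h1, fun h hh => ?_⟩
  by_cases h0 : h = 1
  · exact Or.inl h0
  right
  have h3 := (B.R5 hr (B.CW h2 hr h1) hv (h := h) (by rw [hh]; exact B.CW h2 hr h1)).1
  have h4 : C V r ≤ C V h := fun x hx => B.fixW h2 hr h3 (B.CW h2 hr hx)
  have h5 : Refl V h := ⟨h0, fun g hg le => (hr.2 g hg (h4.trans le)).trans h4⟩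
  obtain ⟨d, hd, hd0⟩ := B.exists_W h0
  exact B.R3 h5 hr hd (B.CW h2 hr (hr.2 h h0 h4 (B.WC h2 h5 hd))) hd0

end Bin

end H99.BA
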