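import Cfsg.Agent.H99.BA3

/-! Binary affine actions: odd characteristic, the orthogonality relation. -/

set_option autoImplicit false

namespace H99.BA

variable {H V : Type*} [Group H] [AddCommGroup V] [DistribMulAction H V]

noncomputable def Bin.P (B : Bin H V) (b : V) : AddSubgroup V := C V (B.g (b + b))

noncomputable def Bin.L (B : Bin H V) (b : V) : AddSubgroup V := ⨅ a : B.P b, B.P a

theorem Bin.mem_L (B : Bin H V) {b c : V} : c ∈ B.L b ↔ ∀ a ∈ B.P b, c ∈ B.P a := by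
  simp [Bin.L, AddSubgroup.mem_iInf]

def Bin.Good (B : Bin H V) (d : V) : Prop := d ≠ 0 ∧ ∀ c ∈ B.L d, c ≠ 0 → d ∈ B.L c

def Bin.J (B : Bin H V) (u v : V) : Prop := ∀ a ∈ B.L u, ∀ b ∈ B.L v, a + b ≠ 0 → B.Good (a + b)

structure Od (B : Bin H V) : Prop where
  two : ∀ v : V, v + v = 0 → v = 0
  neg : ∀ v : V, Sim H v (-v)

namespace Od

variable {B : Bin H V} (X : Od B)
include X

theorem mem_P {a b : V} : a ∈ B.P b ↔ Sim H (a + b) (a - b) := by
  have h1 : B.g (b + b) • b = -b := by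
    have := B.g_spec (d := b + b) (x := b) (by convert X.neg b using 1; abel)
    rw [this]; abel
  refine ⟨fun h => ⟨B.g (b + b), ?_⟩, fun h => ?_⟩
  · rw [smul_add, show B.g (b + b) • a = a from h, h1, sub_eq_add_neg]
  · have := B.g_spec (d := b + b) (x := a + b) (by convert h using 1; abel)
    rw [smul_add, h1] at this
    change B.g (b + b) • a = a
    linear_combination (norm := abel) this

theorem sym {a b : V} (h : a ∈ B.P b) : b ∈ B.P a := by
  rw [X.mem_P] at h ⊢
  rw [add_comm, ← neg_sub]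
  exact h.trans (X.neg _)

theorem aniso {b : V} (h : b ∈ B.P b) : b = 0 := by
  rw [X.mem_P, sub_self] at h
  exact X.two _ h.symm.eq_zero

theorem P_smul (h : H) {a b : V} (hab : a ∈ B.P b) : h • a ∈ B.P (h • b) := by
  rw [X.mem_P] at hab ⊢
  rw [← smul_add, ← smul_sub]
  exact ((Sim.smul h _).symm.trans hab).trans (Sim.smul h _)

theorem uh (h : H) (u : V) : u + h • u ∈ B.P (u - h • u) := by
  rw [X.mem_P]
  convert Sim.smul h (u + u) using 1
  · abel
  · rw [smul_add]; abel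

theorem self (b : V) : b ∈ B.L b := B.mem_L.2 fun _ ha => X.sym ha

theorem LP {a b : V} (h1 : a ∈ B.L b) (h2 : a ∈ B.P b) : a = 0 := X.aniso (B.mem_L.1 h1 a h2)

theorem P_le {c d : V} (h : c ∈ B.L d) : B.P d ≤ B.P c := fun a ha => X.sym (B.mem_L.1 h a ha)

theorem L_le {c d : V} (h : c ∈ B.L d) : B.L c ≤ B.L d := fun _ hx =>
  B.mem_L.2 fun a ha => B.mem_L.1 hx a (X.P_le h ha)

theorem L_smul (h : H) {c d : V} (hc : c ∈ B.L d) : h • c ∈ B.L (h • d) := B.mem_L.2 fun a ha => by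
  have := X.P_smul h⁻¹ ha
  rw [inv_smul_smul] at this
  have := X.P_smul h (B.mem_L.1 hc _ this)
  rwa [smul_inv_smul] at this

theorem good_smul (h : H) {d : V} (hd : B.Good d) : B.Good (h • d) := by
  refine ⟨smul_ne hd.1, fun c hc h0 => ?_⟩
  have := X.L_smul h⁻¹ hc
  rw [inv_smul_smul] at this
  have := X.L_smul h (hd.2 _ this (smul_ne h0))
  rwa [smul_inv_smul] at this

theorem good_mem {c d : V} (hd : B.Good d) (hc : c ∈ B.L d) (h0 : c ≠ 0) : B.Good c :=
  ⟨h0, fun x hx hx0 => X.L_le (hd.2 x (X.L_le hc hx) hx0) hc⟩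

theorem nperp {u v c : V} (hu : B.Good u) (hv : v ∉ B.P u) (h1 : c ∈ B.L u) (h2 : c ∈ B.P v) :
    c = 0 := by
  by_contra h0
  exact hv (X.P_le (hu.2 c h1 h0) (X.sym h2))

variable [Finite V]

theorem half {U : AddSubgroup V} {a : V} (h : a + a ∈ U) : a ∈ U := by
  let f : U → U := fun u => u + u
  have hf : Function.Injective f := fun x y e => by
    have e' : (x : V) + x = y + y := congrArg Subtype.val e
    exact Subtype.ext (sub_eq_zero.1 (X.two _ (by linear_combination (norm := abel) e')))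
  obtain ⟨u, hu⟩ := Finite.surjective_of_injective hf ⟨_, h⟩
  have e' : (u : V) + u = a + a := congrArg Subtype.val hu
  rw [← sub_eq_zero.1 (X.two (u - a) (by linear_combination (norm := abel) e'))]
  exact u.2

theorem WP {h : H} {d c : V} (hd : d ∈ W V h) (hc : h • c = c) : c ∈ B.P d := by
  obtain ⟨x, rfl⟩ := hd
  have h1 := X.uh h (x + c)
  rw [smul_add, hc, show x + c - (h • x + c) = x - h • x by abel] at h1
  refine X.half ?_
  convert sub_mem h1 (X.uh h x) using 1
  abel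

theorem disj (h : H) : ∀ v ∈ W V h, h • v = v → v = 0 := fun _ h1 h2 => X.aniso (X.WP h1 h2)

theorem memW {h : H} {v : V} (hv : ∀ c : V, h • c = c → v ∈ B.P c) : v ∈ W V h := by
  obtain ⟨a, ha, c, hc, rfl⟩ := split (X.disj h) v
  have := sub_mem (hv c hc) (X.sym (X.WP ha hc))
  rw [add_sub_cancel_left] at this
  rwa [X.aniso this, add_zero]

theorem splitL (b v : V) : ∃ a ∈ B.L b, ∃ c ∈ B.P b, v = a + c := by
  obtain ⟨a, ha, c, hc, e⟩ := split (X.disj (B.g (b + b))) v
  exact ⟨a, B.mem_L.2 fun x hx => X.sym (X.WP ha hx), c, hc, e⟩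

theorem ex_tau (b : V) : ∃ t : H, (∀ a ∈ B.L b, t • a = -a) ∧ ∀ c ∈ B.P b, t • c = c := by
  choose a ha c hc e using X.splitL b
  obtain ⟨h, k, hk⟩ := B.bin Set.univ (fun v => c v - a v) (fun x _ y _ => by
    have := X.mem_P.1 (X.sym (B.mem_L.1 (sub_mem (ha x) (ha y)) _ (sub_mem (hc x) (hc y))))
    convert this using 1
    · conv_lhs => rw [e x, e y]
      abel
    · abel)
  have h1 : ∀ x ∈ B.L b, c x - a x = -x := fun x hx => by
    have : c x = 0 := X.LP (by
      have := sub_mem hx (ha x)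
      rwa [show x - a x = c x by linear_combination (norm := abel) e x] at this) (hc x)
    linear_combination (norm := abel) e x + this + this
  have h0 : k = 0 := by
    have := hk 0 trivial
    simp only [h1 0 (zero_mem _), neg_zero, smul_zero, zero_add] at this
    exact this.symm
  refine ⟨h, fun x hx => ?_, fun x hx => ?_⟩
  · have := hk x trivial
    simp only [h1 x hx, h0, add_zero] at this
    exact this.symm
  · have h2 := hk x trivial
    have : a x = 0 := X.LP (ha x) (by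
      have := sub_mem hx (hc x)
      rwa [show x - c x = a x by linear_combination (norm := abel) e x] at this)
    simp only [h0, add_zero] at h2
    linear_combination (norm := abel) -h2 - e x - this - this

noncomputable def τ (b : V) : H := (X.ex_tau b).choose

theorem τL {b a : V} (h : a ∈ B.L b) : X.τ b • a = -a := (X.ex_tau b).choose_spec.1 a h
theorem τP {b a : V} (h : a ∈ B.P b) : X.τ b • a = a := (X.ex_tau b).choose_spec.2 a h

theorem τsub (b v : V) : v - X.τ b • v ∈ B.L b := by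
  obtain ⟨a, ha, c, hc, rfl⟩ := X.splitL b v
  rw [smul_add, X.τL ha, X.τP hc]
  convert add_mem ha ha using 1; abel

theorem τadd (b v : V) : v + X.τ b • v ∈ B.P b := by
  obtain ⟨a, ha, c, hc, rfl⟩ := X.splitL b v
  rw [smul_add, X.τL ha, X.τP hc]
  convert add_mem hc hc using 1; abel

theorem ττ (b v : V) : X.τ b • X.τ b • v = v := by
  obtain ⟨a, ha, c, hc, rfl⟩ := X.splitL b v
  rw [smul_add, X.τL ha, X.τP hc, smul_add, smul_neg, X.τL ha, X.τP hc, neg_neg]

theorem P_of {b v : V} (h : v - X.τ b • v = 0) : v ∈ B.P b := by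
  have := X.τadd b v
  rw [← sub_eq_zero.1 h] at this
  exact X.half this

theorem L_of {b v : V} (h : v + X.τ b • v = 0) : v ∈ B.L b := by
  refine X.half ?_
  convert X.τsub b v using 1
  linear_combination (norm := abel) h

theorem τswap {v w : V} (h : Sim H v w) : X.τ (v - w) • v = w := by
  obtain ⟨h, rfl⟩ := h
  have h1 := X.τP (X.uh h v)
  have h2 := X.τL (X.self (v - h • v))
  rw [smul_add] at h1
  rw [smul_sub] at h2
  exact sub_eq_zero.1 (X.two _ (by linear_combination (norm := abel) h1 + h2))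

theorem τeq {c d : V} (h1 : c ∈ B.L d) (h2 : d ∈ B.L c) : X.τ c = X.τ d := by
  refine (inv_mul_eq_one.1 (B.faith _ fun v => ?_)).symm
  obtain ⟨a, ha, e, he, rfl⟩ := X.splitL d v
  rw [mul_smul, inv_smul_eq_iff, smul_add, smul_add, X.τL ha, X.τP he, X.τL (X.L_le h2 ha),
    X.τP (X.P_le h1 he)]

theorem ex_good {d : V} (hd : d ≠ 0) : ∃ c ∈ B.L d, B.Good c := by
  have : Finite (AddSubgroup V) := Finite.of_injective _ SetLike.coe_injective
  obtain ⟨U, h1, ⟨c, hc, rfl⟩, h2⟩ := Finite.exists_le_minimal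
    (p := fun U : AddSubgroup V => ∃ c, c ≠ 0 ∧ B.L c = U) (a := B.L d) ⟨d, hd, rfl⟩
  exact ⟨c, h1 (X.self c), hc, fun x hx h0 => h2 ⟨x, h0, rfl⟩ (X.L_le hx) (X.self c)⟩

theorem inj {u v : V} (hu : B.Good u) (hv : v ∉ B.P u) :
    Function.Injective (fun s : B.L u => (⟨s - X.τ v • (s : V), X.τsub v s⟩ : B.L v)) := fun a b e => by
  have e' : (a : V) - X.τ v • (a : V) = b - X.τ v • (b : V) := congrArg Subtype.val e
  refine Subtype.ext (sub_eq_zero.1 (X.nperp hu hv (sub_mem a.2 b.2) (X.P_of ?_)))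
  rw [smul_sub]
  linear_combination (norm := abel) e'

theorem card_eq {u v : V} (hu : B.Good u) (hv : B.Good v) (h : v ∉ B.P u) :
    Nat.card (B.L u) = Nat.card (B.L v) :=
  le_antisymm (Nat.card_le_card_of_injective _ (X.inj hu h))
    (Nat.card_le_card_of_injective _ (X.inj hv fun h' => h (X.sym h')))

theorem surj {u v : V} (hu : B.Good u) (hv : B.Good v) (h : v ∉ B.P u) {z : V} (hz : z ∈ B.L v) :
    ∃ s ∈ B.L u, s - X.τ v • s = z := by
  obtain ⟨s, hs⟩ := ((X.inj hu h).bijective_of_nat_card_le (X.card_eq hu hv h).ge).2 ⟨z, hz⟩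
  exact ⟨s, s.2, congrArg Subtype.val hs⟩

theorem line {u v : V} (hu : B.Good u) (hv : B.Good v) (h : v ∉ B.P u) : B.J u v := by
  intro a ha b hb h0
  by_cases hvu : v ∈ B.L u
  · exact X.good_mem hu (add_mem ha (X.L_le hvu hb)) h0
  have h' : u ∉ B.P v := fun h' => h (X.sym h')
  have hC : ∀ c : V, (X.τ u * X.τ v) • c = c → c ∈ B.P u ∧ c ∈ B.P v := fun c hc => by
    have h1 : X.τ v • c = X.τ u • c := by
      conv_rhs => rw [← hc, mul_smul, X.ττ]
    have h2 : c - X.τ u • c = 0 := by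
      by_contra h2
      exact hvu (X.L_le (X.τsub u c) (hv.2 _ (h1 ▸ X.τsub v c) h2))
    exact ⟨X.P_of h2, X.P_of (h1 ▸ h2)⟩
  have hW : ∀ x, x ∈ W V (X.τ u * X.τ v) ↔ x ∈ B.L u ⊔ B.L v := fun x => by
    constructor
    · intro hx
      obtain ⟨_, ⟨y, rfl⟩, _, ⟨z, rfl⟩, rfl⟩ := W_mul hx
      exact AddSubgroup.add_mem_sup (X.τsub _ _) (X.τsub _ _)
    · intro hx
      obtain ⟨y, hy, z, hz, rfl⟩ := AddSubgroup.mem_sup.1 hx
      exact X.memW fun c hc => add_mem (B.mem_L.1 hy c (hC c hc).1) (B.mem_L.1 hz c (hC c hc).2)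
  have hd : a + b ∈ W V (X.τ u * X.τ v) := (hW _).2 (AddSubgroup.add_mem_sup ha hb)
  generalize a + b = d at h0 hd
  have hL : B.L d ≤ B.L u ⊔ B.L v := fun x hx =>
    (hW x).1 (X.memW fun c hc => B.mem_L.1 hx c (X.WP hd hc))
  have hq : ∀ c ∈ B.L d, B.Good c → Nat.card (B.L c) = Nat.card (B.L u) := fun c hc hg => by
    by_cases h1 : c ∈ B.P u
    · by_cases h2 : c ∈ B.P v
      · exact (hg.1 (X.disj _ c ((hW c).2 (hL hc)) (by rw [mul_smul, X.τP h2, X.τP h1]))).elim
      · rw [X.card_eq hu hv h, X.card_eq hv hg h2]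
    · exact (X.card_eq hu hg h1).symm
  obtain ⟨c, hc, hg⟩ := X.ex_good h0
  obtain ⟨a₁, ha₁, c₁, hc₁, e₁⟩ := X.splitL c d
  by_cases h1 : c₁ = 0
  · rw [h1, add_zero] at e₁
    exact X.good_mem hg (e₁ ▸ ha₁) h0
  exfalso
  obtain ⟨c', hc', hg'⟩ := X.ex_good h1
  have hc₁' : c₁ ∈ B.L d := by
    have := sub_mem (X.self d) (X.L_le hc ha₁)
    rwa [show d - a₁ = c₁ by rw [e₁]; abel] at this
  have hc'd : c' ∈ B.L d := X.L_le hc₁' hc'
  have hp : c ∈ B.P c' := X.P_le hc' (X.sym hc₁)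
  let f : B.L c × B.L c' → (B.L u ⊔ B.L v : AddSubgroup V) := fun p =>
    ⟨p.1 + p.2, hL (add_mem (X.L_le hc p.1.2) (X.L_le hc'd p.2.2))⟩
  have hf : Function.Injective f := fun p p' e => by
    have e' : (p.1 : V) + p.2 = p'.1 + p'.2 := congrArg Subtype.val e
    have k : (p.1 : V) - p'.1 = 0 := X.LP (sub_mem p.1.2 p'.1.2) (by
      have := B.mem_L.1 (sub_mem p'.2.2 p.2.2) c hp
      rwa [show (p'.2 : V) - p.2 = p.1 - p'.1 by linear_combination (norm := abel) -e'] at this)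
    exact Prod.ext (Subtype.ext (sub_eq_zero.1 k))
      (Subtype.ext (by linear_combination (norm := abel) e' - k))
  let f' : B.L u × B.L v → (B.L u ⊔ B.L v : AddSubgroup V) := fun p =>
    ⟨p.1 + p.2, AddSubgroup.add_mem_sup p.1.2 p.2.2⟩
  have hf' : Function.Surjective f' := fun x => by
    obtain ⟨y, hy, z, hz, e⟩ := AddSubgroup.mem_sup.1 x.2
    exact ⟨(⟨y, hy⟩, ⟨z, hz⟩), Subtype.ext e⟩
  have hb := hf.bijective_of_nat_card_le ((Nat.card_le_card_of_surjective f' hf').trans (by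
    rw [Nat.card_prod, Nat.card_prod, hq c hc hg, hq c' hc'd hg', ← X.card_eq hu hv h]))
  obtain ⟨x, hx, ex⟩ := surj_W (X.disj _) hd
  obtain ⟨p, ep⟩ := hb.2 ⟨_, (hW _).1 (add_mem hx (W_smul hx))⟩
  have ep' : (p.1 : V) + p.2 = x + (X.τ u * X.τ v) • x := congrArg Subtype.val ep
  have h2 : x + (X.τ u * X.τ v) • x = 0 :=
    X.LP (ep' ▸ add_mem (X.L_le hc p.1.2) (X.L_le hc'd p.2.2)) (ex ▸ X.uh _ x)
  have h3 : X.τ u • x + X.τ v • x = 0 := by
    have := congrArg (X.τ u • ·) h2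
    simpa only [smul_add, mul_smul, X.ττ, smul_zero] using this
  have h4 : x - X.τ v • x = 0 := X.nperp hv h' (X.τsub v x) (by
    convert X.τadd u x using 1
    linear_combination (norm := abel) -h3)
  have h5 : x = 0 := X.nperp hu h (X.L_of (by linear_combination (norm := abel) h3 + h4)) (X.P_of h4)
  exact h0 (by rw [← ex, h5, smul_zero, sub_zero])

end Od

end H99.BA
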