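import Cfsg.Agent.H99.BA4

/-! Binary affine actions: odd characteristic, the plane; the linear classification. -/

set_option autoImplicit false

namespace H99.BA

variable {H V : Type*} [Group H] [AddCommGroup V] [DistribMulAction H V]

namespace Od

variable {B : Bin H V} (X : Od B) [Finite V]
include X

theorem lemB0 {z y s : V} (hz : B.Good z) (hy : B.Good y) (hs : B.Good s) (h1 : y ∈ B.P z)
    (h2 : s ∉ B.P z) (h3 : s ∉ B.P y) (h0 : z + y ≠ 0) : B.Good (z + y) := by
  obtain ⟨s', hs', e⟩ := X.surj hs hz (fun h => h2 (X.sym h)) (X.self z)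
  have s0 : s' ≠ 0 := fun h => hz.1 (by rw [← e, h, smul_zero, sub_zero])
  have gs := X.good_mem hs hs' s0
  have a1 : s' ∉ B.P y := fun h => s0 (X.nperp hs (fun h => h3 (X.sym h)) hs' h)
  have a2 : z ∉ B.P s' := fun h => s0 (X.nperp hs (fun h => h2 (X.sym h)) hs' (X.sym h))
  have ss := add_mem (X.self s') (X.self s')
  obtain ⟨z', ez⟩ : ∃ z', z' = s' + s' + -z := ⟨_, rfl⟩
  have a3 : z' ∉ B.P y := fun h => a1 (X.half (by
    convert add_mem h (X.sym h1) using 1; rw [ez]; abel))
  have gz : B.Good z' := ez ▸ X.line gs hz a2 _ ss _ (neg_mem (X.self z))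
    (fun h => a3 (by rw [ez, h]; exact zero_mem _))
  have J := X.line hy gz a3
  have e1 : z + y = s' + s' + (y + -z') := by rw [ez]; abel
  have e2 : X.τ z • (-(s' + s') + (y + z')) = z + y := by
    rw [show -(s' + s') + (y + z') = -z + y by rw [ez]; abel, smul_add, smul_neg, X.τL (X.self z),
      X.τP h1, neg_neg]
  have h0' : -(s' + s') + (y + z') ≠ 0 := fun h => h0 (by rw [← e2, h, smul_zero])
  by_cases b1 : y + -z' = 0
  · rw [e1, b1, add_zero] at h0 ⊢
    exact X.good_mem gs ss h0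
  by_cases b2 : y + z' = 0
  · rw [← e2]
    refine X.good_smul _ ?_
    rw [b2, add_zero] at h0' ⊢
    exact X.good_mem gs (neg_mem ss) h0'
  by_cases b3 : y + -z' ∈ B.P s'
  · rw [← e2]
    refine X.good_smul _ (X.line gs (J _ (X.self y) _ (X.self z') b2) (fun b4 => ?_) _ (neg_mem ss) _
      (X.self _) h0')
    exact a1 (X.sym (X.half (by convert add_mem b3 b4 using 1; abel)))
  · rw [e1] at h0 ⊢
    exact X.line gs (J _ (X.self y) _ (neg_mem (X.self z')) b1) b3 _ ss _ (X.self _) h0

theorem lemB {z y s : V} (hz : B.Good z) (hy : B.Good y) (hs : B.Good s) (h1 : y ∈ B.P z)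
    (h2 : s ∉ B.P z) (h3 : s ∉ B.P y) : B.J z y := by
  intro a ha b hb h0
  by_cases a0 : a = 0
  · rw [a0, zero_add] at h0 ⊢; exact X.good_mem hy hb h0
  by_cases b0 : b = 0
  · rw [b0, add_zero] at h0 ⊢; exact X.good_mem hz ha h0
  exact X.lemB0 (X.good_mem hz ha a0) (X.good_mem hy hb b0) hs
    (X.P_le ha (X.sym (X.P_le hb (X.sym h1)))) (fun h => h2 (X.P_le (hz.2 a ha a0) h))
    (fun h => h3 (X.P_le (hy.2 b hb b0) h)) h0

theorem Jall {u v : V} (hu : B.Good u) (hv : B.Good v) : B.J u v := by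
  by_cases h : v ∈ B.P u
  swap
  · exact X.line hu hv h
  by_contra hJ
  let M := AddSubgroup.closure {s | B.Good s ∧ s ∉ B.P u}
  have hM : M ≤ B.P v := (AddSubgroup.closure_le _).2 fun s hs => by
    by_contra h3
    exact hJ (X.lemB hu hv hs.1 h hs.2 h3)
  have k1 : ∀ k : H, k • u = u → ∀ m ∈ M, k • m ∈ M := fun k hk m hm => by
    induction hm using AddSubgroup.closure_induction with
    | mem x hx =>
      refine AddSubgroup.subset_closure ⟨X.good_smul k hx.1, fun h => hx.2 ?_⟩
      have := X.P_smul k⁻¹ h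
      rwa [inv_smul_smul, inv_smul_eq_iff.2 hk.symm] at this
    | zero => rw [smul_zero]; exact zero_mem _
    | add x y _ _ hx hy => rw [smul_add]; exact add_mem hx hy
    | neg x _ hx => rw [smul_neg]; exact neg_mem hx
  have k2 : ∀ s, B.Good s → ∀ m ∈ M, X.τ s • m ∈ M := fun s hs m hm => by
    by_cases h1 : u ∈ B.P s
    · exact k1 _ (X.τP h1) m hm
    · rw [show X.τ s • m = m - (m - X.τ s • m) by abel]
      refine sub_mem hm ?_
      by_cases h0 : m - X.τ s • m = 0
      · rw [h0]; exact zero_mem _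
      · exact AddSubgroup.subset_closure ⟨X.good_mem hs (X.τsub s m) h0,
          fun h2 => h0 (X.nperp hs h1 (X.τsub s m) h2)⟩
  rcases B.irr M (fun k m hm => by
    by_cases h0 : u - k • u = 0
    · exact k1 k (sub_eq_zero.1 h0).symm m hm
    have hu' := X.good_smul k hu
    have hJ' : B.J u (k • u) := by
      by_cases h1 : k • u ∈ B.P u
      · obtain ⟨s, hs, gs⟩ := X.ex_good h0
        have h2 := X.P_le hs (X.uh k u)
        refine X.lemB hu hu' gs h1 (fun h3 => gs.1 (X.LP hs (X.sym ?_)))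
          (fun h3 => gs.1 (X.LP hs (X.sym ?_)))
        · convert sub_mem (add_mem (X.sym h3) (X.sym h3)) h2 using 1; abel
        · convert sub_mem h2 (add_mem (X.sym h3) (X.sym h3)) using 1; abel
      · exact X.line hu hu' h1
    have gd : B.Good (u - k • u) := by
      rw [sub_eq_add_neg] at h0 ⊢
      exact hJ' _ (X.self u) _ (neg_mem (X.self _)) h0
    have := k2 _ gd _ (k1 (X.τ (u - k • u) * k) (by
      rw [mul_smul]
      nth_rw 2 [← X.τswap (Sim.smul k u)]
      rw [X.ττ]) m hm)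
    rwa [mul_smul, X.ττ] at this) with e | e
  · refine hu.1 ?_
    rw [← AddSubgroup.mem_bot, ← e]
    exact AddSubgroup.subset_closure ⟨hu, fun h => hu.1 (X.aniso h)⟩
  · exact hv.1 (X.aniso (hM (e ▸ AddSubgroup.mem_top v)))

theorem good {d : V} (hd : d ≠ 0) : B.Good d := by
  let U : AddSubgroup V :=
    { carrier := {d | d ≠ 0 → B.Good d}
      add_mem' := fun {a b} ha hb h0 => by
        by_cases a0 : a = 0
        · rw [a0, zero_add] at h0 ⊢; exact hb h0
        by_cases b0 : b = 0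
        · rw [b0, add_zero] at h0 ⊢; exact ha h0
        exact X.Jall (ha a0) (hb b0) _ (X.self a) _ (X.self b) h0
      zero_mem' := fun h => (h rfl).elim
      neg_mem' := fun {a} ha h0 =>
        X.good_mem (ha (neg_ne_zero.1 h0)) (neg_mem (X.self a)) h0 }
  rcases B.irr U (fun k m hm h0 => X.good_smul k (hm fun h => h0 (by rw [h, smul_zero]))) with e | e
  · obtain ⟨c, -, hc⟩ := X.ex_good hd
    refine (hc.1 ?_).elim
    rw [← AddSubgroup.mem_bot, ← e]
    exact fun _ => hc
  · exact (show d ∈ U from e ▸ AddSubgroup.mem_top d) hd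

theorem cardL {u v : V} (hu : u ≠ 0) (hv : v ≠ 0) : Nat.card (B.L u) = Nat.card (B.L v) := by
  by_cases h : v ∈ B.P u
  · have h1 : u + v ∉ B.P u := fun h1 => hu (X.aniso (by simpa using sub_mem h1 h))
    have h2 : u + v ∉ B.P v := fun h2 => hv (X.aniso (by simpa using sub_mem h2 (X.sym h)))
    have h0 : u + v ≠ 0 := fun h0 => h1 (h0 ▸ zero_mem _)
    rw [X.card_eq (X.good hu) (X.good h0) h1, X.card_eq (X.good hv) (X.good h0) h2]
  · exact X.card_eq (X.good hu) (X.good hv) h

theorem cardV (v : V) : Nat.card V = Nat.card (B.L v) * Nat.card (B.P v) := by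
  rw [← Nat.card_prod]
  refine (Nat.card_eq_of_bijective (fun p : B.L v × B.P v => (p.1 : V) + p.2) ⟨fun p p' e => ?_,
    fun x => ?_⟩).symm
  · have e' : (p.1 : V) + p.2 = p'.1 + p'.2 := e
    have k : (p.1 : V) - p'.1 = 0 := X.LP (sub_mem p.1.2 p'.1.2) (by
      have := sub_mem p'.2.2 p.2.2
      rwa [show (p'.2 : V) - p.2 = p.1 - p'.1 by linear_combination (norm := abel) -e'] at this)
    exact Prod.ext (Subtype.ext (sub_eq_zero.1 k))
      (Subtype.ext (by linear_combination (norm := abel) e' - k))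
  · obtain ⟨a, ha, c, hc, e⟩ := X.splitL v x
    exact ⟨(⟨a, ha⟩, ⟨c, hc⟩), e.symm⟩

theorem cardP {u v : V} (hu : u ≠ 0) (hv : v ≠ 0) : Nat.card (B.P u) = Nat.card (B.P v) := by
  have := X.cardV u
  rw [X.cardV v, X.cardL hu hv] at this
  exact (Nat.eq_of_mul_eq_mul_left Nat.card_pos this).symm

open Classical Finset in
theorem cls [Fintype V] {v : V} (hv : v ≠ 0) :
    #(univ.filter (Sim H v)) = Nat.card (B.P v) + 1 := by
  have c1 : ∀ U : AddSubgroup V, #(univ.filter (· ∈ U)) = Nat.card U := fun U => by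
    rw [Nat.card_eq_fintype_card, Fintype.card_subtype]
  have h1 := card_eq_sum_card_fiberwise (s := univ.filter (· ∉ B.P v))
    (t := (univ.filter (Sim H v)).erase v) (f := fun d => X.τ d • v) (fun d hd => by
      simp only [coe_filter, mem_univ, true_and, Set.mem_ofPred_eq, coe_erase, Set.mem_sdiff,
        Set.mem_singleton_iff] at hd ⊢
      exact ⟨Sim.smul _ _, fun e => hd (X.sym (X.P_of (by rw [e, sub_self])))⟩)
  rw [sum_congr rfl (g := fun _ => Nat.card (B.L v) - 1) (fun w hw => by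
    simp only [mem_erase, mem_filter, mem_univ, true_and] at hw
    have h0 : v - w ≠ 0 := sub_ne_zero.2 hw.1.symm
    rw [X.cardL hv h0, ← c1, ← card_erase_of_mem (a := 0) (by simp)]
    congr 1
    ext d
    simp only [mem_filter, mem_univ, true_and, mem_erase]
    constructor
    · rintro ⟨h1, rfl⟩
      have : d ≠ 0 := fun e => h1 (e ▸ zero_mem _)
      exact ⟨this, (X.good this).2 _ (X.τsub d v) h0⟩
    · rintro ⟨h1, h2⟩
      have : X.τ d • v = w := by rw [X.τeq h2 ((X.good h0).2 d h2 h1), X.τswap hw.2]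
      exact ⟨fun h => hw.1 (by rw [← this, X.τP (X.sym h)]), this⟩), sum_const, smul_eq_mul,
    card_erase_of_mem (by simpa using Sim.refl v)] at h1
  have h2 := card_filter_add_card_filter_not (s := univ) (fun x => x ∈ B.P v)
  rw [c1, h1, card_univ, ← Nat.card_eq_fintype_card, X.cardV v] at h2
  have h3 : 1 < Nat.card (B.L v) := by
    rw [Finite.one_lt_card_iff_nontrivial]
    exact ⟨⟨⟨v, X.self v⟩, 0, fun e => hv (congrArg Subtype.val e)⟩⟩
  have h4 : 0 < #(univ.filter (Sim H v)) := card_pos.2 ⟨v, by simpa using Sim.refl v⟩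
  obtain ⟨q, hq⟩ : ∃ q, Nat.card (B.L v) = q + 2 := ⟨Nat.card (B.L v) - 2, by omega⟩
  obtain ⟨n, hn⟩ : ∃ n, #(univ.filter (Sim H v)) = n + 1 := ⟨_, (Nat.succ_pred_eq_of_pos h4).symm⟩
  rw [hq, hn] at h2
  rw [hn]
  simp only [Nat.add_sub_cancel, show q + 2 - 1 = q + 1 from rfl] at h2
  have : n * (q + 1) = Nat.card (B.P v) * (q + 1) := by linarith
  rw [Nat.eq_of_mul_eq_mul_right (Nat.succ_pos q) this]

theorem PleL {v : V} (hv : v ≠ 0) : Nat.card (B.P v) ≤ Nat.card (B.L v) := by
  classical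
  let _ := Fintype.ofFinite V
  have h1 := Finset.card_eq_sum_card_image (fun x : V => Finset.univ.filter (Sim H x))
    (Finset.univ.erase (0 : V))
  have h2 : Nat.card (B.P v) + 1 ∣ (Finset.univ.erase (0 : V)).card := by
    rw [h1]
    refine Finset.dvd_sum fun S hS => ?_
    obtain ⟨x, hx, rfl⟩ := Finset.mem_image.1 hS
    have hx0 : x ≠ 0 := (Finset.mem_erase.1 hx).1
    rw [X.cardP hv hx0, ← X.cls hx0]
    refine dvd_of_eq ?_
    congr 1
    ext y
    simp only [Finset.mem_filter, Finset.mem_univ, true_and, Finset.mem_erase, and_true,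
      Finset.ext_iff]
    exact ⟨fun h => ⟨fun e => hx0 (e ▸ h).symm.eq_zero, fun z => ⟨h.trans, h.symm.trans⟩⟩,
      fun h => (h.2 y).1 (Sim.refl y)⟩
  rw [Finset.card_erase_of_mem (Finset.mem_univ _), Finset.card_univ, ← Nat.card_eq_fintype_card,
    X.cardV v] at h2
  have h3 : 0 < Nat.card (B.L v) * Nat.card (B.P v) := Nat.mul_pos Nat.card_pos Nat.card_pos
  have h4 := Nat.dvd_sub (Dvd.intro_left (Nat.card (B.L v)) rfl) h2
  rw [show Nat.card (B.L v) * (Nat.card (B.P v) + 1) - (Nat.card (B.L v) * Nat.card (B.P v) - 1) =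
    Nat.card (B.L v) + 1 by rw [mul_add]; omega] at h4
  exact Nat.le_of_succ_le_succ (Nat.le_of_dvd (Nat.succ_pos _) h4)

theorem pm {d : V} {h : H} (hh : ∀ c ∈ B.L d, h • c ∈ B.L d) :
    (∀ c ∈ B.L d, h • c = c) ∨ ∀ c ∈ B.L d, h • c = -c := by
  have k : ∀ c ∈ B.L d, h • c = c ∨ h • c = -c := fun c hc => by
    by_cases h0 : c - h • c = 0
    · exact Or.inl (sub_eq_zero.1 h0).symm
    · right
      have hd : d ≠ 0 := fun e => h0 (X.LP (sub_mem hc (hh c hc)) (X.sym (e ▸ zero_mem _)))
      rw [← X.τswap (Sim.smul h c)]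
      exact X.τL (X.L_le ((X.good hd).2 _ (sub_mem hc (hh c hc)) h0) hc)
  by_contra hn
  push Not at hn
  obtain ⟨⟨a, ha, a1⟩, b, hb, b1⟩ := hn
  have a2 := (k a ha).resolve_left a1
  have b2 := (k b hb).resolve_right b1
  rcases k _ (add_mem ha hb) with e | e <;> rw [smul_add, a2, b2] at e
  · exact a1 (by rw [X.two a (by linear_combination (norm := abel) -e), smul_zero])
  · exact b1 (by rw [X.two b (by linear_combination (norm := abel) e), smul_zero, neg_zero])

theorem fin2 {d₀ c₀ : V} (h0 : d₀ ≠ 0) (h1 : c₀ ∈ B.P d₀) (h2 : c₀ ≠ 0) : Fin2 B := by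
  have k : ∀ v : V, v ≠ 0 → ∃ e ∈ B.P v, e ≠ 0 := fun v hv => by
    have : 1 < Nat.card (B.P v) := by
      rw [X.cardP hv h0, Finite.one_lt_card_iff_nontrivial]
      exact ⟨⟨⟨c₀, h1⟩, 0, fun e => h2 (congrArg Subtype.val e)⟩⟩
    rw [Finite.one_lt_card_iff_nontrivial] at this
    obtain ⟨e, he⟩ := exists_ne (0 : B.P v)
    exact ⟨e, e.2, fun h => he (Subtype.ext h)⟩
  refine ⟨fun v hv => ?_, fun d hd => ?_⟩
  · obtain ⟨e, he, e0⟩ := k v hv
    have hL : B.L e = B.P v := AddSubgroup.eq_of_le_of_card_ge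
      (fun x hx => B.mem_L.1 hx v (X.sym he)) (X.cardL hv e0 ▸ X.PleL hv)
    refine ⟨X.τ e, fun h => e0 (X.two e ?_), X.τP (X.sym he), fun h hh => ?_⟩
    · have := X.τL (X.self e)
      rw [h, one_smul] at this
      linear_combination (norm := abel) this
    have a1 := (X.pm (d := v) (h := h) fun c hc => hh ▸ X.L_smul h hc).resolve_right fun a =>
      hv (X.two v (by linear_combination (norm := abel) a v (X.self v) - hh))
    rcases X.pm (d := e) (h := h) (fun c hc => by
      rw [hL] at hc ⊢; exact hh ▸ X.P_smul h hc) with a2 | a2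
    · refine Or.inl (B.faith _ fun x => ?_)
      obtain ⟨a, ha, c, hc, rfl⟩ := X.splitL v x
      rw [smul_add, a1 a ha, a2 c (hL ▸ hc)]
    · refine Or.inr (inv_mul_eq_one.1 (B.faith _ fun x => ?_)).symm
      obtain ⟨a, ha, c, hc, rfl⟩ := X.splitL v x
      rw [mul_smul, inv_smul_eq_iff, smul_add, smul_add, a1 a ha, a2 c (hL ▸ hc), X.τL (show c ∈ B.L e from hL ▸ hc),
        X.τP (B.mem_L.1 ha e he)]
  · obtain ⟨b, rfl⟩ := Finite.surjective_of_injective (f := fun x : V => x + x) (fun x y e =>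
      sub_eq_zero.1 (X.two _ (by
        have e' : x + x = y + y := e
        linear_combination (norm := abel) e'))) d
    obtain ⟨e, he, e0⟩ := k b (fun h => hd (by simp [h]))
    exact ⟨e, e0, he⟩

end Od

theorem Bin.main [Finite H] [Finite V] [Nontrivial V] (B : Bin H V) :
    ((Nat.card V).Prime ∧ Nat.card H ≤ 2) ∨ Concl H V := by
  by_cases hH : ∀ h : H, h = 1
  · exact Or.inl (B.small fun h v => Or.inl (by rw [hH h, one_smul]))
  push Not at hH
  obtain ⟨g₀, hg⟩ := hH
  let U : AddSubgroup V :=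
    { carrier := {v | v + v = 0}
      add_mem' := fun {a b} ha hb => by
        change a + b + (a + b) = 0
        change a + a = 0 at ha
        change b + b = 0 at hb
        linear_combination (norm := abel) ha + hb
      zero_mem' := add_zero (0 : V)
      neg_mem' := fun {a} ha => by
        change -a + -a = 0
        change a + a = 0 at ha
        linear_combination (norm := abel) -ha }
  rcases B.irr U (fun h v hv => by
    change h • v + h • v = 0
    rw [← smul_add, show v + v = 0 from hv, smul_zero]) with e | e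
  · have X : Od B := ⟨fun v hv => by rw [← AddSubgroup.mem_bot, ← e]; exact hv, fun v => by
      obtain ⟨h, hh⟩ := B.all_W hg v
      exact ⟨_, B.g_neg hh⟩⟩
    by_cases hs : ∀ d : V, d ≠ 0 → ∀ c ∈ B.P d, c = 0
    · refine Or.inl (B.small fun h v => ?_)
      by_cases h0 : v - h • v = 0
      · exact Or.inl (sub_eq_zero.1 h0).symm
      · exact Or.inr (by linear_combination (norm := abel) hs _ h0 _ (X.uh h v))
    · push Not at hs
      obtain ⟨d, hd, c, hc, c0⟩ := hs
      exact Or.inr (X.fin2 hd hc c0).concl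
  · refine Or.inr (B.two (fun v => ?_) hg).concl
    have : v + v = 0 := show v ∈ U from e ▸ AddSubgroup.mem_top v
    linear_combination (norm := abel) -this

end H99.BA
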