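import Cfsg.Agent.H99.BA5

/-! Binary primitive affine groups: reduction to the linear classification. -/

set_option autoImplicit false

namespace H99.BA

open MulAction

variable {G Ω : Type*} [Group G] [MulAction G Ω]

variable (G Ω) in
def BinP : Prop := ∀ (n : ℕ) (I J : Fin n → Ω), 2 ≤ n →
  (∀ i j : Fin n, i ≠ j → ∃ g : G, g • I i = J i ∧ g • I j = J j) → ∃ g : G, ∀ i, g • I i = J i

variable (G Ω) in
def Right : Prop :=
  ∃ (F E : Type) (_ : Field F) (_ : Fintype F) (_ : Field E) (_ : Fintype E) (_ : Algebra F E)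
    (e : Ω ≃ E), Module.finrank F E = 2 ∧
    ∀ σ : Equiv.Perm Ω, σ ∈ (MulAction.toPermHom G Ω).range ↔
      ∃ (a b : E) (φ : E ≃ₐ[F] E), Algebra.norm F a = 1 ∧ ∀ ω : Ω, e (σ ω) = a * φ (e ω) + b

theorem red {H V : Type*} [Group H] [AddCommGroup V] [DistribMulAction H V] [Finite H] [Finite V]
    [Nontrivial V] (hprim : IsPreprimitive G Ω) (hbin : BinP G Ω) (β : V ≃ Ω)
    (h0 : ∀ h : H, (∀ v : V, h • v = v) → h = 1)
    (h1 : ∀ (c : V) (h : H), ∃ g : G, ∀ v, g • β v = β (c + h • v))
    (h2 : ∀ g : G, ∃ (c : V) (h : H), ∀ v, g • β v = β (c + h • v)) :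
    ((Nat.card V).Prime ∧ Nat.card H ≤ 2) ∨ Right G Ω := by
  have B : Bin H V := by
    refine ⟨h0, fun U hU => ?_, fun A f hf => ?_⟩
    · have hb : IsBlock G (β '' U) := isBlock_iff_smul_eq_of_mem.2 (by
        rintro g _ ⟨u, hu, rfl⟩ ⟨u', hu', e⟩
        obtain ⟨c, h, hg⟩ := h2 g
        rw [hg, β.injective.eq_iff] at e
        have hc : c ∈ U := by
          have := sub_mem hu' (hU h u hu)
          rwa [e, add_sub_cancel_right] at this
        ext x
        constructor
        · rintro ⟨_, ⟨w, hw, rfl⟩, rfl⟩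
          exact ⟨_, add_mem hc (hU h w hw), (hg w).symm⟩
        · rintro ⟨w, hw, rfl⟩
          refine ⟨_, ⟨h⁻¹ • (w - c), hU _ _ (sub_mem hw hc), rfl⟩, ?_⟩
          change g • β _ = _
          rw [hg, smul_inv_smul, add_sub_cancel])
      rcases hb.subsingleton_or_eq_univ with e | e
      · exact Or.inl ((AddSubgroup.eq_bot_iff_forall _).2 fun x hx =>
          β.injective (e ⟨x, hx, rfl⟩ ⟨0, zero_mem _, rfl⟩))
      · refine Or.inr ((AddSubgroup.eq_top_iff' _).2 fun x => ?_)
        obtain ⟨y, hy, e'⟩ : β x ∈ β '' U := e ▸ Set.mem_univ _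
        exact β.injective e' ▸ hy
    · rcases A.eq_empty_or_nonempty with rfl | ⟨a₀, ha₀⟩
      · exact ⟨1, 0, fun _ h => h.elim⟩
      classical
      obtain ⟨n, ⟨ε⟩⟩ := Finite.exists_equiv_fin V
      let ι : Fin (n + 2) → V := fun i =>
        if h : i.1 < n then (if ε.symm ⟨i.1, h⟩ ∈ A then ε.symm ⟨i.1, h⟩ else a₀) else a₀
      have hι : ∀ i, ι i ∈ A := fun i => by
        simp only [ι]
        split_ifs with h h' <;> assumption
      obtain ⟨g, hg⟩ := hbin (n + 2) (fun i => β (ι i)) (fun i => β (f (ι i))) (by omega)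
        (fun i j _ => by
          obtain ⟨h, hh⟩ := hf _ (hι i) _ (hι j)
          obtain ⟨g, hg⟩ := h1 (f (ι j) - h • ι j) h
          rw [smul_sub] at hh
          refine ⟨g, ?_, ?_⟩ <;> rw [hg, β.injective.eq_iff]
          · linear_combination (norm := abel) hh
          · abel)
      obtain ⟨c, h, hg'⟩ := h2 g
      refine ⟨h, c, fun a ha => ?_⟩
      have := hg ⟨(ε a).1, by have := (ε a).2; omega⟩
      simp only [ι, (ε a).2, dif_pos, Fin.eta, Equiv.symm_apply_apply, ha, if_true, hg',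
        β.injective.eq_iff] at this
      rw [← this, add_comm]
  refine B.main.imp id ?_
  rintro ⟨F, E, _, _, _, _, _, e, hr, k1, k2⟩
  refine ⟨F, E, inferInstance, inferInstance, inferInstance, inferInstance, inferInstance,
    β.symm.trans e.toEquiv, hr, fun σ => ⟨?_, ?_⟩⟩
  · rintro ⟨g, rfl⟩
    obtain ⟨c, h, hg⟩ := h2 g
    obtain ⟨a, φ, ha, hφ⟩ := k1 h
    refine ⟨a, e c, φ, ha, fun ω => ?_⟩
    obtain ⟨v, rfl⟩ := β.surjective ω
    simp [hg, hφ, add_comm]
  · rintro ⟨a, b, φ, ha, hσ⟩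
    obtain ⟨h, hh⟩ := k2 a φ ha
    obtain ⟨g, hg⟩ := h1 (e.symm b) h
    refine ⟨g, Equiv.ext fun ω => ?_⟩
    obtain ⟨v, rfl⟩ := β.surjective ω
    have := hσ (β v)
    apply (β.symm.trans e.toEquiv).injective
    rw [this]
    simp [hg, hh, add_comm]

theorem aux [Finite G] [FaithfulSMul G Ω] (hprim : IsPreprimitive G Ω) (N : Subgroup G) [hN : N.Normal]
    (h1 : N ≠ ⊥) (hc : IsMulCommutative N) (hbin : BinP G Ω) (ω : Ω) :
    ((Nat.card Ω).Prime ∧ Nat.card (stabilizer G ω) ≤ 2) ∨ Right G Ω := by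
  have htr : IsPretransitive N Ω := IsQuasiPreprimitive.isPretransitive_of_normal (fun e =>
    h1 ((Subgroup.eq_bot_iff_forall _).2 fun n hn => eq_of_smul_eq_smul (α := Ω) fun x => by
      have : x ∈ fixedPoints N Ω := e ▸ Set.mem_univ x
      rw [one_smul]; exact this ⟨n, hn⟩))
  letI : CommGroup N := { (inferInstance : Group N) with mul_comm := hc.is_comm.comm }
  letI : DistribMulAction (stabilizer G ω) (Additive N) :=
    { smul := fun h v => Additive.ofMul (MulAut.conjNormal (h : G) v.toMul)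
      one_smul := fun v => by
        change Additive.ofMul (MulAut.conjNormal ((1 : stabilizer G ω) : G) v.toMul) = v
        simp
      mul_smul := fun a b v => by
        change Additive.ofMul (MulAut.conjNormal ((a * b : stabilizer G ω) : G) v.toMul) =
          Additive.ofMul (MulAut.conjNormal (a : G) (MulAut.conjNormal (b : G) v.toMul))
        simp
      smul_zero := fun a => by
        change Additive.ofMul (MulAut.conjNormal (a : G) 1) = 0
        simp
      smul_add := fun a x y => by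
        change Additive.ofMul (MulAut.conjNormal (a : G) (x.toMul * y.toMul)) = _
        rw [map_mul]; rfl }
  have hs : ∀ (h : stabilizer G ω) (v : Additive N),
      (((h • v).toMul : N) : G) = h * (v.toMul : G) * (h : G)⁻¹ := fun _ _ => rfl
  have hb : Function.Bijective fun v : Additive N => ((v.toMul : N) : G) • ω := by
    refine ⟨fun a b e => ?_, fun x => ?_⟩
    · refine Additive.toMul.injective (Subtype.ext (eq_of_smul_eq_smul (α := Ω) fun x => ?_))
      obtain ⟨m, rfl⟩ := htr.exists_smul_eq ω x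
      have e' : ((a.toMul : N) : G) • ω = ((b.toMul : N) : G) • ω := e
      have k : ∀ a : N, (a : G) • m • ω = (m : G) • (a : G) • ω := fun a => by
        rw [Subgroup.smul_def, ← mul_smul, ← mul_smul, ← Subgroup.coe_mul, mul_comm, Subgroup.coe_mul]
      rw [k, k, e']
    · obtain ⟨m, rfl⟩ := htr.exists_smul_eq ω x
      exact ⟨Additive.ofMul m, rfl⟩
  let β := Equiv.ofBijective _ hb
  have hβ : ∀ v, β v = ((v.toMul : N) : G) • ω := fun _ => rfl
  have k : ∀ (c : Additive N) (h : stabilizer G ω) (v : Additive N),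
      (((c.toMul : N) : G) * h) • β v = β (c + h • v) := fun c h v => by
    rw [hβ, hβ, toMul_add, Subgroup.coe_mul, hs, mul_smul, mul_smul, mul_smul, mul_smul,
      inv_smul_eq_iff.2 (show ω = (h : G) • ω from h.2.symm)]
  have : Nontrivial N := (Subgroup.nontrivial_iff_ne_bot N).2 h1
  rw [← Nat.card_congr β]
  refine red hprim hbin β (fun h hh => Subtype.ext (eq_of_smul_eq_smul (α := Ω) fun x => ?_))
    (fun c h => ⟨_, k c h⟩) (fun g => ?_)
  · obtain ⟨v, rfl⟩ := β.surjective x
    have := k 0 h v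
    simpa [hh] using this
  · obtain ⟨c, hc⟩ := β.surjective (g • ω)
    refine ⟨c, ⟨((c.toMul : N) : G)⁻¹ * g, ?_⟩, fun v => ?_⟩
    · rw [mem_stabilizer_iff, mul_smul, ← hc, hβ, inv_smul_smul]
    · rw [← k]; simp

end H99.BA
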