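/- D3 tower (row S5261), slot A12: automorphisms of `Q₁` and `Q₂`. -/
import Cfsg.Agent.H90.D3Kit

set_option autoImplicit false
set_option linter.unusedSectionVars false
set_option linter.unusedSimpArgs false

open Subgroup H90.D3
open H90.RF (cm Au Pr Cg Lg)

universe v

namespace H99.D3

variable {K : Type v} [Field K] [Finite K] {T : CF K} {β : Co T → Co T}

/-- an additive map that is semilinear for each scalar -/
theorem semi_of {k : Type*} [Field k] [Finite k] (μ : k → k) (ha : ∀ x y, μ (x + y) = μ x + μ y)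
    (h1 : μ 1 = 1) (hm : ∀ x y, μ (x * y) = μ x * μ y) : ∃ ψ : k ≃+* k, ∀ x, μ x = ψ x := by
  obtain ⟨φ, hφ⟩ := H90.U5.exists_semi μ ha (by rw [h1]; exact one_ne_zero) fun x y => by
    rw [h1, mul_one, hm]
  exact ⟨φ, fun x => by rw [hφ, h1, one_mul]⟩

/-! ### `Q₁` -/

theorem eqV_of {u w : Co T} (hu : u ∈ sQ1 T) (hw : w ∈ sQ1 T)
    (h : ∀ x ∈ sQ1 T, (cm u x).g = (cm w x).g) : EqV u w := by
  have k := fun x hx => (cm_g1 hu hx).symm.trans ((h x hx).trans (cm_g1 hw hx))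
  refine ⟨by simpa [xe] using k (xe T 1) rfl, sub_eq_zero.1 (T.tr_nd fun v => ?_),
    sub_eq_zero.1 (T.tr_nd fun v => ?_), by simpa [xb] using k (xb T 1) rfl⟩
  · have := k (xd T v) rfl
    simp only [xd, mul_zero, zero_mul, CF.tr_zero, sub_zero, add_zero, zero_sub, neg_inj] at this
    rw [sub_mul, T.tr_sub, this, sub_self]
  · have := k (xc T v) rfl
    simp only [xc, mul_zero, zero_mul, CF.tr_zero, sub_zero, add_zero, zero_add, neg_inj] at this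
    rw [sub_mul, T.tr_sub, mul_comm, this, mul_comm, sub_self]

theorem cm_sm (l : T.k) {u x : Co T} (hu : u ∈ sQ1 T) (hx : x ∈ sQ1 T) :
    (cm (u.sm l) x).g = l * (cm u x).g := by
  rw [cm_g1 (sm_mem l u) hx, cm_g1 hu hx, sm_b, sm_c, sm_d, sm_e, mul_left_comm x.c, T.tr_k,
    mul_assoc (l : K) u.c, T.tr_k]
  ring

theorem a1 : A1 T := fun β a => by
  let ζ : T.k → T.k := fun l => (β (xg T l)).gk
  have gZ : ∀ l, xg T l ∈ sZ T := fun _ => ⟨rfl, rfl, rfl, rfl, rfl⟩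
  have gQ : ∀ l, xg T l ∈ sQ1 T := fun _ => rfl
  have hζ : ∀ u ∈ sQ1 T, ∀ x ∈ sQ1 T, (cm (β u) (β x)).g = ζ (cm u x).gk := fun u hu x hx => by
    rw [← a.cm hu hx]
    conv_lhs => rw [eq_xg (cm_Q1 hu hx)]
    rfl
  have inj : ∀ x y, ζ x = ζ y → x = y := fun x y e => by
    have := a.eq (gQ x) (gQ y) (eq_of_Z (pr_Z1 a _ (gZ x)) (pr_Z1 a _ (gZ y)) (congrArg Subtype.val e))
    exact Subtype.ext (congrArg Co.g this)
  have add : ∀ x y, ζ (x + y) = ζ x + ζ y := fun x y => by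
    obtain ⟨h1, h2, h3, h4, h5⟩ := pr_Z1 a _ (gZ x)
    obtain ⟨k1, k2, k3, k4, k5⟩ := pr_Z1 a _ (gZ y)
    refine Subtype.ext ?_
    simp only [ζ, xg_add, a.mul _ (gQ x) _ (gQ y), Co.coe_gk, Subfield.coe_add, Co.mul_g]
    simp [*]
  obtain ⟨u0, h0, e0⟩ := a.sur (xb T 1) rfl
  have sc : ∀ l y, ζ (l * y) = (β (u0.sm l)).bk * ζ y := fun l y => by
    obtain ⟨x, hx, ex⟩ := a.sur (xe T (ζ y)) rfl
    have e1 : (cm u0 x).gk = y := inj _ _ (Subtype.ext (by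
      rw [← hζ u0 h0 x hx, e0, ex, cm_g1 rfl rfl]
      simp [xb, xe]))
    have e2 : (cm (u0.sm l) x).gk = l * y := Subtype.ext (by
      rw [Co.coe_gk, cm_sm l h0 hx, ← e1]; rfl)
    refine Subtype.ext ?_
    rw [← e2, ← hζ _ (sm_mem l u0) x hx, ex, cm_g1 (a.mem _ (sm_mem l u0)) rfl]
    simp [xe]
  have z0 : ζ 0 = 0 := by simpa using add 0 0
  have z1 : ζ 1 ≠ 0 := fun e => one_ne_zero (inj _ _ (e.trans z0.symm))
  obtain ⟨φ, hφ⟩ := H90.U5.exists_semi ζ add z1 fun x y => by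
    have := sc x 1
    rw [mul_one] at this
    rw [sc, this]; ring
  refine ⟨φ, fun l u hu => eqV_of (a.mem _ (sm_mem l u)) (sm_mem _ _) fun y hy => ?_⟩
  obtain ⟨x, hx, rfl⟩ := a.sur y hy
  have e2 : (cm (u.sm l) x).gk = l * (cm u x).gk := Subtype.ext (by
    rw [Co.coe_gk, cm_sm l hu hx]; rfl)
  rw [cm_sm _ (a.mem u hu) hy, hζ _ (sm_mem l u) x hx, hζ u hu x hx, e2, hφ, hφ (cm u x).gk, map_mul]
  push_cast
  ring

theorem jobA1 : JobA1.{v} := fun _ _ _ _ _ _ _ => a1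

/-! ### `Q₂` -/

theorem cr_nd {x : K} (h : ∀ t, T.cr x t = 0) : x = 0 := by
  by_contra hx
  obtain ⟨l, hl⟩ := (T.cr_eq_zero hx (h (T.ω * x))).2
  exact T.ne (by rw [mul_right_cancel₀ hx hl, CF.σ_k])

theorem prB {X : Subgroup (Co T)} (h : Au X β) : Pr β ⊥ := fun c hc => by
  rw [mem_bot.1 hc, h.one]; exact one_mem _

theorem memZ3 {u : Co T} (hu : u ∈ sQ2 T) (h : ∀ s ∈ sQ2 T, cm s u ∈ sW T) : u ∈ sZ3 T := by
  have hb : u.b = 0 := hu
  refine ⟨cr_nd (T := T) fun t => ?_, hu, cr_nd (T := T) fun t => ?_⟩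
  · simpa [cm_d, xc, hb] using (h (xc T t) rfl).2.2.2
  · simpa [cm_d, xa, hb, T.cr_comm u.c] using (h (xa T t) rfl).2.2.2

theorem memW {u : Co T} (hu : u ∈ sQ2 T) (h : ∀ s ∈ sQ2 T, cm s u ∈ (⊥ : Subgroup (Co T))) :
    u ∈ sW T := by
  have h3 := memZ3 hu fun s hs => bot_le (a := sW T) (h s hs)
  refine ⟨h3.1, h3.2.1, h3.2.2, T.tr_nd fun t => ?_⟩
  have := congrArg Co.e (mem_bot.1 (h (xa T t) rfl))
  rw [cm_e3 _ h3] at this
  simpa [xa, mul_comm] using this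

theorem prW (h : Au (sQ2 T) β) : Pr β (sW T) := fun u hu =>
  memW (h.mem u hu.2.1) (h.cm_mem' le_rfl h.mem (prB h) hu.2.1 fun _ hs => cm_Q2_W hs hu)

theorem prZ3 (h : Au (sQ2 T) β) : Pr β (sZ3 T) := fun u hu =>
  memZ3 (h.mem u hu.2.1) (h.cm_mem' le_rfl h.mem (prW h) hu.2.1 fun s _ => cm_W s hu)

theorem eq_of_W {u w : Co T} (hu : u ∈ sW T) (hw : w ∈ sW T) (h : u.e = w.e) (k : u.g = w.g) :
    u = w := by
  obtain ⟨h1, h2, h3, h4⟩ := hu
  obtain ⟨k1, k2, k3, k4⟩ := hw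
  ext <;> simp [*]

theorem pe {z y : Co T} (hz : z ∈ sZ3 T) : (cm z y).e = T.tr (y.a * z.d) := cm_e3' hz y

theorem pg {z y : Co T} (hz : z ∈ sZ3 T) (hy : y ∈ sQ2 T) : (cm z y).g = T.tr (y.c * z.d) := by
  rw [cm_g3' hz, (mem_sQ2 T).1 hy, zero_mul, sub_zero]

theorem a2 : A2 T := fun β a => by
  let G : K → K := fun v => (β (xd T v)).d
  have dZ : ∀ v, xd T v ∈ sZ3 T := fun _ => ⟨rfl, rfl, rfl⟩
  have dQ : ∀ v, xd T v ∈ sQ2 T := fun _ => rfl
  have bZ : ∀ v, β (xd T v) ∈ sZ3 T := fun v => prZ3 a _ (dZ v)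
  have add : ∀ x y, G (x + y) = G x + G y := fun x y => by
    obtain ⟨h1, h2, h3⟩ := bZ x
    obtain ⟨k1, k2, k3⟩ := bZ y
    simp only [G, xd_add, a.mul _ (dQ x) _ (dQ y), Co.mul_d]
    simp [*]
  have G0 : ∀ x, G x = 0 → x = 0 := fun x e =>
    (a.mem_of W_le_Q2 (prW a) (dQ x) ⟨(bZ x).1, (bZ x).2.1, (bZ x).2.2, e⟩).2.2.2
  let G' : K →+ K := AddMonoidHom.mk' G add
  have sur : Function.Surjective G :=
    Finite.surjective_of_injective (f := G') ((injective_iff_map_eq_zero G').2 G0)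
  have he : ∀ y ∈ sQ2 T, ∀ v, (β (cm (xd T v) y)).e = T.tr ((β y).a * G v) := fun y hy v => by
    rw [a.cm (dQ v) hy, pe (bZ v)]
  have hg : ∀ y ∈ sQ2 T, ∀ v, (β (cm (xd T v) y)).g = T.tr ((β y).c * G v) := fun y hy v => by
    rw [a.cm (dQ v) hy, pg (bZ v) (a.mem y hy)]
  have cW : ∀ v y, cm (xd T v) y ∈ sW T := fun v y => cm_W' (dZ v) y
  have key : ∀ (l : T.k) (x x' v v' : K), T.tr (x * G v) = T.tr (x' * G v') →
      T.tr (x * G (l * v)) = T.tr (x' * G (l * v')) := fun l x x' v v' e => by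
    obtain ⟨y, hy, ey⟩ := a.sur (xa T x) rfl
    obtain ⟨y', hy', ey'⟩ := a.sur (xa T x') rfl
    have e1 : cm (xd T v) y = cm (xd T v') y' :=
      a.eq (W_le_Q2 (cW _ _)) (W_le_Q2 (cW _ _)) (eq_of_W (prW a _ (cW _ _)) (prW a _ (cW _ _))
        (by rw [he y hy, he y' hy', ey, ey']; exact e)
        (by rw [hg y hy, hg y' hy', ey, ey']; simp [xa]))
    have e2 : cm (xd T (l * v)) y = cm (xd T (l * v')) y' := by
      have k1 := congrArg Co.e e1
      have k2 := congrArg Co.g e1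
      rw [pe (dZ _), pe (dZ _)] at k1
      rw [pg (dZ _) hy, pg (dZ _) hy'] at k2
      refine eq_of_W (cW _ _) (cW _ _) ?_ ?_
      · rw [pe (dZ _), pe (dZ _)]
        simp only [xd] at k1 ⊢
        rw [mul_left_comm, T.tr_k, k1, mul_left_comm, T.tr_k]
      · rw [pg (dZ _) hy, pg (dZ _) hy']
        simp only [xd] at k2 ⊢
        rw [mul_left_comm, T.tr_k, k2, mul_left_comm, T.tr_k]
    have := congrArg (fun w => (β w).e) e2
    simp only [he y hy, he y' hy', ey, ey'] at this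
    exact this
  obtain ⟨v1, h1⟩ := sur 1
  obtain ⟨v0, h0⟩ := T.exists_tr one_ne_zero 1
  rw [one_mul, Subfield.coe_one] at h0
  have sc : ∀ (l : T.k) v, G (l * v) = T.trk (v0 * G (l * v1)) * G v := fun l v =>
    sub_eq_zero.1 (T.tr_nd fun x => by
      have := key l x (T.trk (x * G v) * v0) v v1 (by rw [h1, mul_one, T.tr_k, h0, mul_one]; rfl)
      rw [mul_assoc, T.tr_k] at this
      rw [sub_mul, T.tr_sub, mul_assoc, T.tr_k, mul_comm (G _) x, this, mul_comm (G v) x]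
      simp only [CF.coe_trk]
      ring)
  have sc1 : ∀ l : T.k, (T.trk (v0 * G (l * v1)) : K) = G (l * v1) := fun l => by
    have := sc l v1
    rw [h1, mul_one] at this
    exact this.symm
  obtain ⟨ψ, hψ⟩ := semi_of (fun l : T.k => T.trk (v0 * G (l * v1)))
    (fun x y => Subtype.ext (by
      rw [sc1, Subfield.coe_add, Subfield.coe_add, sc1, sc1, add_mul, add]))
    (Subtype.ext (by rw [sc1, Subfield.coe_one, one_mul, h1]))
    fun x y => Subtype.ext (by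
      rw [sc1, Subfield.coe_mul, Subfield.coe_mul, sc1 y, mul_assoc, sc x])
  have sG : ∀ (l : T.k) v, G (l * v) = ψ l * G v := fun l v => by rw [sc, ← hψ]
  choose H hH using sur
  have HG : ∀ v, H (G v) = v := fun v =>
    (injective_iff_map_eq_zero G').2 G0 (hH (G v))
  have tk : ∀ (l : T.k) x, T.trk (l * x) = l * T.trk x := fun l x => Subtype.ext (T.tr_k l x)
  have ta : ∀ x y, T.trk (x + y) = T.trk x + T.trk y := fun x y => Subtype.ext (T.tr_add x y)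
  have ex : ∀ t, ∃ f, ∀ v, (ψ (T.trk (t * v)) : K) = T.tr (f * G v) := fun t => by
    obtain ⟨f, hf⟩ := T.exists_dual (fun w => (ψ (T.trk (t * H w)) : K)) (fun x y => by
      obtain ⟨x, rfl⟩ : ∃ x', G x' = x := ⟨_, hH x⟩
      obtain ⟨y, rfl⟩ : ∃ y', G y' = y := ⟨_, hH y⟩
      simp only [← add, HG, mul_add, ta, map_add, Subfield.coe_add]) (fun l x => by
      obtain ⟨x, rfl⟩ : ∃ x', G x' = x := ⟨_, hH x⟩
      obtain ⟨l, rfl⟩ := ψ.surjective l
      simp only [← sG, HG, mul_left_comm t, tk, map_mul, Subfield.coe_mul]) (fun x => CF.σ_k _ _)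
    exact ⟨f, fun v => by rw [← hf, HG]⟩
  choose F hF using ex
  have nd : ∀ x y, (∀ v, T.tr (x * G v) = T.tr (y * G v)) → x = y := fun x y h =>
    sub_eq_zero.1 (T.tr_nd fun w => by rw [sub_mul, T.tr_sub, ← hH w, h, sub_self])
  have Fa : ∀ x y, F (x + y) = F x + F y := fun x y => nd _ _ fun v => by
    rw [add_mul, T.tr_add, ← hF, ← hF, ← hF, add_mul, ta, map_add, Subfield.coe_add]
  let F' : K →+ K := AddMonoidHom.mk' F Fa
  have Fi : Function.Injective F' := (injective_iff_map_eq_zero F').2 fun x e => T.tr_nd fun v => by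
    have := hF x v
    rw [show F x = 0 from e, zero_mul, T.tr_zero] at this
    exact congrArg Subtype.val ((map_eq_zero_iff ψ ψ.injective).1 (Subtype.ext this))
  refine ⟨AddEquiv.ofBijective F' (Finite.injective_iff_bijective.1 Fi), ψ,
    T.trk ((β (xa T 1)).a * G v0), T.trk ((β (xc T 1)).a * G v0), T.trk ((β (xa T 1)).c * G v0),
    T.trk ((β (xc T 1)).c * G v0), fun l t => nd _ _ fun v => ?_, fun u hu => ?_⟩
  · show T.tr (F (l * t) * G v) = T.tr (ψ l * F t * G v)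
    rw [← hF, mul_assoc (ψ l : K), T.tr_k, ← hF, mul_assoc, tk, map_mul, Subfield.coe_mul]
  have dec : ∀ v, cm (xd T v) u = cm (xd T (T.trk (u.a * v) * v0)) (xa T 1) *
      cm (xd T (T.trk (u.c * v) * v0)) (xc T 1) := fun v => by
    obtain ⟨h1, h2, h3, h4⟩ := cW (T.trk (u.a * v) * v0) (xa T 1)
    obtain ⟨k1, k2, k3, k4⟩ := cW (T.trk (u.c * v) * v0) (xc T 1)
    refine eq_of_W (cW _ _) (mul_mem (cW _ _) (cW _ _)) ?_ ?_
    · rw [Co.mul_e, k1, pe (dZ _), pe (dZ _), pe (dZ _)]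
      simp only [xd, xa, xc, one_mul, T.tr_k, h0]
      simp
    · rw [Co.mul_g, k1, k2, k3, pg (dZ _) hu, pg (dZ _) rfl, pg (dZ _) rfl]
      simp only [xd, xa, xc, one_mul, T.tr_k, h0]
      simp
  have mW : ∀ x ∈ sW T, ∀ y ∈ sW T, (x * y).e = x.e + y.e ∧ (x * y).g = x.g + y.g := fun x hx y hy => by
    simp [hx.1, hx.2.1, hx.2.2.1, hx.2.2.2, hy.1, hy.2.1, hy.2.2.1, hy.2.2.2]
  constructor <;> refine nd _ _ fun v => ?_
  · show _ = T.tr ((_ * F u.a + _ * F u.c) * G v)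
    rw [← he u hu, dec, a.mul _ (W_le_Q2 (cW _ _)) _ (W_le_Q2 (cW _ _)),
      (mW _ (prW a _ (cW _ _)) _ (prW a _ (cW _ _))).1, he _ rfl, he _ rfl, sG, sG, add_mul, T.tr_add,
      mul_assoc, mul_assoc, T.tr_k, T.tr_k, ← hF, ← hF, mul_left_comm, T.tr_k, mul_left_comm, T.tr_k]
    simp only [CF.coe_trk]
    ring
  · show _ = T.tr ((_ * F u.a + _ * F u.c) * G v)
    rw [← hg u hu, dec, a.mul _ (W_le_Q2 (cW _ _)) _ (W_le_Q2 (cW _ _)),
      (mW _ (prW a _ (cW _ _)) _ (prW a _ (cW _ _))).2, hg _ rfl, hg _ rfl, sG, sG, add_mul, T.tr_add,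
      mul_assoc, mul_assoc, T.tr_k, T.tr_k, ← hF, ← hF, mul_left_comm, T.tr_k, mul_left_comm, T.tr_k]
    simp only [CF.coe_trk]
    ring

theorem jobA2 : JobA2.{v} := fun _ _ _ _ _ _ _ => a2

/-! ### What `Y₂` induces -/

variable {p : ℕ} {Y0 Y1 Y2 : Subgroup (Equiv.Perm (Co T))}

theorem c2 (t : Tri T p Y0 Y1 Y2) (s : Co T) : ∃ γ ∈ Y2, ∀ u ∈ sQ2 T, γ u = s * u * s⁻¹ := by
  obtain ⟨y, hy, e⟩ := t.inn s
  obtain ⟨γ, hγ, e'⟩ := t.res2 y hy
  exact ⟨γ, hγ, fun u hu => by rw [e' u hu, e]⟩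

/-- `Y₂` contains an element with the given matrix on `Q₂ / Z₃` -/
def Mx (Y2 : Subgroup (Equiv.Perm (Co T))) (m n r s : T.k) : Prop :=
  ∃ α ∈ Y2, ∀ u ∈ sQ2 T, (α u).c = m * u.c + n * u.a ∧ (α u).a = r * u.c + s * u.a

theorem Mx.mul (l : Lg (sQ2 T) Y2) {m n r s m' n' r' s' : T.k} (h : Mx Y2 m n r s)
    (h' : Mx Y2 m' n' r' s') :
    Mx Y2 (m * m' + n * r') (m * n' + n * s') (r * m' + s * r') (r * n' + s * s') := by
  obtain ⟨α, hα, e⟩ := h
  obtain ⟨β, hβ, e'⟩ := h'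
  refine ⟨α * β, mul_mem hα hβ, fun u hu => ?_⟩
  obtain ⟨h1, h2⟩ := e _ ((l.au β hβ).mem u hu)
  rw [Equiv.Perm.mul_apply, h1, h2, (e' u hu).1, (e' u hu).2]
  constructor <;> push_cast <;> ring

theorem jobG2 : JobG2.{v} := fun _ _ K _ _ _ T a2 Y0 Y1 Y2 t ⟨α, hα, mv⟩ => by
  have U : ∀ x, Mx Y2 1 x 0 1 := fun x => (c2 t (xb T x)).imp fun γ h =>
    ⟨h.1, fun u hu => by rw [h.2 u hu, (cj_Q2 _ hu).1, (cj_Q2 _ hu).2]; simp [xb]⟩
  have a := t.l2.au α hα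
  obtain ⟨F, ψ, s, r, n, m, hF, h⟩ := a2 α a
  have hr : r ≠ 0 := fun e => mv fun c hc => ⟨by simp [(h c hc.2).1, e, hc.1], a.mem c hc.2⟩
  have hr' : (r : K) ≠ 0 := fun e => hr (Subtype.ext e)
  have hd : m * s - n * r ≠ 0 := fun e => by
    obtain ⟨u, hu, k⟩ := a.sur (xc T 1) rfl
    obtain ⟨h1, h2⟩ := h u hu
    have e' := congrArg Subtype.val e
    simp only [k, xc] at h1 h2
    push_cast at e'
    exact hr' (by linear_combination r * h2 - m * h1 - F u.a * e')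
  have L : ∀ x, Mx Y2 1 0 x 1 := fun x => by
    obtain ⟨σ, hσ, e⟩ := U (ψ.symm (-x * (m * s - n * r) / r ^ 2))
    have k : Mx Y2 (1 + x * m / r) (-(x * m ^ 2 / r ^ 2)) x (1 - x * m / r) :=
      ⟨α * σ * α⁻¹, mul_mem (mul_mem hα hσ) (inv_mem hα), fun u hu => by
        obtain ⟨u, hu', rfl⟩ := a.sur u hu
        obtain ⟨h1, h2⟩ := h _ ((t.l2.au σ hσ).mem u hu')
        simp only [Equiv.Perm.mul_apply, show α⁻¹ (α u) = u from α.symm_apply_apply u, h1, h2, h u hu',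
          e u hu', map_add, hF, ψ.apply_symm_apply, map_one, map_zero, Subfield.coe_one,
          Subfield.coe_zero, one_mul, zero_mul, zero_add]
        constructor <;> push_cast <;> field_simp <;> ring⟩
    convert ((U (-m / r)).mul t.l2 k).mul t.l2 (U (m / r)) using 1 <;> field_simp <;> ring
  have N : ∀ x : T.k, x ≠ 0 → Mx Y2 0 x (-x⁻¹) 0 := fun x hx => by
    convert ((U x).mul t.l2 (L (-x⁻¹))).mul t.l2 (U x) using 1 <;> field_simp <;> ring
  refine ⟨?_, fun x hx => ?_⟩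
  · obtain ⟨γ, hγ, e⟩ := N 1 one_ne_zero
    exact ⟨γ, hγ, fun u hu => ⟨by simpa using (e u hu).2, by simpa using (e u hu).1⟩⟩
  · obtain ⟨γ, hγ, e⟩ := (N x hx).mul t.l2 (N (-1) (by simp))
    exact ⟨γ, hγ, fun u hu => ⟨by simpa using (e u hu).2, by simpa using (e u hu).1⟩⟩

end H99.D3
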