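/- Homogeneous finite groups: extension of isomorphisms, characters of order two, inner maps. -/
import Cfsg.Agent.H98.YMin

set_option autoImplicit false

namespace H99.HG

open Subgroup H98 Function
open scoped commutatorElement

variable {G : Type*} [Group G]

/-- every isomorphism between subgroups extends to an automorphism. -/
def Hom (G : Type*) [Group G] : Prop :=
  ∀ (A B : Subgroup G) (e : ↥A ≃* ↥B), ∃ φ : G ≃* G, ∀ a : ↥A, φ (a : G) = (e a : G)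

theorem Hom.ext (h : Hom G) {K : Type*} [Group K] (f g : K →* G) (hf : Injective f)
    (hg : Injective g) : ∃ φ : G ≃* G, ∀ k, φ (f k) = g k := by
  obtain ⟨φ, hφ⟩ := h f.range g.range ((f.ofInjective hf).symm.trans (g.ofInjective hg))
  refine ⟨φ, fun k => ?_⟩
  have h1 := hφ (f.ofInjective hf k)
  rw [MulEquiv.trans_apply, MulEquiv.symm_apply_apply] at h1
  exact h1

theorem Hom.ext' (h : Hom G) (X : Subgroup G) (β : G → G)
    (hm : ∀ x ∈ X, ∀ y ∈ X, β (x * y) = β x * β y) (hi : ∀ x ∈ X, β x = 1 → x = 1) :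
    ∃ φ : G ≃* G, ∀ x ∈ X, φ x = β x := by
  let g : X →* G := MonoidHom.mk' (fun x => β x) fun x y => hm x x.2 y y.2
  obtain ⟨φ, hφ⟩ := h.ext X.subtype g X.subtype_injective
    ((injective_iff_map_eq_one g).2 fun x hx => Subtype.ext (hi x x.2 hx))
  exact ⟨φ, fun x hx => hφ ⟨x, hx⟩⟩

theorem exists_zp_equiv {x y : G} (h : orderOf x = orderOf y) :
    ∃ e : zpowers x ≃* zpowers y, (e ⟨x, mem_zpowers x⟩ : G) = y := by
  have hg : ∀ z : G, ∀ a : zpowers z, a ∈ zpowers (⟨z, mem_zpowers z⟩ : zpowers z) := by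
    rintro z ⟨_, k, rfl⟩
    exact ⟨k, Subtype.ext (by simp)⟩
  refine ⟨mulEquivOfOrderOfEq (hg x) (hg y) (by simpa [← orderOf_coe] using h), ?_⟩
  rw [mulEquivOfOrderOfEq_apply_gen]

/-- the weak form that passes to central quotients. -/
structure WH (G : Type*) [Group G] : Prop where
  w1 : ∀ x y : G, orderOf x = orderOf y → ∃ φ : G ≃* G, φ x = y
  w2 : ∀ p : ℕ, p.Prime → p ≠ 2 → ∀ x y y' : G, orderOf x = p → orderOf y = p → orderOf y' = p →
    Commute x y → Commute x y' → y ∉ zpowers x → y' ∉ zpowers x → ∃ φ : G ≃* G, φ x = x ∧ φ y = y'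

theorem Hom.w1 (h : Hom G) {x y : G} (ho : orderOf x = orderOf y) : ∃ φ : G ≃* G, φ x = y := by
  obtain ⟨e, he⟩ := exists_zp_equiv ho
  obtain ⟨φ, hφ⟩ := h _ _ e
  exact ⟨φ, (hφ ⟨x, mem_zpowers x⟩).trans he⟩

theorem disj_zp {p : ℕ} (hp : p.Prime) {x y : G} (hy : orderOf y = p) (h : y ∉ zpowers x) :
    Disjoint (zpowers x) (zpowers y) := by
  rw [disjoint_iff_inf_le]
  rintro a ⟨ha, k, rfl⟩
  by_contra h1
  refine h ?_
  have h2 : ¬ (p : ℤ) ∣ k := fun h2 => h1 (by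
    rw [mem_bot]; exact orderOf_dvd_iff_zpow_eq_one.1 (hy ▸ h2))
  have h3 : IsCoprime (p : ℤ) k := (Nat.prime_iff_prime_int.1 hp).coprime_iff_not_dvd.2 h2
  obtain ⟨u, v, huv⟩ := h3
  have h4 : y = (y ^ k) ^ v := by
    have : y ^ (p : ℤ) = 1 := by rw [zpow_natCast, ← hy, pow_orderOf_eq_one]
    calc y = y ^ (u * p + v * k) := by rw [huv, zpow_one]
      _ = _ := by rw [zpow_add, mul_comm u, zpow_mul, this, one_zpow, one_mul, mul_comm v, zpow_mul]
  rw [h4]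
  exact Subgroup.zpow_mem _ ha v

theorem Hom.wh (h : Hom G) : WH G := by
  refine ⟨fun x y => h.w1, fun p hp _ x y y' _ hy hy' c1 c2 n1 n2 => ?_⟩
  obtain ⟨e, he⟩ := exists_zp_equiv (hy.trans hy'.symm)
  have cm : ∀ {z : G}, Commute x z → ∀ (m : zpowers x) (n : zpowers z), Commute (m : G) (n : G) := by
    rintro z c ⟨_, i, rfl⟩ ⟨_, j, rfl⟩
    exact c.zpow_zpow i j
  obtain ⟨φ, hφ⟩ := h.ext ((zpowers x).subtype.noncommCoprod (zpowers y).subtype (cm c1))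
    ((zpowers x).subtype.noncommCoprod ((zpowers y').subtype.comp e.toMonoidHom)
      fun m n => cm c2 m (e n))
    ((MonoidHom.noncommCoprod_injective _ _ _).2 ⟨subtype_injective _, subtype_injective _, by
      simpa using disj_zp hp hy n1⟩)
    ((MonoidHom.noncommCoprod_injective _ _ _).2 ⟨subtype_injective _,
      (subtype_injective _).comp e.injective, by
        refine (disj_zp hp hy' n2).mono (by simp) ?_
        rintro _ ⟨a, rfl⟩
        exact (e a).2⟩)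
  refine ⟨φ, ?_, ?_⟩
  · have : φ (x * 1) = x * (e 1 : G) := hφ (⟨x, mem_zpowers x⟩, 1)
    simpa using this
  · have : φ (1 * y) = 1 * (e ⟨y, mem_zpowers y⟩ : G) := hφ (1, ⟨y, mem_zpowers y⟩)
    simpa [he] using this

theorem WH.of_equiv {G' : Type*} [Group G'] (h : WH G) (e : G ≃* G') : WH G' := by
  refine ⟨fun x y ho => ?_, fun p hp h2 x y y' h1 h3 h4 c1 c2 n1 n2 => ?_⟩
  · obtain ⟨φ, hφ⟩ := h.w1 (e.symm x) (e.symm y) (by simpa using ho)
    exact ⟨(e.symm.trans φ).trans e, by simp [hφ]⟩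
  · have nn : ∀ {z : G'}, z ∉ zpowers x → e.symm z ∉ zpowers (e.symm x) := by
      rintro z hz ⟨k, hk⟩
      exact hz ⟨k, e.symm.injective (by simpa using hk)⟩
    obtain ⟨φ, a1, a2⟩ := h.w2 p hp h2 (e.symm x) (e.symm y) (e.symm y') (by simpa using h1)
      (by simpa using h3) (by simpa using h4) (c1.map _) (c2.map _) (nn n1) (nn n2)
    exact ⟨(e.symm.trans φ).trans e, by simp [a1], by simp [a2]⟩

/-- `l` is a homomorphism `X → Z/2`. -/
def Lin (X : Subgroup G) (l : G → ZMod 2) : Prop := ∀ x ∈ X, ∀ y ∈ X, l (x * y) = l x + l y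

/-- `c ^ a` for `a : Z/2`. -/
def pw (c : G) (a : ZMod 2) : G := if a = 0 then 1 else c

theorem z2 (a : ZMod 2) : a = 0 ∨ a = 1 := by revert a; decide

theorem z2_add (a : ZMod 2) : a + a = 0 := by revert a; decide

theorem z2_11 : (1 + 1 : ZMod 2) = 0 := by decide

@[simp] theorem pw_zero (c : G) : pw c 0 = 1 := if_pos rfl

@[simp] theorem pw_one (c : G) : pw c 1 = c := if_neg (by decide)

@[simp] theorem one_pw (a : ZMod 2) : pw (1 : G) a = 1 := by rcases z2 a with rfl | rfl <;> simp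

theorem pw_add {c : G} (hc : c * c = 1) (a b : ZMod 2) : pw c (a + b) = pw c a * pw c b := by
  rcases z2 a with rfl | rfl <;> rcases z2 b with rfl | rfl <;> simp [z2_11, hc]

theorem pw_mem {U : Subgroup G} {c : G} (hc : c ∈ U) (a : ZMod 2) : pw c a ∈ U := by
  rcases z2 a with rfl | rfl <;> simp [hc]

theorem pw_conj (g c : G) (a : ZMod 2) : g * pw c a * g⁻¹ = pw (g * c * g⁻¹) a := by
  rcases z2 a with rfl | rfl <;> simp

theorem mul_pw {c d : G} (a : ZMod 2) : pw (c * d) a = pw c a * pw d a := by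
  rcases z2 a with rfl | rfl <;> simp

theorem Lin.one {X : Subgroup G} {l : G → ZMod 2} (h : Lin X l) : l 1 = 0 := by
  have := h 1 X.one_mem 1 X.one_mem
  rw [mul_one] at this
  rw [this, z2_add]

theorem Lin.inv {X : Subgroup G} {l : G → ZMod 2} (h : Lin X l) {x : G} (hx : x ∈ X) :
    l x⁻¹ = l x := by
  have := h x hx x⁻¹ (X.inv_mem hx)
  rw [mul_inv_cancel, h.one] at this
  rcases z2 (l x) with e | e <;> rcases z2 (l x⁻¹) with e' | e' <;> simp_all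

theorem Lin.add {X : Subgroup G} {l m : G → ZMod 2} (h : Lin X l) (h' : Lin X m) :
    Lin X fun x => l x + m x := fun x hx y hy => by
  simp only [h x hx y hy, h' x hx y hy]; ring

theorem Lin.mono {X Y : Subgroup G} {l : G → ZMod 2} (h : Lin X l) (hY : Y ≤ X) : Lin Y l :=
  fun x hx y hy => h x (hY hx) y (hY hy)

theorem Lin.conj {X : Subgroup G} {l : G → ZMod 2} (h : Lin X l) {g : G}
    (hg : ∀ x ∈ X, g⁻¹ * x * g ∈ X) : Lin X fun x => l (g⁻¹ * x * g) := fun x hx y hy => by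
  have : g⁻¹ * (x * y) * g = g⁻¹ * x * g * (g⁻¹ * y * g) := by group
  simp only [this, h _ (hg x hx) _ (hg y hy)]

/-- the kernel of `l` on `X`. -/
def Lin.ker {X : Subgroup G} {l : G → ZMod 2} (h : Lin X l) : Subgroup G where
  carrier := {x | x ∈ X ∧ l x = 0}
  one_mem' := ⟨X.one_mem, h.one⟩
  mul_mem' := fun {a b} ha hb => ⟨X.mul_mem ha.1 hb.1, by rw [h a ha.1 b hb.1, ha.2, hb.2, add_zero]⟩
  inv_mem' := fun {a} ha => ⟨X.inv_mem ha.1, by rw [h.inv ha.1, ha.2]⟩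

theorem Lin.mem_ker {X : Subgroup G} {l : G → ZMod 2} (h : Lin X l) {x : G} :
    x ∈ h.ker ↔ x ∈ X ∧ l x = 0 := Iff.rfl

theorem mem_of_odd_pow [Finite G] {K : Subgroup G} {a : G} {k m : ℕ} (ha : a ^ 2 ^ k = 1)
    (hm : Odd m) (h : a ^ m ∈ K) : a ∈ K := by
  refine mem_of_pow_mem_of_coprime h ?_
  obtain ⟨j, -, hj⟩ := (Nat.dvd_prime_pow Nat.prime_two).1 (orderOf_dvd_of_pow_eq_one ha)
  rw [hj]
  exact Nat.Coprime.pow_left _ (Nat.coprime_two_left.2 hm)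

theorem nrm' {M : Subgroup G} {b : G} (hb2 : b * b ∈ M) (hbn : ∀ y ∈ M, b * y * b⁻¹ ∈ M) :
    ∀ y ∈ M, b⁻¹ * y * b ∈ M := fun y hy => by
  have : b⁻¹ * y * b = (b * b)⁻¹ * (b * y * b⁻¹) * (b * b) := by group
  rw [this]; exact M.mul_mem (M.mul_mem (M.inv_mem hb2) (hbn y hy)) hb2

/-- `M ∪ b M`. -/
def ext2 (M : Subgroup G) (b : G) (hb2 : b * b ∈ M) (hbn : ∀ y ∈ M, b * y * b⁻¹ ∈ M) :
    Subgroup G where
  carrier := {x | x ∈ M ∨ b⁻¹ * x ∈ M}
  one_mem' := Or.inl M.one_mem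
  mul_mem' := by
    rintro x y (hx | hx) (hy | hy)
    · exact Or.inl (M.mul_mem hx hy)
    · refine Or.inr ?_
      have : b⁻¹ * (x * y) = (b⁻¹ * x * b) * (b⁻¹ * y) := by group
      rw [this]; exact M.mul_mem (nrm' hb2 hbn x hx) hy
    · exact Or.inr (by rw [← mul_assoc]; exact M.mul_mem hx hy)
    · refine Or.inl ?_
      have : x * y = (b * (b⁻¹ * x) * b⁻¹) * (b * b) * (b⁻¹ * y) := by group
      rw [this]; exact M.mul_mem (M.mul_mem (hbn _ hx) hb2) hy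
  inv_mem' := by
    rintro x (hx | hx)
    · exact Or.inl (M.inv_mem hx)
    · refine Or.inr ?_
      have : b⁻¹ * x⁻¹ = (b⁻¹ * (b⁻¹ * x)⁻¹ * b) * (b * b)⁻¹ := by group
      rw [this]; exact M.mul_mem (nrm' hb2 hbn _ (M.inv_mem hx)) (M.inv_mem hb2)

theorem not_mem2 {M : Subgroup G} {b : G} (hb1 : b ∉ M) (x : G) (hx : b⁻¹ * x ∈ M) : x ∉ M :=
  fun hx' => hb1 (by simpa using M.inv_mem (M.mul_mem hx (M.inv_mem hx')))

open Classical in
theorem lin_ind {X M : Subgroup G} {b : G} (hb1 : b ∉ M) (hb2 : b * b ∈ M)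
    (hbn : ∀ y ∈ M, b * y * b⁻¹ ∈ M) (hXM : X ≤ ext2 M b hb2 hbn) :
    Lin X fun x => if x ∈ M then 0 else 1 := fun x hx y hy => by
  have hno := not_mem2 hb1
  rcases hXM hx with h5 | h5 <;> rcases hXM hy with h6 | h6
  · simp [h5, h6, M.mul_mem h5 h6]
  · have : x * y ∉ M := fun h7 => hno y h6 (by simpa using M.mul_mem (M.inv_mem h5) h7)
    simp [h5, hno y h6, this]
  · have : x * y ∉ M := fun h7 => hno x h5 (by simpa using M.mul_mem h7 (M.inv_mem h6))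
    simp [h6, hno x h5, this]
  · have : x * y ∈ M := by
      have : x * y = (b * (b⁻¹ * x) * b⁻¹) * (b * b) * (b⁻¹ * y) := by group
      rw [this]; exact M.mul_mem (M.mul_mem (hbn _ h5) hb2) h6
    simp [this, hno x h5, hno y h6, z2_11]

/-- separation by an `R`-invariant character of order two. -/
theorem sepR [Finite G] {D X K : Subgroup G} (R : Set G) (hD : IsPGroup 2 D) (hX : X ≤ D)
    (hn : D ≤ normalizer (X : Set G)) (hR : R ⊆ D) (hK : ∀ r ∈ R, ∀ k ∈ K, r * k * r⁻¹ ∈ K)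
    (hKX : K ≤ X) (h : ¬ X ≤ K) :
    ∃ l, Lin X l ∧ (∀ k ∈ K, l k = 0) ∧ (∃ x ∈ X, l x = 1) ∧
      ∀ r ∈ R, ∀ x ∈ X, l (r * x * r⁻¹) = l x := by
  classical
  have := Fact.mk Nat.prime_two
  obtain ⟨M, hM, hmax⟩ := Set.Finite.exists_maximal (s := {M : Subgroup G | K ≤ M ∧ M ≤ X ∧ ¬ X ≤ M ∧
    ∀ r ∈ R, ∀ k ∈ M, r * k * r⁻¹ ∈ M}) (Set.toFinite _) ⟨K, le_rfl, hKX, h, hK⟩
  obtain ⟨h1, h2, h3, h4⟩ := hM
  obtain ⟨a, ha, ha1, ha2⟩ := exists_fix_mod (hD.to_le hX) hD hn h3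
  obtain ⟨k, hk⟩ := isPGroup_iff_forall.1 hD a (hX ha)
  -- some power `b` of `a` has `b ∉ M`, `b * b ∈ M`
  have hpow : ∀ n : ℕ, ∀ d ∈ D, ⁅a ^ n, d⁆ ∈ M := by
    intro n d hd
    induction n with
    | zero => simp
    | succ n ih =>
      have e : ⁅a ^ (n + 1), d⁆ = ⁅a, ⁅a ^ n, d⁆⁆ * ⁅a ^ n, d⁆ * ⁅a, d⁆ := by
        simp only [commutatorElement_def, pow_succ']; group
      rw [e]
      exact M.mul_mem (M.mul_mem (ha2 _ (hX (h2 ih))) ih) (ha2 d hd)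
  obtain ⟨b, hb, hb1, hb2, hb3⟩ : ∃ b ∈ X, b ∉ M ∧ b * b ∈ M ∧ ∀ d ∈ D, ⁅b, d⁆ ∈ M := by
    have hex : ∃ n, a ^ 2 ^ n ∈ M := ⟨k, hk ▸ M.one_mem⟩
    have h5 := Nat.find_spec hex
    have h6 : Nat.find hex ≠ 0 := fun e => ha1 (by simpa [e] using h5)
    obtain ⟨m, hm⟩ := Nat.exists_eq_succ_of_ne_zero h6
    refine ⟨a ^ 2 ^ m, X.pow_mem ha _, Nat.find_min hex (by omega), ?_, hpow _⟩
    rw [hm] at h5
    rwa [← pow_add, ← two_mul, ← pow_succ']
  have hbn : ∀ y ∈ M, b * y * b⁻¹ ∈ M := fun y hy => by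
    have : b * y * b⁻¹ = ⁅b, y⁆ * y := by simp only [commutatorElement_def]; group
    rw [this]; exact M.mul_mem (hb3 y (hX (h2 hy))) hy
  have hconj : ∀ r ∈ R, b⁻¹ * (r * b * r⁻¹) ∈ M := fun r hr => by
    have : b⁻¹ * (r * b * r⁻¹) = b⁻¹ * ⁅b, r⁆⁻¹ * b := by simp only [commutatorElement_def]; group
    rw [this]; exact nrm' hb2 hbn _ (M.inv_mem (hb3 r (hR hr)))
  have hXM : X ≤ ext2 M b hb2 hbn := by
    by_contra h5
    have h6 : ext2 M b hb2 hbn ≤ M := hmax ⟨fun x hx => Or.inl (h1 hx), ?_, h5, ?_⟩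
      fun x hx => Or.inl hx
    · exact hb1 (h6 (Or.inr (by simp)))
    · rintro x (hx | hx)
      · exact h2 hx
      · simpa using X.mul_mem hb (h2 hx)
    · rintro r hr x (hx | hx)
      · exact Or.inl (h4 r hr x hx)
      · refine Or.inr ?_
        have : b⁻¹ * (r * x * r⁻¹) = b⁻¹ * (r * b * r⁻¹) * (r * (b⁻¹ * x) * r⁻¹) := by group
        rw [this]; exact M.mul_mem (hconj r hr) (h4 r hr _ hx)
  have hno := not_mem2 hb1
  refine ⟨_, lin_ind hb1 hb2 hbn hXM, fun k hk => if_pos (h1 hk),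
    ⟨b, hb, if_neg hb1⟩, fun r hr x hx => ?_⟩
  rcases hXM hx with h5 | h5
  · simp [h5, h4 r hr x h5]
  · have : b⁻¹ * (r * x * r⁻¹) ∈ M := by
      have : b⁻¹ * (r * x * r⁻¹) = b⁻¹ * (r * b * r⁻¹) * (r * (b⁻¹ * x) * r⁻¹) := by group
      rw [this]; exact M.mul_mem (hconj r hr) (h4 r hr _ h5)
    simp [hno _ this, hno x h5]

theorem comm_of_sq {V : Subgroup G} (he : ∀ u ∈ V, u * u = 1) {x y : G} (hx : x ∈ V) (hy : y ∈ V) :
    x * y = y * x := by
  calc x * y = (x * y)⁻¹ := (inv_eq_of_mul_eq_one_right (he _ (V.mul_mem hx hy))).symm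
    _ = y * x := by
      rw [mul_inv_rev, inv_eq_of_mul_eq_one_right (he x hx), inv_eq_of_mul_eq_one_right (he y hy)]

/-- separation of a point in an elementary abelian group. -/
theorem sep' [Finite G] {V K : Subgroup G} {d : G} (he : ∀ u ∈ V, u * u = 1) (hKV : K ≤ V)
    (hd : d ∈ V) (hdK : d ∉ K) : ∃ l, Lin V l ∧ (∀ k ∈ K, l k = 0) ∧ l d = 1 := by
  classical
  obtain ⟨M, ⟨h1, h2, h3⟩, hmax⟩ := Set.Finite.exists_maximal
    (s := {M : Subgroup G | K ≤ M ∧ M ≤ V ∧ d ∉ M}) (Set.toFinite _) ⟨K, le_rfl, hKV, hdK⟩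
  have hs : ∀ b ∈ V, b * b ∈ M := fun b hb => he b hb ▸ M.one_mem
  have hn : ∀ b ∈ V, ∀ y ∈ M, b * y * b⁻¹ ∈ M := fun b hb y hy => by
    rwa [comm_of_sq he hb (h2 hy), mul_inv_cancel_right]
  refine ⟨_, lin_ind h3 (hs d hd) (hn d hd) fun y hy => ?_, fun k hk => if_pos (h1 hk), if_neg h3⟩
  by_cases h4 : d ∈ ext2 M y (hs y hy) (hn y hy)
  · rcases h4 with h4 | h4
    · exact absurd h4 h3
    · exact Or.inr (by simpa using M.inv_mem h4)
  · refine Or.inl (hmax (y := ext2 M y (hs y hy) (hn y hy)) ⟨fun x hx => Or.inl (h1 hx), ?_, h4⟩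
      (fun x hx => Or.inl hx) (Or.inr (by simp)))
    rintro x (hx | hx)
    · exact h2 hx
    · simpa using V.mul_mem hy (h2 hx)

theorem Lin.card_le [Finite G] {X : Subgroup G} {l : G → ZMod 2} (h : Lin X l) :
    Nat.card X ≤ 2 * Nat.card h.ker := by
  let f : X →* Multiplicative (ZMod 2) :=
    MonoidHom.mk' (fun x => Multiplicative.ofAdd (l x)) fun x y => by
      rw [← ofAdd_add, ← h x x.2 y y.2]; rfl
  have h1 : f.ker = h.ker.subgroupOf X := by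
    ext x
    rw [MonoidHom.mem_ker, mem_subgroupOf, h.mem_ker]
    exact ⟨fun e => ⟨x.2, e⟩, fun e => e.2⟩
  have h2 : Nat.card f.range ≤ 2 := by
    simpa using Subgroup.card_le_card_group f.range
  rw [← f.ker.card_mul_index, index_ker, h1,
    Nat.card_congr (subgroupOfEquivOfLe (show h.ker ≤ X from fun x hx => hx.1)).toEquiv, mul_comm]
  exact Nat.mul_le_mul_right _ h2

theorem exists_third [Finite G] {W : Subgroup G} (h : 2 < Nat.card W) (c : G) :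
    ∃ d ∈ W, d ≠ 1 ∧ d ≠ c := by
  by_contra h1
  have h2 : (W : Set G) ⊆ {1, c} := fun d hd => by
    by_contra h3
    simp only [Set.mem_insert_iff, Set.mem_singleton_iff, not_or] at h3
    exact h1 ⟨d, hd, h3⟩
  have h3 := Set.ncard_le_ncard h2
  have h4 := Set.ncard_insert_le (1 : G) {c}
  rw [Set.ncard_singleton] at h4
  have : Nat.card W = (W : Set G).ncard := rfl
  omega

theorem sep [Finite G] {X K : Subgroup G} (hX : IsPGroup 2 X) (hKX : K ≤ X) (h : ¬ X ≤ K) :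
    ∃ l, Lin X l ∧ (∀ k ∈ K, l k = 0) ∧ ∃ x ∈ X, l x = 1 := by
  obtain ⟨l, h1, h2, h3, -⟩ := sepR ∅ hX le_rfl le_normalizer (by simp) (by simp) hKX h
  exact ⟨l, h1, h2, h3⟩

theorem two_part [Finite G] (n : G) : ∃ m k : ℕ, Odd m ∧ (n ^ m) ^ 2 ^ k = 1 := by
  obtain ⟨k, m, hm, h⟩ := Nat.exists_eq_two_pow_mul_odd (orderOf_pos n).ne'
  exact ⟨m, k, hm, by rw [← pow_mul, mul_comm, ← h, pow_orderOf_eq_one]⟩

theorem conj_odd_pow {n x : G} (h : Commute (n * n) x) {m : ℕ} (hm : Odd m) :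
    n ^ m * x * (n ^ m)⁻¹ = n * x * n⁻¹ := by
  obtain ⟨r, rfl⟩ := hm
  have h1 : (n * n) ^ r * x * ((n * n) ^ r)⁻¹ = x := by
    rw [(h.pow_left r).eq, mul_inv_cancel_right]
  rw [pow_succ', pow_mul, pow_two]
  calc _ = n * ((n * n) ^ r * x * ((n * n) ^ r)⁻¹) * n⁻¹ := by group
    _ = _ := by rw [h1]

/-- **Inner maps.** -/
theorem Hom.inn [Finite G] (h : Hom G) {X U : Subgroup G} {l : G → ZMod 2} {c g : G} (hUX : U ≤ X)
    (hc : ∀ u ∈ U, ∀ x ∈ X, u * x = x * u) (he : ∀ u ∈ U, u * u = 1) (hl : Lin X l)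
    (hU : ∀ u ∈ U, l u = 0) (hcU : c ∈ U) (hgX : g ∈ normalizer (X : Set G))
    (hgU : g ∈ normalizer (U : Set G)) :
    ∃ j : G, (∃ k, j ^ 2 ^ k = 1) ∧
      ∀ x ∈ X, j * x * j⁻¹ = x * pw c (l x) * pw (g * c * g⁻¹) (l (g⁻¹ * x * g)) := by
  obtain ⟨φ, hφ⟩ := h.ext' X (fun x => x * pw c (l x)) (fun x hx y hy => by
    simp only [hl x hx y hy, pw_add (he c hcU)]
    rw [mul_assoc x (pw c (l x)), ← mul_assoc (pw c (l x)), hc _ (pw_mem hcU _) y hy]; group)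
    (fun x hx h1 => by
      have h2 : x ∈ U := by
        rw [eq_inv_of_mul_eq_one_left h1]; exact U.inv_mem (pw_mem hcU _)
      simpa [hU x h2] using h1)
  have hc' : g * c * g⁻¹ ∈ U := (mem_normalizer_iff.1 hgU c).1 hcU
  have key : ∀ x ∈ X, φ g * g⁻¹ * x * (φ g * g⁻¹)⁻¹ =
      x * pw c (l x) * pw (g * c * g⁻¹) (l (g⁻¹ * x * g)) := fun x hx => by
    have hy : g⁻¹ * x * g ∈ X := (mem_normalizer_iff''.1 hgX x).1 hx
    set y := g⁻¹ * x * g with hy'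
    have h1 : φ (y * pw c (l y)) = y := by
      rw [hφ _ (X.mul_mem hy (hUX (pw_mem hcU _))), hl y hy _ (hUX (pw_mem hcU _)),
        hU _ (pw_mem hcU _), add_zero, mul_assoc, he _ (pw_mem hcU _), mul_one]
    have h2 : g * (y * pw c (l y)) * g⁻¹ = x * pw (g * c * g⁻¹) (l y) := by
      rw [← pw_conj, hy']; group
    have h3 := congrArg φ h2
    rw [map_mul, map_mul, h1, map_inv, hφ _ (X.mul_mem hx (hUX (pw_mem hc' _))),
      hl x hx _ (hUX (pw_mem hc' _)), hU _ (pw_mem hc' _), add_zero] at h3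
    calc _ = φ g * y * (φ g)⁻¹ := by rw [hy']; group
      _ = _ := by
        rw [h3, mul_assoc x, mul_assoc x, hc _ (pw_mem hc' _) _ (hUX (pw_mem hcU _))]
  set n := φ g * g⁻¹
  have hn : ∀ u ∈ U, n * u * n⁻¹ = u := fun u hu => by
    rw [key u (hUX hu), hU u hu, hU _ ((mem_normalizer_iff''.1 hgU u).1 hu)]; simp
  obtain ⟨m, k, hm, hk⟩ := two_part n
  refine ⟨n ^ m, ⟨k, hk⟩, fun x hx => ?_⟩
  rw [conj_odd_pow ?_ hm, key x hx]
  have hw : pw c (l x) * pw (g * c * g⁻¹) (l (g⁻¹ * x * g)) ∈ U :=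
    U.mul_mem (pw_mem hcU _) (pw_mem hc' _)
  have h1 := key x hx
  rw [mul_assoc x] at h1
  set w := pw c (l x) * pw (g * c * g⁻¹) (l (g⁻¹ * x * g))
  have h2 : n * n * x * (n * n)⁻¹ = x := by
    calc _ = n * (n * x * n⁻¹) * n⁻¹ := by group
      _ = n * (x * w) * n⁻¹ := by rw [h1]
      _ = n * x * n⁻¹ * (n * w * n⁻¹) := by group
      _ = x := by rw [h1, hn w hw, mul_assoc, he w hw, mul_one]
  exact mul_inv_eq_iff_eq_mul.1 h2

end H99.HG
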