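/- Homogeneous groups whose involutions are central have one involution or a normal 2-complement. -/
import Cfsg.Agent.H99.HG1
import Cfsg.Agent.H1.Coprime
import Cfsg.Agent.H7.Frobenius

set_option autoImplicit false

namespace H99.HG

open Subgroup H98 Function Cfsg
open scoped commutatorElement

variable {G : Type*} [Group G]

theorem pw_inj {v : G} (hv : v ≠ 1) {a b : ZMod 2} (h : pw v a = pw v b) : a = b := by
  rcases z2 a with rfl | rfl <;> rcases z2 b with rfl | rfl <;> simp_all [eq_comm]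

theorem pw_pair {v w : G} (hv : v ≠ 1) (hw : w ≠ 1) (hvw : v ≠ w) {a b : ZMod 2}
    (h : pw v a = pw w b) : a = 0 ∧ b = 0 := by
  rcases z2 a with rfl | rfl <;> rcases z2 b with rfl | rfl <;> simp_all [eq_comm]

theorem cj_mul {b c x u w w' : G} (e : b * x * b⁻¹ = x * u) (e' : c * x * c⁻¹ = x * w)
    (f : b * w * b⁻¹ = w') : b * c * x * (b * c)⁻¹ = x * (u * w') := by
  calc b * c * x * (b * c)⁻¹ = b * (c * x * c⁻¹) * b⁻¹ := by group
    _ = b * (x * w) * b⁻¹ := by rw [e']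
    _ = b * x * b⁻¹ * (b * w * b⁻¹) := by group
    _ = _ := by rw [e, f, mul_assoc]

theorem cj_inv {b x u : G} (e : b * x * b⁻¹ = x * u) (f : b * u * b⁻¹ = u) (hu : u * u = 1) :
    b⁻¹ * x * b⁻¹⁻¹ = x * u := by
  calc b⁻¹ * x * b⁻¹⁻¹ = b⁻¹ * (x * u * u) * b := by rw [mul_assoc x, hu]; group
    _ = b⁻¹ * (b * x * b⁻¹ * (b * u * b⁻¹)) * b := by rw [e, f]
    _ = _ := by group

theorem cj_swap {j c u w : G} (e1 : j * c * j⁻¹ = c * w) (e2 : c * j * c⁻¹ = j * u)
    (f1 : c * u * c⁻¹ = u) (f2 : j * u * j⁻¹ = u) (hu : u * u = 1) : w = u := by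
  calc w = c⁻¹ * (c * w) := by group
    _ = c⁻¹ * j * c⁻¹⁻¹ * j⁻¹ := by rw [← e1]; group
    _ = u := by rw [cj_inv e2 f1 hu, f2]

theorem mul_pow_mem {M : Subgroup G} {a m : G} (ha : a ∈ normalizer (M : Set G)) (hm : m ∈ M)
    (n : ℕ) : (a ^ n)⁻¹ * (a * m) ^ n ∈ M := by
  induction n with
  | zero => simp
  | succ n ih =>
    have : (a ^ (n + 1))⁻¹ * (a * m) ^ (n + 1) = a⁻¹ * ((a ^ n)⁻¹ * (a * m) ^ n) * a * m := by
      rw [pow_succ (a * m), pow_succ a]; group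
    rw [this]
    exact M.mul_mem ((mem_normalizer_iff''.1 ha _).1 ih) hm

theorem comm_of_odd [Finite G] {a x : G} (ha : Odd (orderOf a)) (h : Commute (a * a) x) :
    a * x * a⁻¹ = x := by
  rw [← conj_odd_pow h ha, pow_orderOf_eq_one]; simp

/-- an element of odd order fixing the involutions of an abelian `2`-group centralizes it. -/
theorem fix_abel [Finite G] {J : Subgroup G} {a : G} (hJ : IsPGroup 2 J)
    (hab : ∀ x ∈ J, ∀ y ∈ J, x * y = y * x) (hn : ∀ x ∈ J, a * x * a⁻¹ ∈ J) (ha : Odd (orderOf a))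
    (hf : ∀ x ∈ J, x * x = 1 → a * x * a⁻¹ = x) : ∀ x ∈ J, a * x * a⁻¹ = x := by
  intro x hx
  obtain ⟨k, hk⟩ := isPGroup_iff_forall.1 hJ x hx
  induction k generalizing x with
  | zero => rw [pow_zero, pow_one] at hk; simp [hk]
  | succ k ih =>
    have h1 := ih (x * x) (J.mul_mem hx hx) (by rw [← pow_two, ← pow_mul, ← pow_succ', hk])
    have hw : a * x * a⁻¹ * x⁻¹ ∈ J := J.mul_mem (hn x hx) (J.inv_mem hx)
    have h2 := hf _ hw (by
      calc _ = a * x * a⁻¹ * (x⁻¹ * (a * x * a⁻¹)) * x⁻¹ := by group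
        _ = a * (x * x) * a⁻¹ * (x * x)⁻¹ := by
          rw [hab _ (J.inv_mem hx) _ (hn x hx)]; group
        _ = 1 := by rw [h1, mul_inv_cancel])
    have h3 : a * x * a⁻¹ * x⁻¹ * (a * x * a⁻¹ * x⁻¹) = 1 := by
      calc _ = a * x * a⁻¹ * (x⁻¹ * (a * x * a⁻¹)) * x⁻¹ := by group
        _ = a * (x * x) * a⁻¹ * (x * x)⁻¹ := by
          rw [hab _ (J.inv_mem hx) _ (hn x hx)]; group
        _ = 1 := by rw [h1, mul_inv_cancel]
    refine comm_of_odd ha (mul_inv_eq_iff_eq_mul.1 ?_)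
    calc a * a * x * (a * a)⁻¹ = a * (a * x * a⁻¹ * x⁻¹) * a⁻¹ * (a * x * a⁻¹ * x⁻¹) * x := by group
      _ = x := by rw [h2, h3, one_mul]

theorem lin_odd [Finite G] {T : Subgroup G} {l : G → ZMod 2} {a : G} (ha : Odd (orderOf a))
    (hn : a ∈ normalizer (T : Set G)) (h : ∀ x ∈ T, l (a⁻¹ * (a⁻¹ * x * a) * a) = l x) {x : G}
    (hx : x ∈ T) : l (a⁻¹ * x * a) = l x := by
  obtain ⟨r, hr⟩ := ha
  have key : ∀ n : ℕ, ∀ y ∈ T, l (((a * a) ^ n)⁻¹ * y * (a * a) ^ n) = l y := by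
    intro n
    induction n with
    | zero => simp
    | succ n ih =>
      intro y hy
      have : ((a * a) ^ (n + 1))⁻¹ * y * (a * a) ^ (n + 1) =
          a⁻¹ * (a⁻¹ * (((a * a) ^ n)⁻¹ * y * (a * a) ^ n) * a) * a := by
        rw [pow_succ]; group
      rw [this, h _ ((mem_normalizer_iff''.1 (pow_mem (mul_mem hn hn) n) y).1 hy), ih y hy]
  have h1 : (a * a) ^ (r + 1) = a := by
    rw [← pow_two, ← pow_mul, show 2 * (r + 1) = orderOf a + 1 by omega, pow_succ,
      pow_orderOf_eq_one, one_mul]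
  rw [← key (r + 1) x hx, h1]

theorem uniq_inv [Finite G] (h : Hom G) (hc : ∀ x : G, x * x = 1 → x ∈ center G)
    (hn : ¬ HasNormalPComplement 2 G) {v v' : G} (hv : v * v = 1) (hv' : v' * v' = 1) (h1 : v ≠ 1)
    (h1' : v' ≠ 1) : v = v' := by
  classical
  have := Fact.mk Nat.prime_two
  by_contra hne
  let V : Subgroup G :=
    { carrier := {x | x * x = 1}
      one_mem' := mul_one 1
      mul_mem' := fun {a b} ha hb => by
        change a * b * (a * b) = 1
        rw [mul_assoc, ← mul_assoc b, mem_center_iff.1 (hc a ha) b, mul_assoc, ← mul_assoc a,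
          show a * a = 1 from ha, show b * b = 1 from hb, mul_one]
      inv_mem' := fun {a} ha => by
        change a⁻¹ * a⁻¹ = 1
        rw [← mul_inv_rev, show a * a = 1 from ha, inv_one] }
  have hVc : ∀ u ∈ V, ∀ x, u * x = x * u := fun u hu x => (mem_center_iff.1 (hc u hu) x).symm
  have hVf : ∀ u ∈ V, ∀ x, x * u * x⁻¹ = u := fun u hu x => by
    rw [← hVc u hu, mul_inv_cancel_right]
  have hVp : IsPGroup 2 V := isPGroup_iff_forall.2 fun x hx => ⟨1, by rw [pow_one, pow_two]; exact hx⟩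
  have hVn : ∀ g, g ∈ normalizer (V : Set G) := fun g => mem_normalizer_fintype fun u hu => by
    rw [hVf u hu]; exact hu
  obtain ⟨T, ⟨hT, hVT, a, haT, ha, haC⟩, hmax⟩ := Set.Finite.exists_maximal
    (s := {T : Subgroup G | IsPGroup 2 T ∧ V ≤ T ∧ ∃ a ∈ normalizer (T : Set G), Odd (orderOf a) ∧
      a ∉ centralizer (T : Set G)}) (Set.toFinite _) (by
    by_contra h2
    refine hn (H7.hasNPC_of_normalizer_centralizer fun Q hQ g hg hco => ?_)
    by_contra h3
    refine h2 ⟨Q ⊔ V, IsPGroup.to_sup_of_normal_right' hQ hVp fun g _ => hVn g, le_sup_right, g,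
      normalizer_inf_normalizer_le_normalizer_sup _ _ ⟨hg, hVn g⟩, Nat.coprime_two_right.1 hco,
      fun h4 => h3 (centralizer_le (by simp) h4)⟩)
  -- inner elements
  have inner : ∀ j : G, (∃ k, j ^ 2 ^ k = 1) → (∀ x ∈ T, ∃ u ∈ V, j * x * j⁻¹ = x * u) → j ∈ T := by
    rintro j ⟨k, hk⟩ hj
    let C : Subgroup G :=
      { carrier := {n | ∀ x ∈ T, ∃ u ∈ V, n * x * n⁻¹ = x * u}
        one_mem' := fun x _ => ⟨1, V.one_mem, by simp⟩
        mul_mem' := fun {b c} hb hc x hx => by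
          obtain ⟨u, hu, e⟩ := hb x hx
          obtain ⟨u', hu', e'⟩ := hc x hx
          exact ⟨u * u', V.mul_mem hu hu', cj_mul e e' (hVf u' hu' b)⟩
        inv_mem' := fun {b} hb x hx => by
          obtain ⟨u, hu, e⟩ := hb x hx
          exact ⟨u, hu, cj_inv e (hVf u hu b) hu⟩ }
    have hCN : C ≤ normalizer (T : Set G) := fun n hn => mem_normalizer_fintype fun x hx => by
      obtain ⟨u, hu, e⟩ := hn x hx
      rw [e]; exact T.mul_mem hx (hVT hu)
    have hNC : normalizer (T : Set G) ≤ normalizer (C : Set G) := fun g hg =>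
      mem_normalizer_fintype fun n hn x hx => by
        obtain ⟨u, hu, e⟩ := hn _ ((mem_normalizer_iff''.1 hg x).1 hx)
        refine ⟨u, hu, ?_⟩
        calc g * n * g⁻¹ * x * (g * n * g⁻¹)⁻¹ = g * (n * (g⁻¹ * x * g) * n⁻¹) * g⁻¹ := by group
          _ = x * (g * u * g⁻¹) := by rw [e]; group
          _ = _ := by rw [hVf u hu]
    have hNM : normalizer (T : Set G) ≤ normalizer ((T ⊔ C : Subgroup G) : Set G) := fun g hg =>
      normalizer_inf_normalizer_le_normalizer_sup _ _ ⟨hg, hNC hg⟩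
    obtain ⟨Q, hQ, hle⟩ := exists_isSyl_le (p := 2) (Q := zpowers j ⊔ T) (H := T ⊔ C)
      (IsPGroup.to_sup_of_normal_right' (isPGroup_zpowers hk) hT
        ((zpowers_le.2 (show j ∈ C from hj)).trans hCN))
      (sup_le ((zpowers_le.2 (show j ∈ C from hj)).trans le_sup_right) le_sup_left)
    obtain ⟨b, hb, m, hm, rfl⟩ := hQ.frattini_mem (hNM haT)
    have hbT : b ∈ normalizer (T : Set G) := by
      simpa using mul_mem haT (inv_mem ((sup_le le_normalizer hCN) hm))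
    obtain ⟨n, hn⟩ := exists_pow_coprime (p := 2) (isOfFinOrder_of_finite b)
    have hQT : Q ≤ T := hmax ⟨hQ.isPGroup, hVT.trans (le_sup_right.trans hle), b ^ 2 ^ n,
      pow_mem hb _, Nat.coprime_two_right.1 hn, fun h2 => haC (by
        have h3 : b ^ 2 ^ n ∈ C := fun x hx => ⟨1, V.one_mem, by
          rw [← mem_centralizer_iff.1 h2 x (hle (mem_sup_right hx))]; simp⟩
        have h4 : b * m ∈ T ⊔ C := by
          refine mem_of_pow_mem_of_coprime (n := 2 ^ n) ?_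
            (Nat.Coprime.pow_right _ (Nat.coprime_two_right.2 ha))
          simpa using mul_mem (mem_sup_right h3 : _ ∈ T ⊔ C) (mul_pow_mem (hNM hbT) hm (2 ^ n))
        have h5 : b * m ∈ C := res_sup_le_right hT (le_normalizer.trans hNC)
          (mem_res_of_coprime h4 (Nat.coprime_two_right.2 ha))
        refine mem_centralizer_iff.2 fun x hx => ?_
        obtain ⟨u, hu, e⟩ := h5 x hx
        refine (mul_inv_eq_iff_eq_mul.1 (comm_of_odd ha (mul_inv_eq_iff_eq_mul.1 ?_))).symm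
        rw [cj_mul e e (hVf u hu _), show u * u = 1 from hu, mul_one])⟩
      (le_sup_right.trans hle)
    exact hQT (hle (mem_sup_left (mem_zpowers j)))
  have haT' : ∀ x ∈ T, a⁻¹ * x * a ∈ T := fun x hx => (mem_normalizer_iff''.1 haT x).1 hx
  have getj : ∀ l, Lin T l → (∀ u ∈ V, l u = 0) → ∀ u ∈ V, ∃ j ∈ T,
      ∀ x ∈ T, j * x * j⁻¹ = x * pw u (l x + l (a⁻¹ * x * a)) := fun l hl hl0 u hu => by
    obtain ⟨j, hj, e⟩ := h.inn hVT (fun u hu x _ => hVc u hu x) (fun u hu => hu) hl hl0 hu haT (hVn a)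
    have e' : ∀ x ∈ T, j * x * j⁻¹ = x * pw u (l x + l (a⁻¹ * x * a)) := fun x hx => by
      rw [e x hx, hVf u hu, pw_add hu, mul_assoc]
    exact ⟨j, inner j hj fun x hx => ⟨_, pw_mem hu _, e' x hx⟩, e'⟩
  have hvV : v ∈ V := hv
  let J : Subgroup G :=
    { carrier := {j | j ∈ T ∧ ∃ l, Lin T l ∧ (∀ u ∈ V, l u = 0) ∧
        ∀ x ∈ T, j * x * j⁻¹ = x * pw v (l x + l (a⁻¹ * x * a))}
      one_mem' := ⟨T.one_mem, fun _ => 0, fun _ _ _ _ => by simp, fun _ _ => rfl, fun x _ => by simp⟩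
      mul_mem' := by
        rintro b c ⟨hb, l, hl, hl0, e⟩ ⟨hc, l', hl', hl0', e'⟩
        refine ⟨T.mul_mem hb hc, _, hl.add hl', fun u hu => by simp [hl0 u hu, hl0' u hu],
          fun x hx => ?_⟩
        rw [cj_mul (e x hx) (e' x hx) (hVf _ (pw_mem hvV _) b), ← pw_add hv]; congr 2; ring
      inv_mem' := by
        rintro b ⟨hb, l, hl, hl0, e⟩
        exact ⟨T.inv_mem hb, l, hl, hl0, fun x hx =>
          cj_inv (e x hx) (hVf _ (pw_mem hvV _) b) (pw_mem hvV _)⟩ }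
  have hconj : ∀ {j : G} {l : G → ZMod 2}, (∀ x ∈ T, j * x * j⁻¹ = x * pw v (l x + l (a⁻¹ * x * a))) → ∀ x ∈ T,
      a * j * a⁻¹ * x * (a * j * a⁻¹)⁻¹ =
        x * pw v (l (a⁻¹ * x * a) + l (a⁻¹ * (a⁻¹ * x * a) * a)) := fun {j l} e x hx => by
    calc _ = a * (j * (a⁻¹ * x * a) * j⁻¹) * a⁻¹ := by group
      _ = x * (a * pw v (l (a⁻¹ * x * a) + l (a⁻¹ * (a⁻¹ * x * a) * a)) * a⁻¹) := by
        rw [e _ (haT' x hx)]; group
      _ = _ := by rw [hVf _ (pw_mem hvV _)]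
  have hfix := fix_abel (J := J) (a := a) (hT.to_le fun _ hx => hx.1) (by
    rintro b ⟨hb, l, hl, hl0, e⟩ c ⟨hc, l', hl', hl0', e'⟩
    obtain ⟨j, hj, e2⟩ := getj l hl hl0 v' hv'
    have h2 := cj_swap (e2 c hc) (e' j hj) (hVf _ (pw_mem hvV _) _) (hVf _ (pw_mem hvV _) _)
      (pw_mem hvV _)
    have h3 := (pw_pair h1' h1 (Ne.symm hne) h2).1
    have h4 := e c hc
    rw [h3, pw_zero, mul_one] at h4
    exact mul_inv_eq_iff_eq_mul.1 h4)
    (by
      rintro b ⟨hb, l, hl, hl0, e⟩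
      exact ⟨(mem_normalizer_iff.1 haT b).1 hb, _, hl.conj haT', fun u hu => by
        have := hVf u hu a⁻¹
        rw [inv_inv] at this
        simp only [this, hl0 u hu], hconj e⟩)
    ha fun x _ hx => hVf x hx a
  have hsup := H1.commutator_sup_centralizer (A := zpowers a) (K := T) (zpowers_le.2 haT) (by
    obtain ⟨n, hn⟩ := hT.exists_card_eq
    rw [hn, Nat.card_zpowers]
    exact Nat.Coprime.pow_right _ (Nat.coprime_two_right.2 ha)) (Or.inl inferInstance)
  obtain ⟨l, hl, hl0, x, hx, hx1⟩ := sep (K := T ⊓ centralizer (zpowers a : Set G)) hT inf_le_left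
    fun h2 => haC (mem_centralizer_iff.2 fun x hx =>
      (mem_centralizer_iff.1 (h2 hx).2 a (mem_zpowers a)).symm)
  have hlV : ∀ u ∈ V, l u = 0 := fun u hu =>
    hl0 u ⟨hVT hu, mem_centralizer_iff.2 fun y _ => (hVc u hu y).symm⟩
  obtain ⟨j, hj, e⟩ := getj l hl hlV v hv
  have h2 := hconj e
  rw [hfix j ⟨hj, l, hl, hlV, e⟩] at h2
  have h3 : ∀ y ∈ T, l (a⁻¹ * y * a) = l y := fun y hy => lin_odd ha haT (fun y hy => by
    have h4 := pw_inj h1 (mul_left_cancel ((e y hy).symm.trans (h2 y hy)))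
    rw [add_comm] at h4
    exact (add_left_cancel h4).symm) hy
  have h4 : ∀ n : ℕ, ∀ y ∈ T, l (a ^ n * y * (a ^ n)⁻¹) = l y := by
    intro n
    induction n with
    | zero => simp
    | succ n ih =>
      intro y hy
      rw [← ih y hy, ← h3 _ ((mem_normalizer_iff.1 (pow_mem haT _) y).1 hy), pow_succ']
      congr 1; group
  have h5 : T ≤ hl.ker := by
    refine hsup.ge.trans (sup_le (commutator_le.2 fun y hy b hb => ?_) fun y hy => ⟨hy.1, hl0 y hy⟩)
    obtain ⟨n, rfl⟩ := (mem_powers_iff_mem_zpowers.2 hb : b ∈ Submonoid.powers a)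
    have h6 := (mem_normalizer_iff.1 (pow_mem haT n) _).1 (T.inv_mem hy)
    have h7 : ⁅y, a ^ n⁆ = y * (a ^ n * y⁻¹ * (a ^ n)⁻¹) := by
      simp only [commutatorElement_def]; group
    refine ⟨?_, ?_⟩
    · change ⁅y, a ^ n⁆ ∈ _
      rw [h7]; exact T.mul_mem hy h6
    · change l ⁅y, a ^ n⁆ = 0
      rw [h7, hl y hy _ h6, h4 n _ (T.inv_mem hy), hl.inv hy, z2_add]
  exact absurd ((h5 hx).2.symm.trans hx1) (by decide)

end H99.HG
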