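/- Homogeneous groups: all transvections of a large elementary abelian subgroup are induced. -/
import Cfsg.Agent.H99.HG2

set_option autoImplicit false

namespace H99.HG

open Subgroup H98 Function Cfsg
open scoped commutatorElement Pointwise

variable {G : Type*} [Group G]

/-- the transvection `x ↦ x c ^ l x` of `V` is induced by conjugation. -/
def Ind (V : Subgroup G) (l : G → ZMod 2) (c : G) : Prop :=
  ∃ g : G, ∀ x ∈ V, g * x * g⁻¹ = x * pw c (l x)

theorem Lin.pw {V : Subgroup G} {l : G → ZMod 2} (h : Lin V l) (c : G) (a : ZMod 2) :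
    l (pw c a) = l c * a := by
  rcases z2 a with rfl | rfl <;> simp [h.one]

theorem pw_pw (c : G) (a b : ZMod 2) : pw (pw c a) b = pw c (a * b) := by
  rcases z2 a with rfl | rfl <;> simp

theorem mem_zpowers_of_sq {u x : G} (hu : u * u = 1) : x ∈ zpowers u ↔ x = 1 ∨ x = u := by
  refine ⟨?_, by rintro (rfl | rfl) <;> simp⟩
  rintro ⟨k, rfl⟩
  have h2 : u ^ (2 : ℤ) = 1 := by rw [zpow_two, hu]
  obtain ⟨r, rfl | rfl⟩ := Int.even_or_odd' k
  · left; simp only [zpow_mul, h2, one_zpow]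
  · right; simp only [zpow_add, zpow_mul, h2, one_zpow, zpow_one, one_mul]

section
variable {V : Subgroup G} (he : ∀ u ∈ V, u * u = 1)
include he

theorem tr_mul {l : G → ZMod 2} {c : G} (hl : Lin V l) (hc : c ∈ V) {x y : G} (hx : x ∈ V)
    (hy : y ∈ V) : x * y * pw c (l (x * y)) = x * pw c (l x) * (y * pw c (l y)) := by
  rw [hl x hx y hy, pw_add (he c hc), mul_assoc x (pw c (l x)), ← mul_assoc (pw c (l x)),
    comm_of_sq he (pw_mem hc _) hy]
  group

theorem tr_tr {l : G → ZMod 2} {c : G} (hl : Lin V l) (hc : c ∈ V) (h0 : l c = 0) {x : G}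
    (hx : x ∈ V) : x * pw c (l x) * pw c (l (x * pw c (l x))) = x := by
  rw [hl x hx _ (pw_mem hc _), hl.pw, h0, zero_mul, add_zero, mul_assoc, he _ (pw_mem hc _), mul_one]

theorem Hom.tconj (h : Hom G) {l : G → ZMod 2} {c g : G} (hl : Lin V l) (hc : c ∈ V) (h0 : l c = 0)
    (hg : ∀ x ∈ V, g * x * g⁻¹ ∈ V) : ∃ g' : G, ∀ x ∈ V, g' * x * g'⁻¹ =
      g * (x * pw c (l x)) * g⁻¹ * pw c (l (g * (x * pw c (l x)) * g⁻¹)) := by
  obtain ⟨φ, hφ⟩ := h.ext' V (fun x => x * pw c (l x)) (fun x hx y hy => tr_mul he hl hc hx hy)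
    fun x hx h1 => by
      have := tr_tr he hl hc h0 hx
      rw [h1, hl.one, pw_zero, mul_one] at this
      exact this.symm
  refine ⟨φ g, fun x hx => ?_⟩
  have hy := V.mul_mem hx (pw_mem hc (l x))
  rw [← hφ _ (hg _ hy), map_mul, map_mul, map_inv, hφ _ hy, tr_tr he hl hc h0 hx]

theorem Hom.move (h : Hom G) {l m : G → ZMod 2} {c d : G} (hl : Lin V l) (hc : c ∈ V) (h0 : l c = 0)
    (hm : Lin V m) (hd : d ∈ V) (hi : Ind V m d) :
    Ind V (fun x => m x + m c * l x) (d * pw c (l d)) := by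
  obtain ⟨g, hg⟩ := hi
  obtain ⟨g', hg'⟩ := h.tconj he hl hc h0 (g := g) fun x hx => by
    rw [hg x hx]; exact V.mul_mem hx (pw_mem hd _)
  refine ⟨g', fun x hx => ?_⟩
  have hy := V.mul_mem hx (pw_mem hc (l x))
  rw [hg' x hx, hg _ hy, tr_mul he hl hc hy (pw_mem hd _), tr_tr he hl hc h0 hx,
    hm x hx _ (pw_mem hc _), hm.pw]
  rcases z2 (m x + m c * l x) with e | e <;> simp [e, hl.one]

theorem Hom.comm [Finite G] (h : Hom G) {l : G → ZMod 2} {c g : G} (hl : Lin V l) (hc : c ∈ V)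
    (h0 : l c = 0) (hg : g ∈ normalizer (V : Set G)) : ∃ n : G, ∀ x ∈ V, n * x * n⁻¹ =
      x * pw c (l x) * pw (g * c * g⁻¹) (l (g⁻¹ * (x * pw c (l x)) * g)) := by
  have hg' : ∀ x ∈ V, g⁻¹ * x * g ∈ V := fun x hx => (mem_normalizer_iff''.1 hg x).1 hx
  obtain ⟨φ, hφ⟩ := h.ext' V (fun x => x * pw c (l x)) (fun x hx y hy => tr_mul he hl hc hx hy)
    fun x hx h1 => by
      have := tr_tr he hl hc h0 hx
      rw [h1, hl.one, pw_zero, mul_one] at this
      exact this.symm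
  refine ⟨g * φ g⁻¹, fun x hx => ?_⟩
  have hy := V.mul_mem hx (pw_mem hc (l x))
  have h1 := hφ _ (hg' _ hy)
  rw [map_mul, map_mul, hφ _ hy, tr_tr he hl hc h0 hx] at h1
  calc _ = g * (φ g⁻¹ * x * φ g) * g⁻¹ := by rw [map_inv]; group
    _ = _ := by rw [h1, ← pw_conj]; group

theorem Hom.exists_ind [Finite G] (h : Hom G) (h4 : 4 < Nat.card V) {g : G}
    (hg : g ∈ normalizer (V : Set G)) (hg' : g ∉ centralizer (V : Set G)) :
    ∃ m d, Lin V m ∧ (∃ y ∈ V, m y = 1) ∧ d ∈ V ∧ d ≠ 1 ∧ m d = 0 ∧ Ind V m d := by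
  have hV : IsPGroup 2 V := isPGroup_iff_forall.2 fun x hx => ⟨1, by rw [pow_one, pow_two, he x hx]⟩
  obtain ⟨a, ha, ha1⟩ : ∃ a ∈ V, g * a * g⁻¹ ≠ a := by
    by_contra h1
    push Not at h1
    exact hg' (mem_centralizer_iff.2 fun x hx => (mul_inv_eq_iff_eq_mul.1 (h1 x hx)).symm)
  have hb : g * a * g⁻¹ ∈ V := (mem_normalizer_iff.1 hg a).1 ha
  set b := g * a * g⁻¹ with hb'
  have ha0 : a ≠ 1 := fun e => ha1 (by simp [hb', e])
  have hzp : ∀ u ∈ V, Nat.card (zpowers u) ≤ 2 := fun u hu => by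
    rw [Nat.card_zpowers]
    exact Nat.le_of_dvd two_pos (orderOf_dvd_of_pow_eq_one (by rw [pow_two, he u hu]))
  have hW : Nat.card (zpowers a ⊔ zpowers b : Subgroup G) ≤ 4 := by
    have h1 : ((zpowers a ⊔ zpowers b : Subgroup G) : Set G) = (zpowers a : Set G) * (zpowers b : Set G) :=
      coe_mul_of_left_le_normalizer_right _ _ (zpowers_le.2 (mem_normalizer_fintype fun y hy => by
        rwa [comm_of_sq he ha (zpowers_le.2 hb hy), mul_inv_cancel_right]))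
    have h2 := Set.natCard_mul_le (s := (zpowers a : Set G)) (t := (zpowers b : Set G))
    rw [← h1] at h2
    exact h2.trans (Nat.mul_le_mul (hzp a ha) (hzp b hb))
  have hWV : zpowers a ⊔ zpowers b ≤ V := sup_le (zpowers_le.2 ha) (zpowers_le.2 hb)
  obtain ⟨m, hm, hm0, y, hy, hy1⟩ := sep hV hWV fun h1 => by
    have := card_le_of_le h1; omega
  have ma : m a = 0 := hm0 a (mem_sup_left (mem_zpowers a))
  have mb : m b = 0 := hm0 b (mem_sup_right (mem_zpowers b))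
  obtain ⟨n, hn⟩ := h.comm he hm ha ma hg
  rw [← hb'] at hn
  have hw : ∀ x, ∃ w ∈ V, m w = 0 ∧ (x ∈ V → n * x * n⁻¹ = x * w) := fun x =>
    ⟨_, V.mul_mem (pw_mem ha (m x)) (pw_mem hb (m (g⁻¹ * (x * pw a (m x)) * g))), by
      rw [hm _ (pw_mem ha _) _ (pw_mem hb _), hm.pw, hm.pw, ma, mb]; simp,
      fun hx => by rw [hn x hx, mul_assoc]⟩
  have hnV : n ∈ normalizer (V : Set G) := mem_normalizer_fintype fun x hx => by
    obtain ⟨w, hw1, -, e⟩ := hw x
    rw [e hx]; exact V.mul_mem hx hw1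
  by_cases h1 : ∃ c ∈ V, m c = 0 ∧ n * c * n⁻¹ ≠ c
  · obtain ⟨c, hc, mc, hc1⟩ := h1
    obtain ⟨k, hk⟩ := h.comm he hm hc mc hnV
    have hc2 := (mem_normalizer_iff.1 hnV c).1 hc
    have hinv : ∀ x ∈ V, m (n * x * n⁻¹) = m x := fun x hx => by
      obtain ⟨w, hw1, hw2, e⟩ := hw x
      rw [e hx, hm x hx w hw1, hw2, add_zero]
    refine ⟨m, c * (n * c * n⁻¹), hm, ⟨y, hy, hy1⟩, V.mul_mem hc hc2, fun e => hc1 ?_,
      by rw [hm c hc _ hc2, hinv c hc, z2_add], k, fun x hx => ?_⟩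
    · rw [eq_inv_of_mul_eq_one_right e, inv_eq_of_mul_eq_one_right (he c hc)]
    · have hx' := V.mul_mem hx (pw_mem hc (m x))
      have := hinv _ ((mem_normalizer_iff''.1 hnV _).1 hx')
      rw [show n * (n⁻¹ * (x * pw c (m x)) * n) * n⁻¹ = x * pw c (m x) by group] at this
      rw [hk x hx, ← this, hm x hx _ (pw_mem hc _), hm.pw, mc, zero_mul, add_zero, mul_pw (c := c),
        mul_assoc]
  · push Not at h1
    obtain ⟨d, hd, md, e⟩ := hw y
    refine ⟨m, d, hm, ⟨y, hy, hy1⟩, hd, fun e1 => ?_, md, n, fun x hx => ?_⟩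
    · have h2 := e hy
      rw [hn y hy, e1, mul_one, hy1, pw_one, mul_assoc, mul_eq_left] at h2
      rcases z2 (m (g⁻¹ * (y * a) * g)) with e2 | e2 <;> rw [e2] at h2
      · exact ha0 (by simpa using h2)
      · rw [pw_one] at h2
        exact ha1 (by rw [eq_inv_of_mul_eq_one_right h2, inv_eq_of_mul_eq_one_right (he a ha)])
    · rcases z2 (m x) with e1 | e1
      · rw [h1 x hx e1, e1, pw_zero, mul_one]
      · have h2 := h1 (y⁻¹ * x) (V.mul_mem (V.inv_mem hy) hx)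
          (by rw [hm _ (V.inv_mem hy) x hx, hm.inv hy, hy1, e1, z2_11])
        calc n * x * n⁻¹ = n * y * n⁻¹ * (n * (y⁻¹ * x) * n⁻¹) := by group
          _ = _ := by
            rw [h2, e hy, e1, pw_one, mul_assoc, comm_of_sq he hd (V.mul_mem (V.inv_mem hy) hx)]
            group

theorem Hom.all_ind [Finite G] (h : Hom G) (h4 : 4 < Nat.card V) {g : G}
    (hg : g ∈ normalizer (V : Set G)) (hg' : g ∉ centralizer (V : Set G)) {l : G → ZMod 2} {c : G}
    (hl : Lin V l) (hc : c ∈ V) (h0 : l c = 0) : Ind V l c := by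
  obtain ⟨m, d, hm, ⟨y, hy, hy1⟩, hd, hd1, md, hi⟩ := h.exists_ind he h4 hg hg'
  by_cases h1 : c = 1
  · exact ⟨1, fun x _ => by simp [h1]⟩
  by_cases h2 : ∀ x ∈ V, l x = 0
  · exact ⟨1, fun x hx => by simp [h2 x hx]⟩
  push Not at h2
  obtain ⟨x, hx, hx1⟩ := h2
  replace hx1 := (z2 _).resolve_left hx1
  have same : ∀ {m : G → ZMod 2} {c d : G}, Lin V m → c ∈ V → d ∈ V → c ≠ 1 → d ≠ 1 → m c = 0 →
      m d = 0 → Ind V m d → Ind V m c := fun {m c d} hm hc hd c1 d1 mc md hi => by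
    by_cases e : c = d
    · exact e ▸ hi
    have hcd := V.mul_mem hd hc
    obtain ⟨k, hk, hk0, hk1⟩ := sep' (K := zpowers (d * c)) he (zpowers_le.2 hcd) hd fun h3 => by
      rcases (mem_zpowers_of_sq (he _ hcd)).1 h3 with h4 | h4
      · exact d1 h4
      · exact c1 (by simpa using h4.symm)
    have := h.move he hk hcd (hk0 _ (mem_zpowers _)) hm hd hi
    rw [hk1, pw_one, hm d hd c hc, mc, md, ← mul_assoc, he d hd, one_mul] at this
    simpa using this
  obtain ⟨e, he1, le, me⟩ : ∃ e ∈ V, l e = 1 ∧ m e = 1 := by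
    rcases z2 (m x) with h3 | h3
    · rcases z2 (l y) with h5 | h5
      · exact ⟨x * y, V.mul_mem hx hy, by simp [hl x hx y hy, hx1, h5], by simp [hm x hx y hy, hy1, h3]⟩
      · exact ⟨y, hy, h5, hy1⟩
    · exact ⟨x, hx, hx1, h3⟩
  obtain ⟨d', hd', d1, ld, md'⟩ : ∃ d' ∈ V, d' ≠ 1 ∧ l d' = 0 ∧ m d' = 0 := by
    have k1 := hl.card_le
    have k2 := (hm.mono (show hl.ker ≤ V from fun x hx => hx.1)).card_le
    obtain ⟨⟨u, hu⟩, hu1⟩ := ne_bot_iff_exists_ne_one.1 ((one_lt_card_iff_ne_bot _).1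
      (show 1 < Nat.card (hm.mono (show hl.ker ≤ V from fun x hx => hx.1)).ker by omega))
    exact ⟨u, hu.1.1, fun e => hu1 (Subtype.ext e), hu.1.2, hu.2⟩
  have h3 := h.move he (hl.add hm) he1 (by simp [le, me, z2_11]) hm hd'
    (same hm hd' hd d1 hd1 md' md hi)
  refine same hl hc hd' h1 d1 h0 ld ?_
  obtain ⟨n, hn⟩ := h3
  refine ⟨n, fun z hz => ?_⟩
  rw [hn z hz]
  simp only
  rw [ld, md', me, add_zero, pw_zero, mul_one, one_mul, add_comm (l z), ← add_assoc, z2_add, zero_add]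

end

end H99.HG
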