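/- Homogeneous groups: a largest elementary abelian `2`-subgroup of order `≥ 8` is Sylow in its centralizer. -/
import Cfsg.Agent.H99.HG3

set_option autoImplicit false

namespace H99.HG

open Subgroup H98 Function Cfsg
open scoped commutatorElement Pointwise

variable {G : Type*} [Group G]

/-- the map `x ↦ x c ^ l x` of `X` is inner. -/
def Inn (X : Subgroup G) (l : G → ZMod 2) (c : G) : Prop :=
  ∃ j ∈ X, ∀ x ∈ X, j * x * j⁻¹ = x * pw c (l x)

/-- `V` is elementary abelian of the largest order, at least `8`. -/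
structure Big (V : Subgroup G) : Prop where
  he : ∀ u ∈ V, u * u = 1
  mx : ∀ A : Subgroup G, (∀ a ∈ A, a * a = 1) → Nat.card A ≤ Nat.card V
  h4 : 4 < Nat.card V

theorem cfix {V : Subgroup G} {g u : G} (hg : g ∈ centralizer (V : Set G)) (hu : u ∈ V) :
    g * u * g⁻¹ = u := by
  rw [← mem_centralizer_iff.1 hg u hu, mul_inv_cancel_right]

theorem mem_cent {V : Subgroup G} {g : G} (h : ∀ u ∈ V, g * u * g⁻¹ = u) :
    g ∈ centralizer (V : Set G) :=
  mem_centralizer_iff.2 fun u hu => (mul_inv_eq_iff_eq_mul.1 (h u hu)).symm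

variable [Finite G] {V : Subgroup G}

theorem Big.pg (hV : Big V) : IsPGroup 2 V :=
  isPGroup_iff_forall.2 fun x hx => ⟨1, by rw [pow_one, pow_two, hV.he x hx]⟩

theorem Big.le_cent (hV : Big V) : V ≤ centralizer (V : Set G) := fun _ hx =>
  mem_centralizer_iff.2 fun _ hy => comm_of_sq hV.he hy hx

theorem Big.eight (hV : Big V) : 8 ≤ Nat.card V := by
  have := Fact.mk Nat.prime_two
  obtain ⟨n, hn⟩ := hV.pg.exists_card_eq
  have h4 := hV.h4
  rw [hn] at h4 ⊢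
  exact Nat.pow_le_pow_right two_pos (show 3 ≤ n from
    (Nat.pow_lt_pow_iff_right one_lt_two).1 (show 2 ^ 2 < 2 ^ n from h4))

theorem Big.omega (hV : Big V) {x : G} (hx : x ∈ centralizer (V : Set G)) (h2 : x * x = 1) :
    x ∈ V := by
  have hn : ∀ y ∈ V, x * y * x⁻¹ ∈ V := fun y hy => by rwa [cfix hx hy]
  have h1 := hV.mx (ext2 V x (h2 ▸ V.one_mem) hn) (by
    rintro a (ha | ha)
    · exact hV.he a ha
    · calc a * a = x * (x⁻¹ * a) * x⁻¹ * (x * x) * (x⁻¹ * a) := by group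
        _ = 1 := by rw [cfix hx ha, h2, mul_one, hV.he _ ha])
  rw [eq_of_le_of_card_ge (show V ≤ ext2 V x (h2 ▸ V.one_mem) hn from fun y hy => Or.inl hy) h1]
  exact Or.inr (by simp)

theorem Big.pure (hV : Big V) {X W : Subgroup G} (hc : X ≤ centralizer (V : Set G))
    {l l' : G → ZMod 2} (hWV : W ≤ V) (hW : Nat.card V ≤ 2 * Nat.card W) (hP : ∀ d ∈ W, Inn X l' d)
    {j c : G} (hj : j ∈ X) (c1 : c ≠ 1) (e : ∀ x ∈ X, j * x * j⁻¹ = x * pw c (l x)) : l' j = 0 := by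
  obtain ⟨d, hd, d1, dc⟩ := exists_third (W := W) (by have := hV.eight; omega) c
  obtain ⟨k, hk, e'⟩ := hP d hd
  have hu := pw_mem (hWV hd) (l' j)
  exact (pw_pair c1 d1 dc.symm
    (cj_swap (e k hk) (e' j hj) (cfix (hc hk) hu) (cfix (hc hj) hu) (hV.he _ hu))).2

theorem Big.two_pair_aux (hV : Big V) {X W W' : Subgroup G} (hc : X ≤ centralizer (V : Set G))
    {l l' : G → ZMod 2} (hWV : W ≤ V) (hW : Nat.card V ≤ 2 * Nat.card W) (hP : ∀ d ∈ W, Inn X l d)
    (hWV' : W' ≤ V) (hW' : Nat.card V ≤ 2 * Nat.card W') (hP' : ∀ d ∈ W', Inn X l' d)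
    {a b : G} (ha : a ∈ X) (hb : b ∈ X) (a1 : l a = 1) (a2 : l' a = 0) (b1 : l b = 0)
    (b2 : l' b = 1) : False := by
  have h8 := hV.eight
  have hu : ∀ {c c' : G}, c ∈ W → c' ∈ W' → ∀ s t, pw c s * pw c' t ∈ V := fun hc hc' _ _ =>
    V.mul_mem (pw_mem (hWV hc) _) (pw_mem (hWV' hc') _)
  let E : Subgroup G :=
    { carrier := {j | j ∈ X ∧ ∃ c ∈ W, ∃ c' ∈ W', ∀ x ∈ X,
        j * x * j⁻¹ = x * (pw c (l x) * pw c' (l' x))}
      one_mem' := ⟨X.one_mem, 1, W.one_mem, 1, W'.one_mem, fun x _ => by simp⟩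
      mul_mem' := by
        rintro j k ⟨hj, c, hc1, c', hc', e⟩ ⟨hk, d, hd, d', hd', e'⟩
        refine ⟨X.mul_mem hj hk, _, W.mul_mem hc1 hd, _, W'.mul_mem hc' hd', fun x hx => ?_⟩
        rw [cj_mul (e x hx) (e' x hx) (cfix (hc hj) (hu hd hd' _ _)), mul_pw, mul_pw,
          mul_assoc (pw c _), ← mul_assoc (pw c' _),
          comm_of_sq hV.he (pw_mem (hWV' hc') _) (pw_mem (hWV hd) _)]
        group
      inv_mem' := by
        rintro j ⟨hj, c, hc1, c', hc', e⟩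
        exact ⟨X.inv_mem hj, c, hc1, c', hc', fun x hx =>
          cj_inv (e x hx) (cfix (hc hj) (hu hc1 hc' _ _)) (hV.he _ (hu hc1 hc' _ _))⟩ }
  have zero : ∀ k ∈ E, l k = 0 ∧ l' k = 0 := by
    rintro k ⟨hk, d, hd, d', hd', e⟩
    obtain ⟨c, hc1, c1, -⟩ := exists_third (W := W) (by omega) 1
    obtain ⟨c', hc', c1', -⟩ := exists_third (W := W') (by omega) 1
    obtain ⟨j, hj, f⟩ := hP c hc1
    obtain ⟨j', hj', f'⟩ := hP' c' hc'
    have g1 := e j hj
    have g2 := e j' hj'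
    rw [hV.pure hc hWV hW hP hj c1 f, hV.pure hc hWV' hW' hP' hj c1 f] at g1
    rw [hV.pure hc hWV hW hP hj' c1' f', hV.pure hc hWV' hW' hP' hj' c1' f'] at g2
    exact ⟨pw_inj c1 (by simpa using cj_swap (f k hk) g1 (by simp) (by simp) (by simp)),
      pw_inj c1' (by simpa using cj_swap (f' k hk) g2 (by simp) (by simp) (by simp))⟩
  have hab : ∀ j ∈ E, ∀ k ∈ E, j * k = k * j := by
    rintro j ⟨hj, c, hc1, c', hc', e⟩ k hk
    have := e k hk.1
    rw [(zero k hk).1, (zero k hk).2] at this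
    exact mul_inv_eq_iff_eq_mul.1 (by simpa using this)
  let sq : E →* E := MonoidHom.mk' (fun x => x * x) fun x y => Subtype.ext (by
    simp only [coe_mul]
    rw [mul_assoc, ← mul_assoc (y : G), hab _ y.2 _ x.2]; group)
  let Z : Subgroup G := E ⊓ centralizer (X : Set G)
  have k1 : Nat.card sq.ker ≤ Nat.card V := Nat.card_le_card_of_injective
    (fun x => ⟨x.1.1, hV.omega (hc x.1.2.1) (congrArg Subtype.val x.2)⟩) fun x y e =>
      Subtype.ext (Subtype.ext (Subtype.mk.inj e))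
  have k2 : Nat.card sq.range ≤ Nat.card Z := Nat.card_le_card_of_injective
    (fun x => ⟨x.1.1, x.1.2, by
      obtain ⟨_, ⟨j, hj, c, hc1, c', hc', e⟩, rfl⟩ := x
      refine mem_cent fun x hx => ?_
      change j * j * x * (j * j)⁻¹ = x
      rw [cj_mul (e x hx) (e x hx) (cfix (hc hj) (hu hc1 hc' _ _)), hV.he _ (hu hc1 hc' _ _),
        mul_one]⟩) fun x y e => Subtype.ext (Subtype.ext (Subtype.mk.inj e))
  have k3 : ∀ p : W × W', ∃ j ∈ X, ∀ x ∈ X, j * x * j⁻¹ = x * (pw (p.1 : G) (l x) * pw (p.2 : G) (l' x)) :=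
    fun p => by
      obtain ⟨j, hj, f⟩ := hP _ p.1.2
      obtain ⟨j', hj', f'⟩ := hP' _ p.2.2
      exact ⟨j * j', X.mul_mem hj hj', fun x hx =>
        cj_mul (f x hx) (f' x hx) (cfix (hc hj) (pw_mem (hWV' p.2.2) _))⟩
  choose J hJ hJe using k3
  have k4 : Nat.card ((W × W') × Z) ≤ Nat.card E := Nat.card_le_card_of_injective
    (fun p => ⟨J p.1 * p.2, E.mul_mem ⟨hJ _, _, p.1.1.2, _, p.1.2.2, hJe _⟩ p.2.2.1⟩) (by
      rintro ⟨p, z⟩ ⟨p', z'⟩ e
      have e' : J p * z = J p' * z' := congrArg Subtype.val e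
      have key : ∀ x ∈ X, pw (p.1 : G) (l x) * pw (p.2 : G) (l' x) =
          pw (p'.1 : G) (l x) * pw (p'.2 : G) (l' x) :=
        fun x hx => by
          have f : ∀ (p : W × W') (z : Z), J p * z * x * (J p * z)⁻¹ =
              x * (pw (p.1 : G) (l x) * pw (p.2 : G) (l' x) * 1) := fun p z =>
            cj_mul (hJe p x hx) (by rw [cfix z.2.2 hx, mul_one]) (by simp)
          have := (f p z).symm.trans (e' ▸ f p' z')
          simpa using this
      have hp : p = p' := Prod.ext (Subtype.ext (by simpa [a1, a2] using key a ha))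
        (Subtype.ext (by simpa [b1, b2] using key b hb))
      subst hp
      exact Prod.ext rfl (Subtype.ext (mul_left_cancel e')))
  rw [Nat.card_prod, Nat.card_prod, ← sq.ker.card_mul_index, index_ker] at k4
  have k5 := k4.trans (Nat.mul_le_mul k1 k2)
  have k6 := Nat.le_of_mul_le_mul_right k5 Nat.card_pos
  nlinarith

theorem Big.two_pair (hV : Big V) {X W W' : Subgroup G} (hc : X ≤ centralizer (V : Set G))
    {l l' : G → ZMod 2} (hl : Lin X l) (hl' : Lin X l') (hWV : W ≤ V)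
    (hW : Nat.card V ≤ 2 * Nat.card W) (hP : ∀ d ∈ W, Inn X l d)
    (hWV' : W' ≤ V) (hW' : Nat.card V ≤ 2 * Nat.card W') (hP' : ∀ d ∈ W', Inn X l' d)
    {a b : G} (ha : a ∈ X) (hb : b ∈ X) (a1 : l a = 1) (b2 : l' b = 1) {x : G} (hx : x ∈ X) :
    l x = l' x := by
  have aux := fun {a b : G} => hV.two_pair_aux (a := a) (b := b) hc hWV hW hP hWV' hW' hP'
  rcases z2 (l x) with e | e <;> rcases z2 (l' x) with e' | e'
  · rw [e, e']
  · rcases z2 (l' a) with f | f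
    · exact (aux ha hx a1 f e e').elim
    · exact (aux (X.mul_mem ha hx) hx (by simp [hl a ha x hx, a1, e])
        (by simp [hl' a ha x hx, f, e', z2_11]) e e').elim
  · rcases z2 (l b) with f | f
    · exact (aux hx hb e e' f b2).elim
    · exact (aux hx (X.mul_mem hb hx) e e' (by simp [hl b hb x hx, f, e, z2_11])
        (by simp [hl' b hb x hx, b2, e'])).elim
  · rw [e, e']

theorem Big.cent_of (hV : Big V) {m : G → ZMod 2} (hm : Lin V m) {v n : G} (hv : v ∈ V)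
    (h1 : m v = 1) (hn : n ∈ centralizer (hm.ker : Set G)) (e : n * v * n⁻¹ = v) :
    n ∈ centralizer (V : Set G) := mem_cent fun u hu => by
  rcases z2 (m u) with f | f
  · exact cfix hn (show u ∈ hm.ker from ⟨hu, f⟩)
  · have := cfix hn (show v * u ∈ hm.ker from ⟨V.mul_mem hv hu, by rw [hm v hv u hu, h1, f, z2_11]⟩)
    rw [show n * (v * u) * n⁻¹ = n * v * n⁻¹ * (n * u * n⁻¹) by group, e] at this
    exact mul_left_cancel this

theorem Big.exists_r (hV : Big V) {m : G → ZMod 2} (hm : Lin V m) {v c : G} (hv : v ∈ V)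
    (h1 : m v = 1) {R : Subgroup G}
    (hR : IsSyl 2 R (centralizer (hm.ker : Set G) ⊓ normalizer (V : Set G))) (hc : c ∈ V)
    (hi : Ind V m c) : ∃ r ∈ R, r * v * r⁻¹ = v * c := by
  have := Fact.mk Nat.prime_two
  obtain ⟨g, hg⟩ := hi
  obtain ⟨r, hr, n, hn, rfl⟩ := hR.exists_mul_res (x := g) ⟨mem_cent fun u hu => by
    rw [hg u hu.1, hu.2, pw_zero, mul_one], mem_normalizer_fintype fun u hu => by
    rw [hg u hu]; exact V.mul_mem hu (pw_mem hc _)⟩
  have h2 : n ∈ centralizer (V : Set G) := res_le_of_forall (fun x hx hco => by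
    refine hV.cent_of hm hv h1 hx.1 (comm_of_odd (Nat.coprime_two_right.1 hco)
      (mul_inv_eq_iff_eq_mul.1 ?_))
    have h3 := (mem_normalizer_iff.1 hx.2 v).1 hv
    have h4 : v⁻¹ * (x * v * x⁻¹) ∈ hm.ker := by
      refine ⟨V.mul_mem (V.inv_mem hv) h3, ?_⟩
      rcases z2 (m (x * v * x⁻¹)) with f | f
      · have h5 := cfix (inv_mem hx.1) (show _ ∈ hm.ker from ⟨h3, f⟩)
        rw [show x⁻¹ * (x * v * x⁻¹) * x⁻¹⁻¹ = v by group] at h5
        rw [← h5, h1] at f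
        exact absurd f (by decide)
      · rw [hm _ (V.inv_mem hv) _ h3, hm.inv hv, h1, f, z2_11]
    have h5 : x * v * x⁻¹ = v * (v⁻¹ * (x * v * x⁻¹)) := by group
    rw [cj_mul h5 h5 (cfix hx.1 h4), hV.he _ h4.1, mul_one]) hn
  refine ⟨r, hr, ?_⟩
  have h3 := hg v hv
  rwa [h1, pw_one, show r * n * v * (r * n)⁻¹ = r * (n * v * n⁻¹) * r⁻¹ by group, cfix h2 hv] at h3

theorem Big.stepB (hV : Big V) (h : Hom G) (hall : ∀ l c, Lin V l → c ∈ V → l c = 0 → Ind V l c)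
    {X : Subgroup G} (hX : IsSyl 2 X (centralizer (V : Set G))) : X ≤ V := by
  classical
  have := Fact.mk Nat.prime_two
  by_contra hXV
  have hc := hX.le
  have hVX : V ≤ X := hX.le_of_le_normalizer hV.pg hV.le_cent
    (hc.trans (centralizer_le_normalizer _))
  obtain ⟨m, hm, -, v, hv, mv⟩ := sep (K := ⊥) hV.pg bot_le fun h1 => by
    have := card_le_of_le h1; have := hV.h4; simp at *; omega
  have hHV : hm.ker ≤ V := fun x hx => hx.1
  obtain ⟨R, hR, hXR⟩ := exists_isSyl_le (H := centralizer (hm.ker : Set G) ⊓ normalizer (V : Set G))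
    hX.isPGroup (le_inf (hc.trans (centralizer_le hHV)) (hc.trans (centralizer_le_normalizer _)))
  have hNC : normalizer (V : Set G) ≤ normalizer (centralizer (V : Set G) : Set G) := fun g hg =>
    mem_normalizer_fintype fun n hn => mem_cent fun u hu => by
      calc _ = g * (n * (g⁻¹ * u * g) * n⁻¹) * g⁻¹ := by group
        _ = u := by rw [cfix hn ((mem_normalizer_iff''.1 hg u).1 hu)]; group
  have hRX : R ≤ normalizer (X : Set G) := fun r hr => mem_normalizer_fintype fun x hx => by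
    rw [← hX.eq_of_le (Q := R ⊓ centralizer (V : Set G)) (hR.isPGroup.to_le inf_le_left)
      (le_inf hXR hc) inf_le_right]
    exact ⟨R.mul_mem (R.mul_mem hr (hXR hx)) (R.inv_mem hr),
      (mem_normalizer_iff.1 (hNC (hR.le hr).2) x).1 (hc hx)⟩
  have hRV : ∀ r ∈ R, ∀ u ∈ V, r * u * r⁻¹ ∈ V := fun r hr u hu =>
    (mem_normalizer_iff.1 (hR.le hr).2 u).1 hu
  have hRX' : ∀ r ∈ R, ∀ x ∈ X, r⁻¹ * x * r ∈ X := fun r hr x hx =>
    (mem_normalizer_iff''.1 (hRX hr) x).1 hx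
  have getj : ∀ l, Lin X l → (∀ u ∈ V, l u = 0) → ∀ c ∈ hm.ker, ∃ r ∈ R, ∃ j ∈ X, ∀ x ∈ X,
      j * x * j⁻¹ = x * (pw v (l x) * pw (v * c) (l (r⁻¹ * x * r))) := fun l hl hl0 c hc1 => by
    obtain ⟨r, hr, e⟩ := hV.exists_r hm hv mv hR hc1.1 (hall m c hm hc1.1 hc1.2)
    obtain ⟨j, ⟨k, hk⟩, f⟩ := h.inn hVX (fun u hu x hx => mem_centralizer_iff.1 (hc hx) u hu) hV.he
      hl hl0 hv (hRX hr) (hR.le hr).2
    rw [e] at f
    refine ⟨r, hr, j, hX.le_of_le_normalizer' (isPGroup_zpowers hk) (zpowers_le.2 (mem_cent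
      fun u hu => ?_)) (zpowers_le.2 (mem_normalizer_fintype fun x hx => ?_)) (mem_zpowers j),
      fun x hx => by rw [f x hx, mul_assoc]⟩
    · rw [f u (hVX hu), hl0 u hu, hl0 _ ((mem_normalizer_iff''.1 (hR.le hr).2 u).1 hu)]; simp
    · rw [f x hx]
      exact X.mul_mem (X.mul_mem hx (pw_mem (hVX hv) _)) (pw_mem (hVX (V.mul_mem hv hc1.1)) _)
  obtain ⟨l, hl, hl0, ⟨b, hb, lb⟩, hlR⟩ := sepR (R : Set G) hR.isPGroup hXR hRX le_rfl hRV hVX hXV
  have hlR' : ∀ r ∈ R, ∀ x ∈ X, l (r⁻¹ * x * r) = l x := fun r hr x hx => by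
    simpa using hlR r⁻¹ (R.inv_mem hr) x hx
  have P1 : ∀ c ∈ hm.ker, Inn X l c := fun c hc1 => by
    obtain ⟨r, hr, j, hj, e⟩ := getj l hl hl0 c hc1
    refine ⟨j, hj, fun x hx => ?_⟩
    rw [e x hx, hlR' r hr x hx, ← mul_pw, ← mul_assoc v, hV.he v hv, one_mul]
  obtain ⟨a, ha, a1, -⟩ := exists_third (W := hm.ker) (by have := hV.eight; have := hm.card_le; omega) 1
  have Pall : ∀ c ∈ V, Inn X l c := by
    obtain ⟨n, hn, hn0, na⟩ := sep' (K := zpowers v) hV.he (zpowers_le.2 hv) ha.1 fun h1 => by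
      rcases (mem_zpowers_of_sq (hV.he v hv)).1 h1 with e | e
      · exact a1 e
      · exact absurd (ha.2.symm.trans (e ▸ mv)) (by decide)
    obtain ⟨g0, hg0⟩ := hall n v hn hv (hn0 v (mem_zpowers v))
    have hg0V : g0 ∈ normalizer (V : Set G) := mem_normalizer_fintype fun u hu => by
      rw [hg0 u hu]; exact V.mul_mem hu (pw_mem hv _)
    obtain ⟨g, hg, t, ht, rfl⟩ := hX.frattini_mem (hNC hg0V)
    have hgV : g ∈ normalizer (V : Set G) := by
      simpa using mul_mem hg0V (inv_mem (centralizer_le_normalizer _ ht))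
    have hg1 : ∀ x ∈ X, g⁻¹ * x * g ∈ X := fun x hx => (mem_normalizer_iff''.1 hg x).1 hx
    have hg2 : ∀ x ∈ V, g⁻¹ * x * g ∈ V := fun x hx => (mem_normalizer_iff''.1 hgV x).1 hx
    have P2 : ∀ c ∈ (hm.conj hg2).ker, Inn X (fun x => l (g⁻¹ * x * g)) c := fun c hc1 => by
      obtain ⟨j, hj, e⟩ := P1 _ ⟨hg2 c hc1.1, hc1.2⟩
      refine ⟨_, (mem_normalizer_iff.1 hg j).1 hj, fun x hx => ?_⟩
      calc _ = g * (j * (g⁻¹ * x * g) * j⁻¹) * g⁻¹ := by group
        _ = x * (g * pw (g⁻¹ * c * g) (l (g⁻¹ * x * g)) * g⁻¹) := by rw [e _ (hg1 x hx)]; group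
        _ = _ := by rw [pw_conj]; congr 2; group
    have h2 := fun x => hV.two_pair (x := x) hc hl (hl.conj hg1) hHV hm.card_le P1
      (show (hm.conj hg2).ker ≤ V from fun x hx => hx.1) (hm.conj hg2).card_le P2 hb ((mem_normalizer_iff.1 hg b).1 hb) lb (by
        simp only [show g⁻¹ * (g * b * g⁻¹) * g = b by group, lb])
    have h3 : g * a * g⁻¹ = a * v := by
      have := hg0 a ha.1
      rwa [na, pw_one, show g * t * a * (g * t)⁻¹ = g * (t * a * t⁻¹) * g⁻¹ by group,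
        cfix ht ha.1] at this
    obtain ⟨j, hj, e⟩ := P2 (a * v) ⟨V.mul_mem ha.1 hv, by
      simp only [← h3, show g⁻¹ * (g * a * g⁻¹) * g = a by group, ha.2]⟩
    intro c hc1
    rcases z2 (m c) with f | f
    · exact P1 c ⟨hc1, f⟩
    · have hav := V.mul_mem ha.1 hv
      obtain ⟨k, hk, e'⟩ := P1 (a * v * c) ⟨V.mul_mem hav hc1, by
        rw [hm _ hav c hc1, hm a ha.1 v hv, ha.2, mv, f, zero_add, z2_11]⟩
      refine ⟨j * k, X.mul_mem hj hk, fun x hx => ?_⟩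
      rw [cj_mul (e x hx) (e' x hx) (cfix (hc hj) (pw_mem (V.mul_mem hav hc1) _))]
      simp only [← h2 x hx]
      rw [← mul_pw, ← mul_assoc (a * v), hV.he _ hav, one_mul]
  let F : Subgroup G := closure {y | ∃ x ∈ X, y = x * x} ⊔ V
  have hF : ∀ {n : G → ZMod 2} (hn : Lin X n), (∀ u ∈ V, n u = 0) → F ≤ hn.ker := fun hn hn0 =>
    sup_le ((closure_le _).2 (by
      rintro _ ⟨x, hx, rfl⟩
      exact ⟨X.mul_mem hx hx, by rw [hn x hx x hx, z2_add]⟩)) fun u hu => ⟨hVX hu, hn0 u hu⟩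
  have hbk : ∀ x ∈ X, l x = 1 → b⁻¹ * x ∈ hl.ker := fun x hx e =>
    ⟨X.mul_mem (X.inv_mem hb) hx, by rw [hl _ (X.inv_mem hb) x hx, hl.inv hb, lb, e, z2_11]⟩
  by_cases h1 : hl.ker ≤ F
  · have h2 : X ≤ zpowers b ⊔ V := by
      by_contra h2
      obtain ⟨n, hn, hn0, x, hx, nx⟩ := sep hX.isPGroup (sup_le (zpowers_le.2 hb) hVX) h2
      have h3 := h1.trans (hF hn fun u hu => hn0 u (mem_sup_right hu))
      rcases z2 (l x) with e | e
      · exact absurd ((h3 ⟨hx, e⟩).2.symm.trans nx) (by decide)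
      · have h4 := (h3 (hbk x hx e)).2
        rw [hn _ (X.inv_mem hb) x hx, hn.inv hb, hn0 b (mem_sup_left (mem_zpowers b)), nx] at h4
        exact absurd h4 (by decide)
    obtain ⟨j, hj, e⟩ := P1 a ha
    have h3 : zpowers b ⊔ V ≤ centralizer {b} := sup_le (zpowers_le.2 (by
      simp [mem_centralizer_iff])) fun u hu => mem_centralizer_singleton_iff.2
        (mem_centralizer_iff.1 (hc hb) u hu)
    have h4 := e b hb
    rw [mem_centralizer_singleton_iff.1 (h3 (h2 hj)), lb] at h4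
    exact a1 (by simpa using h4)
  obtain ⟨n, hn, hn0, ⟨y, hy, ny⟩, hnR⟩ := sepR (X := hl.ker) (K := F) (R : Set G) hR.isPGroup
    (fun x hx => hXR hx.1) (fun r hr => mem_normalizer_fintype fun x hx =>
      ⟨(mem_normalizer_iff.1 (hRX hr) x).1 hx.1, (hlR r hr x hx.1).trans hx.2⟩) le_rfl
    (fun r hr k hk => by
      refine (mem_normalizer_iff.1 (normalizer_inf_normalizer_le_normalizer_sup _ _
        ⟨mem_normalizer_fintype fun z hz => ?_, (hR.le hr).2⟩) k).1 hk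
      refine closure_induction (p := fun z _ => r * z * r⁻¹ ∈ closure {y | ∃ x ∈ X, y = x * x})
        ?_ (by simp) (fun s t _ _ hs ht => ?_) (fun s _ hs => ?_) hz
      · rintro _ ⟨x, hx, rfl⟩
        exact subset_closure ⟨_, (mem_normalizer_iff.1 (hRX hr) x).1 hx, by group⟩
      · simpa using mul_mem hs ht
      · simpa [mul_assoc] using inv_mem hs) (hF hl hl0) h1
  have hnR' : ∀ r ∈ R, ∀ x ∈ hl.ker, n (r⁻¹ * x * r) = n x := fun r hr x hx => by
    simpa using hnR r⁻¹ (R.inv_mem hr) x hx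
  have hk' : ∀ r ∈ R, ∀ x ∈ hl.ker, r⁻¹ * x * r ∈ hl.ker := fun r hr x hx =>
    ⟨hRX' r hr x hx.1, (hlR' r hr x hx.1).trans hx.2⟩
  let l2 : G → ZMod 2 := fun x => if l x = 0 then n x else n (b⁻¹ * x)
  have e0 : ∀ x, l x = 0 → l2 x = n x := fun x e => if_pos e
  have e1 : ∀ x, l x = 1 → l2 x = n (b⁻¹ * x) := fun x e => if_neg (by rw [e]; exact one_ne_zero)
  have hbb : b * b ∈ F := mem_sup_left (subset_closure ⟨b, hb, rfl⟩)
  have hl2 : Lin X l2 := fun x hx z hz => by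
    have f := hl x hx z hz
    rcases z2 (l x) with e | e <;> rcases z2 (l z) with e' | e' <;> rw [e, e'] at f
    · rw [e0 _ (by simpa using f), e0 x e, e0 z e', hn x ⟨hx, e⟩ z ⟨hz, e'⟩]
    · rw [e1 _ (by simpa using f), e0 x e, e1 z e',
        show b⁻¹ * (x * z) = b⁻¹ * x * b * (b⁻¹ * z) by group,
        hn _ (hk' b (hXR hb) x ⟨hx, e⟩) _ (hbk z hz e'), hnR' b (hXR hb) x ⟨hx, e⟩]
    · rw [e1 _ (by simpa using f), e1 x e, e0 z e', ← mul_assoc, hn _ (hbk x hx e) z ⟨hz, e'⟩]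
    · have f1 := hF hl hl0 hbb
      have f2 := hk' b (hXR hb) _ (hbk x hx e)
      rw [e0 _ (by simpa [z2_11] using f), e1 x e, e1 z e',
        show x * z = b * b * (b⁻¹ * (b⁻¹ * x) * b * (b⁻¹ * z)) by group,
        hn _ f1 _ (mul_mem f2 (hbk z hz e')), hn0 _ hbb, hn _ f2 _ (hbk z hz e'),
        hnR' b (hXR hb) _ (hbk x hx e), zero_add]
  have l2b : l2 b = 0 := by rw [e1 b lb, inv_mul_cancel, hn.one]
  have P2 : ∀ c ∈ hm.ker, Inn X l2 c := fun c hc1 => by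
    obtain ⟨r, hr, j, hj, e⟩ := getj l2 hl2
      (fun u hu => by rw [e0 u (hl0 u hu), hn0 u (mem_sup_right hu)]) c hc1
    have hvc := V.mul_mem hv hc1.1
    obtain ⟨k, hk, e'⟩ := Pall _ (pw_mem hvc (l2 (r⁻¹ * b * r)))
    refine ⟨j * k, X.mul_mem hj hk, fun x hx => ?_⟩
    have f : l2 (r⁻¹ * x * r) = l2 x + l2 (r⁻¹ * b * r) * l x := by
      rcases z2 (l x) with f | f
      · rw [f, e0 x f, e0 _ ((hlR' r hr x hx).trans f), hnR' r hr x ⟨hx, f⟩, mul_zero, add_zero]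
      · have f1 := hk' r hr _ (hbk x hx f)
        rw [show r⁻¹ * x * r = r⁻¹ * b * r * (r⁻¹ * (b⁻¹ * x) * r) by group,
          hl2 _ (hRX' r hr b hb) _ f1.1, e0 _ f1.2, hnR' r hr _ (hbk x hx f), e1 x f, f, mul_one,
          add_comm]
    rw [cj_mul (e x hx) (e' x hx) (cfix (hc hj) (pw_mem (pw_mem hvc _) _)), f, pw_pw,
      pw_add (hV.he _ hvc), mul_assoc, mul_assoc, hV.he _ (pw_mem hvc _), mul_one, ← mul_pw,
      ← mul_assoc v, hV.he v hv, one_mul]
  have := hV.two_pair hc hl hl2 hHV hm.card_le P1 hHV hm.card_le P2 hb hy.1 lb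
    (by rw [e0 y hy.2, ny]) hb
  rw [lb, l2b] at this
  exact one_ne_zero this

end H99.HG
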