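/- Homogeneous simple groups have `2`-rank at most two. -/
import Cfsg.Agent.H99.HG4
import Cfsg.Agent.H84.Inv
import Cfsg.Agent.S0215

set_option autoImplicit false

namespace H99.HG

open Subgroup H98 Function Cfsg
open scoped commutatorElement Pointwise

variable {G : Type*} [Group G] [Finite G] {V : Subgroup G}

theorem ord_two {x : G} (h : x * x = 1) (h1 : x ≠ 1) : orderOf x = 2 :=
  haveI := Fact.mk Nat.prime_two
  orderOf_eq_prime (by rw [pow_two, h]) h1

theorem nc_le (H : Subgroup G) :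
    normalizer (H : Set G) ≤ normalizer (centralizer (H : Set G) : Set G) := fun g hg =>
  mem_normalizer_fintype fun n hn => mem_cent fun u hu => by
    calc _ = g * (n * (g⁻¹ * u * g) * n⁻¹) * g⁻¹ := by group
      _ = u := by rw [cfix hn ((mem_normalizer_iff''.1 hg u).1 hu)]; group

theorem Big.stepC (hV : Big V) (h : Hom G)
    (hall : ∀ l c, Lin V l → c ∈ V → l c = 0 → Ind V l c) : False := by
  have := Fact.mk Nat.prime_two
  have he := hV.he
  have hB : ∀ j ∈ centralizer (V : Set G), (∃ k, j ^ 2 ^ k = 1) → j ∈ V := by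
    rintro j hj ⟨k, hk⟩
    obtain ⟨X, hX, hle⟩ := exists_isSyl_le (isPGroup_zpowers hk) (zpowers_le.2 hj)
    exact hV.stepB h hall hX (hle (mem_zpowers j))
  obtain ⟨m, hm, -, v, hv, mv⟩ := sep (K := ⊥) hV.pg bot_le fun h1 => by
    have := card_le_of_le h1; have := hV.h4; simp at *; omega
  have hHV : hm.ker ≤ V := fun x hx => hx.1
  obtain ⟨R, hR, hVR⟩ := exists_isSyl_le (H := centralizer (hm.ker : Set G) ⊓ normalizer (V : Set G))
    hV.pg (le_inf (hV.le_cent.trans (centralizer_le hHV)) le_normalizer)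
  obtain ⟨Y, hY, hRY⟩ := exists_isSyl_le hR.isPGroup (hR.le.trans inf_le_left)
  have hVY := hVR.trans hRY
  have hc := hY.le
  have h3 : 2 < Nat.card hm.ker := by have := hV.eight; have := hm.card_le; omega
  obtain ⟨a, ha, a1, -⟩ := exists_third h3 1
  obtain ⟨b, hb, b1, ba⟩ := exists_third h3 a
  have tr : ∀ a ∈ hm.ker, ∀ b ∈ hm.ker, a ≠ 1 → a ≠ b → ∃ g ∈ normalizer (hm.ker : Set G),
      g * a * g⁻¹ = a * b ∧ g * b * g⁻¹ = b := fun a ha b hb a1 ab => by
    obtain ⟨n, hn, hn0, na⟩ := sep' (K := zpowers b) he (zpowers_le.2 hb.1) ha.1 fun h1 =>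
      ((mem_zpowers_of_sq (he b hb.1)).1 h1).elim a1 ab
    obtain ⟨g, hg⟩ := hall n b hn hb.1 (hn0 b (mem_zpowers b))
    refine ⟨g, mem_normalizer_fintype fun u hu => ?_, by rw [hg a ha.1, na, pw_one],
      by rw [hg b hb.1, hn0 b (mem_zpowers b), pw_zero, mul_one]⟩
    rw [hg u hu.1]; exact mul_mem hu (pw_mem hb _)
  obtain ⟨g1, hg1, e1, e2⟩ := tr a ha b hb a1 ba.symm
  obtain ⟨g2, hg2, e3, e4⟩ := tr b hb a ha b1 ba
  obtain ⟨g, hg, t, ht, e5⟩ := hY.frattini_mem (nc_le _ (mul_mem hg2 hg1))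
  have hgH : g ∈ normalizer (hm.ker : Set G) := by
    have := mul_mem (mul_mem hg2 hg1) (inv_mem (centralizer_le_normalizer _ ht))
    simpa [e5] using this
  have ga : g * a * g⁻¹ = b := by
    rw [← cfix ht ha, show g * (t * a * t⁻¹) * g⁻¹ = g * t * a * (g * t)⁻¹ by group, ← e5,
      cj_mul (u := 1) (by rw [e4, mul_one]) e1 e3, one_mul, comm_of_sq he hb.1 ha.1, ← mul_assoc,
      he a ha.1, one_mul]
  have gb : g * b * g⁻¹ = b * a := by
    rw [← e3, ← cfix ht hb, show g * (t * b * t⁻¹) * g⁻¹ = g * t * b * (g * t)⁻¹ by group, ← e5,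
      cfix ht hb]
    calc _ = g2 * (g1 * b * g1⁻¹) * g2⁻¹ := by group
      _ = _ := by rw [e2]
  have hv' : g⁻¹ * v * g ∈ Y := (mem_normalizer_iff''.1 hg v).1 (hVY hv)
  have hvv : g⁻¹ * v * g * (g⁻¹ * v * g) = 1 := by
    calc _ = g⁻¹ * (v * v) * g := by group
      _ = 1 := by rw [he v hv]; group
  have hYK : Y ≤ (zpowers v ⊔ zpowers (g⁻¹ * v * g)) ⊔ hm.ker := by
    by_contra h1
    obtain ⟨l, hl, hl0, y, hy, ly⟩ := sep hY.isPGroup (sup_le (sup_le (zpowers_le.2 (hVY hv))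
      (zpowers_le.2 hv')) (hHV.trans hVY)) h1
    have key : ∀ c ∈ hm.ker, c ≠ 1 → c ≠ g * c * g⁻¹ →
        v * y * v⁻¹ = y * c * pw (g * c * g⁻¹) (l (g⁻¹ * y * g)) := fun c hc1 c1 c2 => by
      obtain ⟨j, hj, e⟩ := h.inn (hHV.trans hVY)
        (fun u hu x hx => mem_centralizer_iff.1 (hc hx) u hu) (fun u hu => he u hu.1) hl
        (fun u hu => hl0 u (mem_sup_right hu)) hc1 hg hgH
      have hjV := hB j (hV.cent_of hm hv mv (mem_cent fun u hu => by
        rw [e u (hVY (hHV hu)), hl0 u (mem_sup_right hu),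
          hl0 _ (mem_sup_right ((mem_normalizer_iff''.1 hgH u).1 hu))]; simp) (by
        rw [e v (hVY hv), hl0 v (mem_sup_left (mem_sup_left (mem_zpowers v))),
          hl0 _ (mem_sup_left (mem_sup_right (mem_zpowers _)))]; simp)) hj
      have e' := e y hy
      rw [ly, pw_one] at e'
      rcases z2 (m j) with f | f
      · rw [mem_centralizer_iff.1 (hc hy) j (show j ∈ hm.ker from ⟨hjV, f⟩), mul_inv_cancel_right,
          mul_assoc, left_eq_mul] at e'
        rcases z2 (l (g⁻¹ * y * g)) with f' | f' <;> rw [f'] at e'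
        · exact absurd (by simpa using e') c1
        · rw [pw_one] at e'
          exact absurd (by rw [eq_inv_of_mul_eq_one_right e',
            inv_eq_of_mul_eq_one_right (he c hc1.1)]) c2
      · have f1 : v⁻¹ * j ∈ hm.ker := ⟨V.mul_mem (V.inv_mem hv) hjV, by
          rw [hm _ (V.inv_mem hv) j hjV, hm.inv hv, mv, f, z2_11]⟩
        rw [← e']
        calc _ = v * (v⁻¹ * j * y * (v⁻¹ * j)⁻¹) * v⁻¹ := by
              rw [mem_centralizer_iff.1 (hc hy) _ f1, mul_inv_cancel_right]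
          _ = _ := by group
    have k1 := key a ha a1 (ga ▸ ba.symm)
    have k2 := key b hb b1 (by rw [gb]; simpa using a1)
    rw [k1, ga, gb, mul_assoc y, mul_assoc y, mul_right_inj] at k2
    rcases z2 (l (g⁻¹ * y * g)) with f' | f' <;> rw [f'] at k2
    · exact ba (by simpa using k2.symm)
    · rw [pw_one, pw_one, ← mul_assoc, he b hb.1, one_mul] at k2
      exact b1 (by simpa using k2)
  generalize g⁻¹ * v * g = v' at hv' hvv hYK
  have hi : v⁻¹ = v := inv_eq_of_mul_eq_one_right (he v hv)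
  have hi' : v'⁻¹ = v' := inv_eq_of_mul_eq_one_right hvv
  have nz : ∀ {y : G}, y * (v * v') * y⁻¹ ∈ zpowers (v * v') →
      y ∈ normalizer (zpowers (v * v') : Set G) := fun {y} hy => mem_normalizer_fintype (by
    rintro _ ⟨k, rfl⟩
    simpa [← conj_zpow] using zpow_mem hy k)
  let S : Subgroup G :=
    { carrier := {y | y ∈ normalizer (zpowers (v * v') : Set G) ∧ y * v * y⁻¹ * v ∈ zpowers (v * v')}
      one_mem' := ⟨one_mem _, by simp [he v hv]⟩
      mul_mem' := fun {x y} hx hy => ⟨mul_mem hx.1 hy.1, by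
        have : x * y * v * (x * y)⁻¹ * v = x * (y * v * y⁻¹ * v) * x⁻¹ * (x * v⁻¹ * x⁻¹ * v) := by group
        rw [this, hi]
        exact mul_mem ((mem_normalizer_iff.1 hx.1 _).1 hy.2) hx.2⟩
      inv_mem' := fun {x} hx => ⟨inv_mem hx.1, by
        have : x⁻¹ * v * x⁻¹⁻¹ * v = x⁻¹ * (x * v⁻¹ * x⁻¹ * v⁻¹)⁻¹ * x := by group
        rw [this, hi]
        exact (mem_normalizer_iff''.1 hx.1 _).1 (inv_mem hx.2)⟩ }
  have hw : (v * v')⁻¹ = v' * v := by rw [mul_inv_rev, hi, hi']
  have hS : Y ≤ S := hYK.trans (sup_le (sup_le (zpowers_le.2 ⟨nz (by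
      rw [← mul_assoc, he v hv, one_mul, hi, ← hw]; exact inv_mem (mem_zpowers _)), by
      simp [he v hv]⟩) (zpowers_le.2 ⟨nz (by
      rw [mul_assoc, mul_inv_cancel_right, ← hw]; exact inv_mem (mem_zpowers _)), by
      rw [hi', mul_assoc, ← hw]
      exact mul_mem (inv_mem (mem_zpowers _)) (inv_mem (mem_zpowers _))⟩)) fun u hu => ⟨nz (by
      rw [mem_centralizer_iff.1 (hc (Y.mul_mem (hVY hv) hv')) u hu, mul_inv_cancel_right]
      exact mem_zpowers _), by
      rw [comm_of_sq he hu.1 hv, mul_inv_cancel_right, he v hv]; exact one_mem _⟩)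
  have fin : ∀ c ∈ hm.ker, c ∈ zpowers (v * v') := fun c hc1 => by
    obtain ⟨r, hr, e⟩ := hV.exists_r hm hv mv hR hc1.1 (hall m c hm hc1.1 hc1.2)
    have := (hS (hRY hr)).2
    rwa [e, comm_of_sq he hv hc1.1, mul_assoc, he v hv, mul_one] at this
  exact ba (H84.eq_of_mem_isCyclic_of_orderOf_two inferInstance (fin b hb) (fin a ha)
    (ord_two (he b hb.1) b1) (ord_two (he a ha.1) a1))

theorem Big.stepA (hV : Big V) [IsSimpleGroup G] (hG : ¬ IsMulCommutative G) :
    ¬ normalizer (V : Set G) ≤ centralizer (V : Set G) := fun hN => by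
  have := Fact.mk Nat.prime_two
  obtain ⟨S, hS⟩ := hV.pg.exists_le_sylow
  have nn : ∀ T : Subgroup G, V ≤ T → T ≤ centralizer (V : Set G) →
      normalizer (T : Set G) ≤ centralizer (V : Set G) := fun T h1 h2 g hg =>
    hN (mem_normalizer_fintype fun u hu => hV.omega (h2 ((mem_normalizer_iff.1 hg u).1 (h1 hu))) (by
      calc _ = g * (u * u) * g⁻¹ := by group
        _ = 1 := by rw [hV.he u hu]; group))
  have hSC : (S : Subgroup G) ≤ centralizer (V : Set G) := by
    by_contra h1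
    have h2 := lt_inf_normalizer S.2 (Q := S ⊓ centralizer (V : Set G)) (inf_lt_left.2 h1)
    exact h2.not_ge (le_inf inf_le_left (inf_le_right.trans
      (nn _ (le_inf hS hV.le_cent) inf_le_right)))
  obtain ⟨u, hu, u1, -⟩ := exists_third (W := V) (by have := hV.h4; omega) 1
  have hcs : ∀ x ∈ V, x ∈ centralizer (S : Set G) := fun x hx =>
    mem_centralizer_iff.2 fun s hs => (mem_centralizer_iff.1 (hSC hs) x hx).symm
  obtain ⟨N, hN1, hN2, hN3⟩ := Cfsg.Agent.S0215.result S u (ord_two (hV.he u hu) u1) (hS hu)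
    fun g hg => by
      obtain ⟨n, hn, e⟩ := S.conj_eq_normalizer_conj_of_mem_centralizer u g⁻¹ (hcs u hu) (by
        rw [inv_inv]
        exact hcs _ (hV.omega (hSC hg) (by
          calc _ = g * (u * u) * g⁻¹ := by group
            _ = 1 := by rw [hV.he u hu]; group)))
      rw [inv_inv] at e
      simpa [e] using cfix (inv_mem (nn _ hS hSC hn)) hu
  rcases hN1.eq_bot_or_eq_top with rfl | rfl
  · rcases (inferInstance : (center G).Normal).eq_bot_or_eq_top with h1 | h1
    · refine u1 (mem_bot.1 (h1 ▸ mem_center_iff.2 fun g => ?_))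
      have := mem_bot.1 (hN3 g)
      rw [mul_inv_eq_one, mul_inv_eq_iff_eq_mul] at this
      exact this.symm
    · exact hG ⟨⟨fun a b => mem_center_iff.1 (h1 ▸ mem_top b) a⟩⟩
  · rw [card_top] at hN2
    exact Nat.not_even_iff_odd.2 hN2
      (even_iff_two_dvd.2 (ord_two (hV.he u hu) u1 ▸ orderOf_dvd_natCard u))

theorem Hom.rank (h : Hom G) [IsSimpleGroup G] (hG : ¬ IsMulCommutative G) : PRankLE 2 2 G := by
  intro A _ hA
  by_contra h1
  obtain ⟨V, hV, hmax⟩ := Set.exists_max_image {V : Subgroup G | ∀ u ∈ V, u * u = 1}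
    (fun V => Nat.card V) (Set.toFinite _) ⟨⊥, by simp⟩
  have hB : Big V := ⟨hV, hmax, by
    have := hmax A fun a ha => by rw [← pow_two, hA a ha]
    omega⟩
  obtain ⟨g, hg, hg'⟩ := SetLike.not_le_iff_exists.1 (hB.stepA hG)
  exact hB.stepC h fun l c hl hc h0 => h.all_ind hV hB.h4 hg hg' hl hc h0

end H99.HG
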