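/- Weakly homogeneous `L₂(q)`, `q` odd, and `SL₂(7)`. -/
import Cfsg.Agent.H99.HG5
import Cfsg.Agent.H57.PslAutTwo

set_option autoImplicit false

namespace H99.HG

open Subgroup H98 Function Cfsg Matrix
open scoped MatrixGroups commutatorElement

variable {F : Type*} [Field F]

theorem mk_eq2 {A B : SL(2, F)} (h : (A : PSL(2, F)) = B) :
    ∃ r : F, r ^ 2 = 1 ∧ B.1 = r • A.1 := by
  obtain ⟨r, hr, e⟩ := Matrix.SpecialLinearGroup.mem_center_iff.1 (QuotientGroup.eq.1 h)
  refine ⟨r, by simpa using hr, ?_⟩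
  have : B.1 = A.1 * (A⁻¹ * B).1 := congrArg Subtype.val (mul_inv_cancel_left A B).symm
  rw [this, ← e]
  ext i j; simp [mul_comm]

theorem aut2 [Finite F] (φ : PSL(2, F) ≃* PSL(2, F)) : ∃ (g : Matrix (Fin 2) (Fin 2) F)
    (σ : F ≃+* F), g.det ≠ 0 ∧ ∀ A B : SL(2, F), φ A = B →
      ∃ r : F, r ^ 2 = 1 ∧ B.1 * g = r • (g * A.1.map σ) := by
  obtain ⟨g, σ, h⟩ := H57.psl_aut_two φ
  refine ⟨g, σ, g.det_ne_zero, fun A B e => ?_⟩
  rw [h, MulAut.mul_apply, H57.pslField_mk, H57.pslDiag_mk] at e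
  obtain ⟨r, hr, e'⟩ := mk_eq2 e
  refine ⟨r, hr, ?_⟩
  rw [e', smul_mul_assoc]
  exact congrArg _ (Units.inv_mul_cancel_right _ g)

theorem tr_eq {g A B : Matrix (Fin 2) (Fin 2) F} (hg : g.det ≠ 0) {r : F}
    (h : B * g = r • (g * A)) : B.trace = r * A.trace := by
  have h1 : B = r • (g * A * g⁻¹) := by
    rw [← smul_mul_assoc, ← h, mul_nonsing_inv_cancel_right _ _ hg.isUnit]
  rw [h1, trace_smul, trace_mul_cycle, nonsing_inv_mul _ hg.isUnit, one_mul, smul_eq_mul]

/-- upper unitriangular matrices. -/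
def up (F : Type*) [Field F] : Multiplicative F →* SL(2, F) :=
  MonoidHom.mk' (fun s => ⟨!![1, s.toAdd; 0, 1], by simp⟩) fun s t => Subtype.ext (by
    change _ = !![1, s.toAdd; 0, 1] * !![1, t.toAdd; 0, 1]
    simp [add_comm])

/-- diagonal matrices. -/
def dg (F : Type*) [Field F] : Fˣ →* SL(2, F) :=
  MonoidHom.mk' (fun s => ⟨!![s.1, 0; 0, s⁻¹.1], by simp⟩) fun s t => Subtype.ext (by
    change _ = !![s.1, 0; 0, s⁻¹.1] * !![t.1, 0; 0, t⁻¹.1]
    simp [mul_comm])

theorem up_val (s : F) : (up F (Multiplicative.ofAdd s)).1 = !![1, s; 0, 1] := rfl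

theorem dg_val (s : Fˣ) : (dg F s).1 = !![s.1, 0; 0, s⁻¹.1] := rfl

theorem up_inj : Injective ((QuotientGroup.mk' (center SL(2, F))).comp (up F)) := fun s t h => by
  obtain ⟨r, -, e⟩ := mk_eq2 h
  change !![1, t.toAdd; 0, 1] = r • !![1, s.toAdd; 0, 1] at e
  have e0 := congrFun (congrFun e 0) 0
  have e1 := congrFun (congrFun e 0) 1
  simp at e0 e1
  simpa [← e0, eq_comm] using e1

theorem kill_pow [Fintype F] {p f : ℕ} (hp : p.Prime) [CharP F p] (h2 : p ≠ 2) (hf : 2 ≤ f)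
    (hF : Fintype.card F = p ^ f) : ¬ WH PSL(2, F) := fun h => by
  have := Fact.mk hp
  obtain ⟨s, hs⟩ := IsCyclic.exists_generator (α := Fˣ)
  have ho : orderOf s = p ^ f - 1 := by
    rw [orderOf_eq_card_of_forall_mem_zpowers hs, Nat.card_units, Nat.card_eq_fintype_card, hF]
  let U := (QuotientGroup.mk' (center SL(2, F))).comp (up F)
  have o : ∀ a : F, a ≠ 0 → orderOf (U (Multiplicative.ofAdd a)) = p := fun a ha => by
    rw [orderOf_injective U up_inj, orderOf_ofAdd_eq_addOrderOf]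
    exact addOrderOf_eq_prime (by simp) ha
  have nz : ∀ k, 0 < k → k ≤ 2 → U (Multiplicative.ofAdd ((s ^ k : Fˣ) : F)) ∉
      zpowers (U (Multiplicative.ofAdd 1)) := fun k k0 k2 hk => by
    obtain ⟨n, hn⟩ := mem_powers_iff_mem_zpowers.2 hk
    simp only [← map_pow] at hn
    have h3 : (n : F) = (s ^ k : Fˣ) := by simpa using congrArg Multiplicative.toAdd (up_inj hn)
    have h4 : (s ^ k) ^ p = s ^ k := Units.ext (by
      rw [Units.val_pow_eq_pow_val, ← h3, ← frobenius_def, map_natCast])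
    have h5 : orderOf s ∣ k * (p - 1) := orderOf_dvd_of_pow_eq_one (by
      rw [pow_mul]
      refine mul_right_cancel (b := s ^ k) ?_
      rw [← pow_succ, Nat.sub_add_cancel hp.pos, h4, one_mul])
    have h6 := Nat.le_of_dvd (Nat.mul_pos k0 (by have := hp.two_le; omega)) h5
    have h7 := Nat.pow_le_pow_right hp.pos hf
    have h8 : 3 ≤ p := by have := hp.two_le; omega
    have h9 := Nat.mul_le_mul_right (p - 1) k2
    have : 3 * p ≤ p ^ 2 := by nlinarith
    omega
  have cm : ∀ a b, Commute (U a) (U b) := fun a b => (Commute.all a b).map U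
  obtain ⟨φ, e1, e2⟩ := h.w2 p hp h2 _ _ _ (o 1 one_ne_zero) (o _ (s ^ 1).ne_zero)
    (o _ (s ^ 2).ne_zero) (cm _ _) (cm _ _) (nz 1 one_pos one_le_two) (nz 2 two_pos le_rfl)
  obtain ⟨g, σ, hg, k⟩ := aut2 φ
  obtain ⟨r, hr, f1⟩ := k _ _ e1
  obtain ⟨r', hr', f2⟩ := k _ _ e2
  have h20 : (2 : F) ≠ 0 := fun e => h2 ((Nat.prime_dvd_prime_iff_eq hp Nat.prime_two).1
    ((CharP.cast_eq_zero_iff F p 2).1 (by exact_mod_cast e)))
  have t1 := tr_eq hg f1
  have t2 := tr_eq hg f2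
  simp [up_val, trace_fin_two] at t1 t2
  obtain rfl : r = 1 := mul_right_cancel₀ h20 (by linear_combination -t1)
  obtain rfl : r' = 1 := mul_right_cancel₀ h20 (by linear_combination -t2)
  have a0 := congrFun (congrFun f1 0) 0
  have a1 := congrFun (congrFun f1 0) 1
  have a2 := congrFun (congrFun f2 0) 1
  simp [up_val, mul_apply, Fin.sum_univ_two] at a0 a1 a2
  rw [det_fin_two, a0] at hg
  have a3 : g 1 1 = g 0 0 := by linear_combination a1
  have a4 : σ s = s ^ 2 := mul_left_cancel₀ (show g 0 0 ≠ 0 from fun e => hg (by simp [e]))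
    (by rw [a3] at a2; linear_combination -a2)
  obtain ⟨n, hn⟩ := mem_powers_iff_mem_zpowers.2 (hs (-1))
  have a5 := congrArg (fun x : Fˣ => σ x) hn
  simp only [Units.val_pow_eq_pow_val, map_pow, a4] at a5
  rw [← pow_mul, mul_comm, pow_mul, ← Units.val_pow_eq_pow_val, show s ^ n = -1 from hn] at a5
  simp at a5
  exact h20 (by linear_combination a5)

theorem exists_cop {n : ℕ} (h5 : 5 ≤ n) (h6 : n ≠ 6) : ∃ k, 1 < k ∧ k + 1 < n ∧ n.Coprime k := by
  obtain ⟨m, rfl | rfl⟩ := Nat.even_or_odd' n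
  · obtain ⟨r, rfl | rfl⟩ := Nat.even_or_odd' m
    · obtain ⟨r, rfl⟩ : ∃ s, r = s + 1 := ⟨r - 1, by omega⟩
      refine ⟨2 * r + 1, by omega, by omega, ?_⟩
      rw [show 2 * (2 * (r + 1)) = 2 + (2 * r + 1) * 2 by ring, Nat.coprime_add_mul_left_left]
      exact Nat.coprime_two_left.2 ⟨r, rfl⟩
    · obtain ⟨r, rfl⟩ : ∃ s, r = s + 1 := ⟨r - 1, by omega⟩
      refine ⟨2 * r + 1, by omega, by omega, ?_⟩
      rw [show 2 * (2 * (r + 1) + 1) = 2 ^ 2 + (2 * r + 1) * 2 by ring,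
        Nat.coprime_add_mul_left_left]
      exact (Nat.coprime_two_left.2 ⟨r, rfl⟩).pow_left _
  · exact ⟨2, one_lt_two, by omega, Nat.coprime_two_right.2 ⟨m, rfl⟩⟩

theorem kill_prime [Fintype F] {n : ℕ} (hp : (2 * n + 1).Prime) (hF : Fintype.card F = 2 * n + 1)
    (h5 : 5 ≤ n) (h6 : n ≠ 6) : ¬ WH PSL(2, F) := fun h => by
  obtain ⟨k, k1, k2, k3⟩ := exists_cop h5 h6
  obtain ⟨s, hs⟩ := IsCyclic.exists_generator (α := Fˣ)
  have ho : orderOf s = 2 * n := by
    rw [orderOf_eq_card_of_forall_mem_zpowers hs, Nat.card_units, Nat.card_eq_fintype_card, hF]; rfl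
  have h1 : orderOf (dg F s : PSL(2, F)) ∣ n := orderOf_dvd_of_pow_eq_one (by
    have h2 : (s ^ n) ^ 2 = 1 := by rw [← pow_mul, mul_comm, ← ho, pow_orderOf_eq_one]
    rw [← QuotientGroup.mk_pow, ← map_pow, QuotientGroup.eq_one_iff]
    refine Matrix.SpecialLinearGroup.mem_center_iff.2 ⟨(s ^ n : Fˣ), by
      simpa using congrArg Units.val h2, ?_⟩
    change _ = (dg F _).1
    rw [dg_val, inv_eq_of_mul_eq_one_right (pow_two (s ^ n) ▸ h2)]
    ext i j; fin_cases i <;> fin_cases j <;> simp)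
  obtain ⟨φ, e⟩ := h.w1 _ _ (Nat.Coprime.orderOf_pow (k3.coprime_dvd_left h1)).symm
  rw [← QuotientGroup.mk_pow, ← map_pow] at e
  obtain ⟨g, σ, hg, f⟩ := aut2 φ
  obtain ⟨r, hr, f1⟩ := f _ _ e
  have hσ : ∀ x, σ x = x := fun x => by
    obtain ⟨y, rfl⟩ := (ZMod.ringEquivOfPrime F hp hF).surjective x
    exact congrArg (fun j : ZMod (2 * n + 1) →+* F => j y) (RingHom.ext_zmod
      ((σ : F →+* F).comp (ZMod.ringEquivOfPrime F hp hF : ZMod (2 * n + 1) →+* F))
      (ZMod.ringEquivOfPrime F hp hF : ZMod (2 * n + 1) →+* F))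
  have t := tr_eq hg f1
  rw [dg_val, dg_val] at t
  simp [trace_fin_two, hσ] at t
  have s0 := s.ne_zero
  have h3 : ((s : F) ^ k * (s : F) ^ k - s * s) * ((s : F) ^ k * (s : F) ^ k * (s * s) - 1) = 0 := by
    have t2 := congrArg (· ^ 2) t
    simp only [mul_pow, hr, one_mul] at t2
    generalize hu : (s : F) ^ k = u at t2
    have u0 : u ≠ 0 := hu ▸ pow_ne_zero _ s0
    field_simp at t2
    linear_combination t2
  have h4 : ∀ m, (s : F) ^ (2 * m) = 1 → n ∣ m := fun m hm =>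
    Nat.dvd_of_mul_dvd_mul_left two_pos (ho ▸ orderOf_dvd_of_pow_eq_one (Units.ext (by simpa)))
  obtain ⟨k, rfl⟩ : ∃ j, k = j + 1 := ⟨k - 1, by omega⟩
  rcases mul_eq_zero.1 h3 with h7 | h7
  · have := Nat.le_of_dvd (by omega) (h4 k (mul_right_cancel₀ (mul_ne_zero s0 s0)
      (by linear_combination h7)))
    omega
  · have := Nat.le_of_dvd (by omega) (h4 (k + 2) (by linear_combination h7))
    omega

theorem cast_ne [Fintype F] {p : ℕ} (hp : p.Prime) (hF : Fintype.card F = p) {m : ℕ}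
    (hm : ¬ p ∣ m) : (m : F) ≠ 0 := by
  have := Fact.mk hp
  have := charP_of_card_eq_prime hF
  exact fun e => hm ((CharP.cast_eq_zero_iff F p m).1 e)

theorem kill_13 [Fintype F] (hF : Fintype.card F = 13) : ¬ WH PSL(2, F) := fun h => by
  have h13 : (13 : F) = 0 := by simpa [hF] using FiniteField.cast_card_eq_zero F
  let A : SL(2, F) := ⟨!![0, -1; 1, 7], by simp⟩
  have h1 : orderOf (A : PSL(2, F)) ∣ 7 := orderOf_dvd_of_pow_eq_one (by
    have : A ^ 7 = 1 := Subtype.ext (by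
      change (!![0, -1; 1, 7] : Matrix (Fin 2) (Fin 2) F) ^ 7 = 1
      ext i j; fin_cases i <;> fin_cases j <;> simp [pow_succ]
      · linear_combination (-1189) * h13
      · linear_combination (-8149) * h13
      · linear_combination 8149 * h13
      · linear_combination 55854 * h13)
    rw [← QuotientGroup.mk_pow, this, QuotientGroup.mk_one])
  obtain ⟨φ, e⟩ := h.w1 _ _ (Nat.Coprime.orderOf_pow
    ((show Nat.Coprime 7 2 by decide).coprime_dvd_left h1)).symm
  rw [← QuotientGroup.mk_pow] at e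
  obtain ⟨g, σ, hg, f⟩ := aut2 φ
  obtain ⟨r, hr, f1⟩ := f _ _ e
  have t := tr_eq hg f1
  change trace ((!![0, -1; 1, 7] : Matrix (Fin 2) (Fin 2) F) ^ 2) = _ at t
  simp [A, trace_fin_two, pow_two, map_ofNat] at t
  refine cast_ne (F := F) (by decide) hF (m := 2160) (by decide) ?_
  push_cast
  linear_combination (47 + 7 * r) * t + 49 * hr

theorem kill_psl2 [Fintype F] (ho : Odd (Fintype.card F)) (h5 : 5 ≤ Fintype.card F)
    (h : WH PSL(2, F)) : Fintype.card F = 5 ∨ Fintype.card F = 7 := by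
  obtain ⟨p, hp, f, hpp, hf⟩ := FiniteField.card' F
  have h2 : p ≠ 2 := fun e => Nat.not_even_iff_odd.2 ho (by
    rw [hf, e]; exact Nat.even_pow.2 ⟨even_two, f.ne_zero⟩)
  by_cases h1 : 2 ≤ (f : ℕ)
  · exact (kill_pow hpp h2 h1 hf h).elim
  rw [show (f : ℕ) = 1 by have := f.pos; omega, pow_one] at hf
  obtain ⟨n, hn⟩ := ho
  rw [← hf, hn] at hpp
  by_cases h6 : n = 6
  · exact (kill_13 (by omega) h).elim
  by_cases h7 : 5 ≤ n
  · exact (kill_prime hpp hn h7 h6 h).elim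
  have : n ≠ 4 := by rintro rfl; exact absurd hpp (by decide)
  omega

theorem comm_cen {H : Type*} [Group H] {z : H} (hz : z ∈ center H) (a b : H) :
    ⁅a * z, b⁆ = ⁅a, b⁆ := by
  simp only [commutatorElement_def]
  rw [mul_assoc a, ← mem_center_iff.1 hz b]; group

theorem eq_of_perfect {G H : Type*} [Group G] [Group H] (hp : commutator G = ⊤) {f g : G →* H}
    (h : ∀ x, (f x : H ⧸ center H) = g x) (x : G) : f x = g x := by
  have : commutator G ≤ f.eqLocus g := commutator_le.2 fun a _ b _ => by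
    change f ⁅a, b⁆ = g ⁅a, b⁆
    rw [map_commutatorElement, map_commutatorElement, ← mul_inv_cancel_left (f a) (g a),
      ← mul_inv_cancel_left (f b) (g b), comm_cen (QuotientGroup.eq.1 (h a)),
      ← commutatorElement_inv (f b * _), comm_cen (QuotientGroup.eq.1 (h b)), commutatorElement_inv]
  exact this (hp ▸ mem_top x)

theorem kill_sl27 [Fintype F] (hF : Fintype.card F = 7) (hp : commutator SL(2, F) = ⊤) :
    ¬ WH SL(2, F) := fun h => by
  have h7 : (7 : F) = 0 := by simpa [hF] using FiniteField.cast_card_eq_zero F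
  let A : SL(2, F) := ⟨!![0, -1; 1, 3], by simp⟩
  have h1 : orderOf A ∣ 8 := orderOf_dvd_of_pow_eq_one (Subtype.ext (by
    change (!![0, -1; 1, 3] : Matrix (Fin 2) (Fin 2) F) ^ 8 = 1
    ext i j; fin_cases i <;> fin_cases j <;> simp [pow_succ]
    · linear_combination (-54) * h7
    · linear_combination (-141) * h7
    · linear_combination 141 * h7
    · linear_combination 369 * h7))
  obtain ⟨φ, e⟩ := h.w1 _ _ (Nat.Coprime.orderOf_pow
    ((show Nat.Coprime 8 5 by decide).coprime_dvd_left h1)).symm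
  obtain ⟨g, σ, hg⟩ := H57.psl_aut_two (H57.quotCenterAut _ φ)
  have h2 := eq_of_perfect hp (f := φ.toMonoidHom)
    (g := (H57.slDiag (Fin 2) F g * H57.slField (Fin 2) F σ).toMonoidHom)
    (fun x => congrArg (fun ψ : MulAut PSL(2, F) => ψ x) hg) A
  have h3 : (A ^ 5).1 * g = (1 : F) • (g * A.1.map σ) := by
    rw [← e, show φ A = _ from h2, one_smul]
    exact Units.inv_mul_cancel_right _ g
  have t := tr_eq g.det_ne_zero h3
  change trace ((!![0, -1; 1, 3] : Matrix (Fin 2) (Fin 2) F) ^ 5) = _ at t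
  simp [A, trace_fin_two, pow_succ, map_ofNat] at t
  refine cast_ne (F := F) (by decide) hF (m := 120) (by decide) ?_
  push_cast
  linear_combination t

end H99.HG
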