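import Cfsg.Agent.H23.NDSpec

/-! The slot `JobAX` of the tower ND. -/

set_option autoImplicit false

open Cfsg H23.ND

namespace H99.NdAX

universe u

theorem pow_sw {Q : Type*} [Group Q] {u v c : Q} (h : v * u = u * v * c) (hv : Commute c v)
    (n : ℕ) : v ^ n * u = u * v ^ n * c ^ n := by
  induction n with
  | zero => simp
  | succ n ih =>
    calc v ^ (n + 1) * u = v * (v ^ n * u) := by rw [pow_succ', mul_assoc]
      _ = (v * u) * v ^ n * c ^ n := by rw [ih]; simp only [mul_assoc]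
      _ = u * v * (c * v ^ n) * c ^ n := by rw [h]; simp only [mul_assoc]
      _ = u * v * (v ^ n * c) * c ^ n := by rw [(hv.pow_right n).eq]
      _ = _ := by rw [pow_succ', pow_succ']; simp only [mul_assoc]

theorem mul_pow_sw {Q : Type*} [Group Q] {u v c : Q} (h : v * u = u * v * c) (hu : Commute c u)
    (hv : Commute c v) (n : ℕ) : (u * v) ^ n = u ^ n * v ^ n * c ^ (n.choose 2) := by
  induction n with
  | zero => simp
  | succ n ih =>
    have e : (n + 1).choose 2 = n + n.choose 2 := by rw [Nat.choose_succ_succ']; simp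
    calc (u * v) ^ (n + 1) = u ^ n * v ^ n * (c ^ (n.choose 2) * (u * v)) := by
          rw [pow_succ, ih]; simp only [mul_assoc]
      _ = u ^ n * (v ^ n * u) * v * c ^ (n.choose 2) := by
          rw [((hu.mul_right hv).pow_left _).eq]; simp only [mul_assoc]
      _ = u ^ n * u * v ^ n * (c ^ n * v) * c ^ (n.choose 2) := by
          rw [pow_sw h hv]; simp only [mul_assoc]
      _ = _ := by
          rw [(hv.pow_left n).eq, e, pow_add c, pow_succ, pow_succ]; simp only [mul_assoc]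

variable {G : Type u} [Group G]

theorem mk_comm {B : Subgroup G} [B.Normal] {a b : G} (h : a * b * a⁻¹ * b⁻¹ ∈ B) :
    Commute (a : G ⧸ B) (b : G ⧸ B) := by
  have := (QuotientGroup.eq_one_iff _).2 h
  simp only [QuotientGroup.mk_mul, QuotientGroup.mk_inv] at this
  exact commutatorElement_eq_one_iff_commute.1 this

theorem mem_of_comm {B : Subgroup G} [B.Normal] {a b : G}
    (h : Commute (a : G ⧸ B) (b : G ⧸ B)) : a * b * a⁻¹ * b⁻¹ ∈ B := by
  rw [← QuotientGroup.eq_one_iff]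
  simp only [QuotientGroup.mk_mul, QuotientGroup.mk_inv]
  exact commutatorElement_eq_one_iff_commute.2 h

theorem cm {A B : Subgroup G} {a b : G} (ha : a ∈ A) (hb : b ∈ B) :
    a * b * a⁻¹ * b⁻¹ ∈ ⁅A, B⁆ := Subgroup.commutator_mem_commutator ha hb

theorem mem_of_pow {C : Subgroup G} {x : G} {p j : ℕ} (hp : p.Prime) (h1 : x ^ p ∈ C)
    (h2 : x ^ j ∈ C) (hj : ¬ p ∣ j) : x ∈ C := by
  have co : Nat.Coprime p j := (Nat.Prime.coprime_iff_not_dvd hp).2 hj
  have e : x = (x ^ p) ^ Nat.gcdA p j * (x ^ j) ^ Nat.gcdB p j := by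
    rw [← zpow_natCast, ← zpow_natCast, ← zpow_mul, ← zpow_mul, ← zpow_add, ← Nat.gcd_eq_gcd_ab,
      co]
    simp
  rw [e]
  exact mul_mem (zpow_mem h1 _) (zpow_mem h2 _)

/-- For odd `p`: the element `x`. -/
theorem odd_x [Finite G] {p : ℕ} {P : Subgroup G} [P.Normal] {h : G} (hG : PG p P h)
    (g1 : GF1 P h) (hC : ⁅CC P, P⁆ ≤ L3 P) (hn : ¬ L2 P ≤ L3 P) (hp2 : p ≠ 2) {d : G}
    (hd : d ∈ Subgroup.zpowers h) (hdP : d ∉ P) (hdT : d ∈ Ct (L2 P) (L3 P)) :
    ∃ x ∈ P, x ∉ CC P ∧ x ^ p ∈ L3 P := by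
  classical
  have hp := hG.b.hp
  have l2 : L2 P ≤ P := Subgroup.commutator_le_left _ _
  have ct : ∀ {t y : G}, t ∈ L2 P → y ∈ P → Commute (t : G ⧸ L3 P) (y : G ⧸ L3 P) :=
    fun ht hy => mk_comm (cm ht hy)
  obtain ⟨y, hy, hyC⟩ := hG.f.ne
  -- an element outside `C` with `p`-th power in `C`
  have ex : ∃ k : ℕ, y ^ p ^ k ∈ CC P := by
    obtain ⟨k, e⟩ := hG.pg ⟨y, hy⟩
    refine ⟨k, ?_⟩
    rw [show y ^ p ^ k = 1 from by simpa using congrArg Subtype.val e]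
    exact one_mem _
  obtain ⟨x0, hx0, hx0C, hx0p⟩ : ∃ x0 ∈ P, x0 ∉ CC P ∧ x0 ^ p ∈ CC P := by
    have k0 : Nat.find ex ≠ 0 := fun e => hyC (by simpa [e] using Nat.find_spec ex)
    obtain ⟨k, e⟩ := Nat.exists_eq_succ_of_ne_zero k0
    refine ⟨y ^ p ^ k, pow_mem hy _, Nat.find_min ex (by omega), ?_⟩
    have := Nat.find_spec ex
    rwa [e, pow_succ, pow_mul] at this
  -- `L2 / L3` has exponent `p`
  have ex2 : ∀ t ∈ L2 P, (t : G ⧸ L3 P) ^ p = 1 := by
    intro t ht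
    obtain ⟨a, ha, e⟩ := hG.f.cl x0 hx0 hx0C t ht
    have e1 : a * x0 ^ p * a⁻¹ = (x0 * t) ^ p := by rw [← e, conj_pow]
    have e2 := congrArg (QuotientGroup.mk (s := L3 P)) e1
    simp only [QuotientGroup.mk_mul, QuotientGroup.mk_inv, QuotientGroup.mk_pow] at e2
    have c1 : Commute ((x0 ^ p : G) : G ⧸ L3 P) (a : G ⧸ L3 P) := mk_comm (hC (cm hx0p ha))
    rw [QuotientGroup.mk_pow] at c1
    rw [← c1.eq, (ct ht hx0).symm.mul_pow, mul_inv_cancel_right] at e2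
    simpa using e2
  have sw : ∀ {u v : G}, u ∈ P → v ∈ P → ∃ c ∈ L2 P, v * u = u * v * c := fun {u v} hu hv =>
    ⟨v⁻¹ * u⁻¹ * v⁻¹⁻¹ * u⁻¹⁻¹, cm (inv_mem hv) (inv_mem hu), by group⟩
  -- `p`-th powers lie in `C`
  have pw : ∀ v ∈ P, v ^ p ∈ CC P := by
    intro v hv
    by_contra k
    refine hn fun t ht => ?_
    obtain ⟨a, ha, e⟩ := hG.f.cl _ (pow_mem hv p) k t ht
    obtain ⟨c, hc, e1⟩ := sw ha hv
    have e2 := congrArg (QuotientGroup.mk (s := L3 P)) e1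
    have e3 := congrArg (QuotientGroup.mk (s := L3 P)) e
    simp only [QuotientGroup.mk_mul, QuotientGroup.mk_inv, QuotientGroup.mk_pow] at e2 e3
    have e4 := pow_sw e2 (ct hc hv) p
    rw [ex2 c hc, mul_one] at e4
    rw [← e4, mul_inv_cancel_right] at e3
    rw [← QuotientGroup.eq_one_iff]
    simpa using e3
  have hdy : d * y * d⁻¹ ∈ P := ‹P.Normal›.conj_mem _ hy d
  refine ⟨d * y * d⁻¹ * y⁻¹, mul_mem hdy (inv_mem hy), fun k => hyC (g1.fc d hd hdP y hy k), ?_⟩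
  obtain ⟨c, hc, e1⟩ := sw hdy (inv_mem hy)
  have e2 := congrArg (QuotientGroup.mk (s := L3 P)) e1
  rw [QuotientGroup.mk_mul, QuotientGroup.mk_mul _ _ c, QuotientGroup.mk_mul _ _ y⁻¹] at e2
  have e3 := mul_pow_sw e2 (ct hc hdy) (ct hc (inv_mem hy)) p
  obtain ⟨m, hm⟩ : p ∣ p.choose 2 :=
    hp.dvd_choose_self two_ne_zero (lt_of_le_of_ne hp.two_le (Ne.symm hp2))
  rw [hm, pow_mul, ex2 c hc, one_pow, mul_one] at e3
  rw [← QuotientGroup.eq_one_iff, QuotientGroup.mk_pow, QuotientGroup.mk_mul, e3,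
    ← QuotientGroup.mk_pow, ← QuotientGroup.mk_pow, ← QuotientGroup.mk_mul,
    QuotientGroup.eq_one_iff, conj_pow, inv_pow]
  have hyp := pw y hy
  rw [g1.g0] at hyp
  obtain ⟨c0, hc0, t, ht, e⟩ := Subgroup.mem_sup_of_normal_right.1 hyp
  obtain ⟨n, rfl⟩ := Subgroup.mem_zpowers_iff.1 hd
  have cc : Commute (h ^ n) c0 := Commute.zpow_left (mem_C0.1 hc0).2 n
  have := (inferInstance : (L3 P).Normal).conj_mem _ (hdT t ht) c0
  rw [← e]
  convert this using 1
  simp only [← mul_assoc, mul_inv_rev, cc.eq]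

theorem jobAX : JobAX.{u} := by
  intro G _ _ p P _ h hG g1 g2 h4 hC hn hh
  have hp := hG.b.hp
  have l2 : L2 P ≤ P := Subgroup.commutator_le_left _ _
  have l3 : L3 P ≤ L2 P := Subgroup.commutator_le_left _ _
  have lC : L2 P ≤ CC P := g1.g0 ▸ le_sup_right
  obtain ⟨d, hd, hdP, hdT⟩ := g1.g1 (L2 P) (L3 P) l3 le_rfl le_rfl
  obtain ⟨c0, hc0, hc03⟩ := SetLike.not_le_iff_exists.1 hn
  obtain ⟨b, hb, hcd⟩ := g1.lift d hd (L3 P) (l3.trans l2) c0 (l2 hc0) (hdT c0 hc0)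
  have hc : c0 * b ∈ L2 P := mul_mem hc0 (l3 hb)
  have hc1 : c0 * b ≠ 1 := fun e => hc03 (by
    rw [eq_inv_of_mul_eq_one_left e]; exact inv_mem hb)
  have hpd : p ∣ orderOf (c0 * b) := by
    obtain ⟨k, e⟩ := hG.pg ⟨_, l2 hc⟩
    have e' : (c0 * b) ^ p ^ k = 1 := by simpa using congrArg Subtype.val e
    obtain ⟨j, -, hj⟩ := (Nat.dvd_prime_pow hp).1 (orderOf_dvd_of_pow_eq_one e')
    rcases j with _ | j
    · exact absurd (orderOf_eq_one_iff.1 (by simpa using hj)) hc1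
    · exact hj ▸ dvd_pow_self p (Nat.succ_ne_zero j)
  obtain ⟨a, ha, hao, had⟩ : ∃ a ∈ L2 P, orderOf a = p ∧ Commute d a :=
    ⟨(c0 * b) ^ (orderOf (c0 * b) / p), pow_mem hc _,
      orderOf_pow_orderOf_div (orderOf_pos _).ne' hpd, Commute.pow_right hcd _⟩
  have hap : a ^ p = 1 := hao ▸ pow_orderOf_eq_one a
  have key : ∀ i : ℕ, a ^ i ∈ L3 P → p ∣ i := by
    intro i hi
    have := g2.g3 d hd hdP hdT _ hi (by
      rw [(had.pow_right i).eq]; simp)
    rw [h4, Subgroup.mem_bot] at this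
    exact hao ▸ orderOf_dvd_of_pow_eq_one this
  have ha3 : a ∉ L3 P := fun k => hp.one_lt.ne' (Nat.dvd_one.1 (key 1 (by simpa using k)))
  have n3 : (L3 P).Normal := inferInstance
  by_cases hp2 : p = 2
  · subst hp2
    have hx : h * a * h⁻¹ ∈ L2 P := (inferInstance : (L2 P).Normal).conj_mem _ ha h
    have hx2 : (h * a * h⁻¹) ^ 2 = 1 := by rw [conj_pow, hap]; simp
    refine ⟨a, l2 ha, _, l2 hx, hap, by rw [hx2]; exact one_mem _, cm ha (l2 hx),
      fun i j hij z hz => Or.inr ⟨mul_mem (mul_mem (pow_mem ha _) (pow_mem hx _)) (l3 hz),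
        fun k => ?_⟩⟩
    have k' : a ^ i * (h * a * h⁻¹) ^ j ∈ L3 P := (mul_mem_cancel_right hz).1 k
    rw [pow_eq_pow_mod i hap, pow_eq_pow_mod j hx2] at k'
    rcases Nat.mod_two_eq_zero_or_one i with hi | hi <;>
      rcases Nat.mod_two_eq_zero_or_one j with hj | hj <;> rw [hi, hj] at k'
    · exact hij ⟨by omega, by omega⟩
    · refine ha3 ?_
      have := n3.conj_mem' _ k' h
      simpa [mul_assoc] using this
    · exact ha3 (by simpa using k')
    · refine ha3 (hh a ha ?_)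
      have ai : a⁻¹ = a := inv_eq_of_mul_eq_one_right (by rw [← pow_two, hap])
      have := n3.conj_mem' _ k' a
      rw [ai]
      simpa [mul_assoc] using this
  · obtain ⟨x, hx, hxC, hxp⟩ := odd_x hG g1 hC hn hp2 hd hdP hdT
    refine ⟨a, l2 ha, x, hx, hap, hxp, cm ha hx, fun i j hij z hz => ?_⟩
    by_cases hj : p ∣ j
    · obtain ⟨m, rfl⟩ := hj
      have hxm : x ^ (p * m) ∈ L3 P := by rw [pow_mul]; exact pow_mem hxp _
      refine Or.inr ⟨mul_mem (mul_mem (pow_mem ha _) (l3 hxm)) (l3 hz), fun k => ?_⟩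
      exact hij ⟨key i ((mul_mem_cancel_right hxm).1 ((mul_mem_cancel_right hz).1 k)),
        dvd_mul_right _ _⟩
    · refine Or.inl fun k => hxC (mem_of_pow hp (lC (l3 hxp)) ?_ hj)
      exact (mul_mem_cancel_left (lC (pow_mem ha i))).1 ((mul_mem_cancel_right (lC (l3 hz))).1 k)

end H99.NdAX
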