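import Cfsg.Agent.H51.OVKit

/-! Slot OV-B3 of the tower OV (`blueprints/OV.md`): no four-group of Baer involutions. -/

set_option autoImplicit false
set_option linter.unusedSectionVars false

namespace H99.OV

open H51.OV

universe u v w

section

variable {G : Type u} {P : Type v} {L : Type w} [Group G] [MulAction G P] [MulAction G L]
  [Membership P L] {n : ℕ} {O : Set P} [Finite P] [Finite L]

/-- A centre and two further fixed lines force all lines of the subplane to be fixed. -/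
theorem all_fixed (h : Pl G P L n O) {F : Set P} {Λ : Set L} {m : ℕ} (sb : Sub F Λ m) {τ : G}
    {Y : P} (hY : Y ∈ F) (cY : ∀ l ∈ Λ, Y ∈ l → τ • l = l) {l₁ l₂ : L} (ne : l₁ ≠ l₂)
    (a₁ : l₁ ∈ Λ) (a₂ : l₂ ∈ Λ) (f₁ : τ • l₁ = l₁) (f₂ : τ • l₂ = l₂) (y₁ : Y ∉ l₁)
    (y₂ : Y ∉ l₂) : ∀ l ∈ Λ, τ • l = l := by
  have two := sb.two
  have pt : ∀ l ∈ Λ, τ • l = l → Y ∉ l → ∀ X ∈ F, X ∈ l → τ • X = X := fun l _ f y X hX m => by
    obtain ⟨k, a, b⟩ := h.join X Y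
    have XY : X ≠ Y := fun e => y (e ▸ m)
    exact h.fix_point (l := l) (k := k) (fun e => y (e ▸ b)) m a f (cY k (sb.join X hX Y hY XY k a b) b)
  obtain ⟨E, E₁, E₂⟩ := h.meet l₁ l₂
  have off : ∀ l ∈ Λ, E ∉ l → τ • l = l := fun l hl e => by
    obtain ⟨X, x, x₁⟩ := h.meet l l₁
    obtain ⟨X', x', x₂⟩ := h.meet l l₂
    have n₁ : l ≠ l₁ := fun j => e (j ▸ E₁)
    have n₂ : l ≠ l₂ := fun j => e (j ▸ E₂)
    have XX : X ≠ X' := fun j => e (h.pt_eq ne x₁ (j ▸ x₂) E₁ E₂ ▸ x)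
    exact h.fix_line' XX x x' (pt l₁ a₁ f₁ y₁ X (sb.meet l hl l₁ a₁ n₁ X x x₁) x₁)
      (pt l₂ a₂ f₂ y₂ X' (sb.meet l hl l₂ a₂ n₂ X' x' x₂) x₂)
  intro l hl
  by_cases e : E ∈ l
  swap
  · exact off l hl e
  obtain ⟨X, ⟨hX, x⟩, XE, -⟩ := exists_ne2 (S := {p : P | p ∈ F ∧ p ∈ l})
    (by rw [sb.pts l hl]; omega) E E
  obtain ⟨k, ⟨hk, xk⟩, kl, -⟩ := exists_ne2 (S := {l : L | l ∈ Λ ∧ X ∈ l})
    (by rw [sb.lns X hX]; omega) l l
  obtain ⟨k', ⟨hk', xk'⟩, kl', kk⟩ := exists_ne2 (S := {l : L | l ∈ Λ ∧ X ∈ l})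
    (by rw [sb.lns X hX]; omega) l k
  have fk := off k hk fun j => kl (h.ln_eq XE xk j x e)
  have fk' := off k' hk' fun j => kl' (h.ln_eq XE xk' j x e)
  exact h.fix_line' XE x e (h.fix_point kk xk' xk fk' fk) (h.fix_point ne E₁ E₂ f₁ f₂)

end

theorem jobB3 (hC : JobCore.{u, v, w}) (h1 : JobB1.{u, v, w}) (h2 : JobB2.{u, v, w}) :
    JobB3.{u, v, w} := by
  intro G P L _ _ _ _ _ _ _ n O h σ τ m m' m'' bs bt bp c
  have sq' : ∀ {a : G} {j : ℕ}, Baer P L n a j → a * a = 1 := fun ha => by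
    rw [← sq, ← ha.ord, pow_orderOf_eq_one]
  have e1 : m' = m := Nat.pow_left_injective two_ne_zero (bt.sq.symm.trans bs.sq)
  have e2 : m'' = m := Nat.pow_left_injective two_ne_zero (bp.sq.symm.trans bs.sq)
  subst e1 e2
  obtain ⟨fs, ms⟩ := h1 G P L n O h σ _ bs
  obtain ⟨ft, -⟩ := h1 G P L n O h τ _ bt
  obtain ⟨fp, -⟩ := h1 G P L n O h _ _ bp
  obtain ⟨cnt, thr⟩ := h2 G P L n O h σ τ _ _ (sq' bs) (sq' bt) c fs ft fp rfl ms
  set k := {p : P | p ∈ O ∧ σ • p = p ∧ τ • p = p}.ncard with hk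
  have km : k ≤ m'' + 1 := fs ▸ Set.ncard_le_ncard fun p hp => ⟨hp.1, hp.2.1⟩
  have mo : Odd m'' := by
    have := h.odd
    rw [bs.sq] at this
    exact (Nat.odd_pow_iff two_ne_zero).1 this
  have m3 : 3 ≤ m'' := by
    have := bs.sub.two
    obtain ⟨j, hj⟩ := mo
    omega
  rcases hC G P L n O h _ _ _ τ bs.sub (sq' bt) (fun p hp => by
    change σ • τ • p = τ • p
    rw [← mul_smul, c.eq, mul_smul, show σ • p = p from hp]) with ⟨Y, hY, -, cY⟩ | ⟨s, hs, tot, sb⟩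
  · set B := {l : L | σ • l = l ∧ τ • l = l} with hB
    have T : {l : L | l ∈ B ∧ Y ∈ l} = {l : L | l ∈ {l : L | σ • l = l} ∧ Y ∈ l} := by
      ext l
      exact ⟨fun a => ⟨a.1.1, a.2⟩, fun a => ⟨⟨a.1, cY l a.1 a.2⟩, a.2⟩⟩
    have cT : {l : L | l ∈ B ∧ Y ∈ l}.ncard = m'' + 1 := T ▸ bs.sub.lns Y hY
    have sp := Set.ncard_sdiff_add_ncard_of_subset (s := {l : L | l ∈ B ∧ Y ∈ l}) (t := B)
      fun l a => a.1
    by_cases o : (B \ {l : L | l ∈ B ∧ Y ∈ l}).ncard ≤ 1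
    · have : B.ncard ≤ m'' + 2 := by omega
      have z : (k : ℤ) ^ 2 + 1 ≥ 2 * k := by nlinarith [sq_nonneg ((k : ℤ) - 1)]
      have z' : k ^ 2 + 1 ≥ 2 * k := by exact_mod_cast z
      omega
    · obtain ⟨l₁, l₂, a₁, a₂, ne⟩ := (Set.one_lt_ncard (Set.toFinite _)).1 (not_le.1 o) |>.imp
        fun l₁ a => a |>.2.imp fun l₂ b => And.intro a.1 b
      have all := all_fixed h bs.sub hY cY ne a₁.1.1 a₂.1.1 a₁.1.2 a₂.1.2
        (fun j => a₁.2 ⟨a₁.1, j⟩) (fun j => a₂.2 ⟨a₂.1, j⟩)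
      have : B = {l : L | σ • l = l} := Set.ext fun l => ⟨fun a => a.1, fun a => ⟨a, all l a⟩⟩
      rw [this, bs.tot] at cnt
      rcases Nat.eq_zero_or_pos k with k0 | k0
      · rw [k0] at cnt; nlinarith
      · obtain ⟨j, hj⟩ : ∃ j, k = j + 1 := ⟨k - 1, by omega⟩
        rw [hj] at cnt
        have : j ≤ m'' := by omega
        nlinarith
  · have tot' : {l : L | σ • l = l ∧ τ • l = l}.ncard = s ^ 2 + s + 1 := tot
    have s2 := sb.two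
    rw [tot', hs] at cnt
    rcases Nat.eq_zero_or_pos k with k0 | k0
    · rw [k0] at cnt; nlinarith
    · obtain ⟨p, hp⟩ := (Set.ncard_pos (Set.toFinite _)).1 k0
      have a := thr p hp.1 hp.2.1 hp.2.2
      have b : {l : L | (σ • l = l ∧ τ • l = l) ∧ p ∈ l}.ncard = s + 1 := sb.lns p hp.2
      rw [← a, b] at cnt
      nlinarith

end H99.OV
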