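import Cfsg.Agent.H51.OVKit

/-! Slot OV-RO of the tower OV (`blueprints/OV.md`): roots of homologies and odd elements. -/

set_option autoImplicit false
set_option linter.unusedSectionVars false

namespace H99.OV

open H51.OV

universe u v w

section

variable {G : Type u} {P : Type v} {L : Type w} [Group G] [MulAction G P] [MulAction G L]
  [Membership P L] {n : ℕ} {O : Set P}

theorem hom_sq {a : G} {C : P} {l : L} (ha : Hom a C l) : a * a = 1 := by
  rw [← sq, ← ha.ord, pow_orderOf_eq_one]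

theorem fixO_eq (hf : HF (G := G) P L O) {a : G} {C : P} {l : L} (ha : Hom a C l) :
    {p : P | p ∈ O ∧ a • p = p} = {p : P | p ∈ O ∧ p ∈ l} := by
  ext p
  simp only [Set.mem_ofPred_eq]
  refine and_congr_right fun hp => (ha.fp p).trans ⟨fun k => k.resolve_left ?_, Or.inr⟩
  rintro rfl
  exact hf.nO _ _ _ ha hp

variable [Finite P] [Finite L]

theorem par_axis (h : Pl G P L n O) (hf : HF (G := G) P L O) {a : G} {C : P} {l : L}
    (ha : Hom a C l) : (n + 1) % 4 = {p : P | p ∈ O ∧ p ∈ l}.ncard := by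
  have := h.par' (hom_sq ha)
  rw [fixO_eq hf ha] at this
  rcases hf.sec _ _ _ ha with e | e <;> omega

theorem root (h : Pl G P L n O) (hf : HF (G := G) P L O) {x b : G} {C D : P} {l k : L}
    (ha : Hom (x * x) C l) (hb : Hom b D k) (c : Commute x b) : b = x * x := by
  by_contra ne
  have cab : Commute (x * x) b := c.mul_left c
  have Dl : D ∈ l := hf.inc _ _ _ _ _ _ ha hb (Ne.symm ne) cab
  have xC : x • C = C := hf.fixC _ _ _ _ ha ((Commute.refl x).mul_right (Commute.refl x))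
  have xD : x • D = D := hf.fixC _ _ _ _ hb c
  have xk : x • k = k := hf.fixl _ _ _ _ hb c
  have CD : C ≠ D := fun e => ha.nm (e ▸ Dl)
  obtain ⟨m, Cm, Dm⟩ := h.join C D
  have xm : x • m = m := h.fix_line' CD Cm Dm xC xD
  have ml : m ≠ l := fun e => ha.nm (e ▸ Cm)
  have d4 := four_dvd (X := P) ({p : P | p ∈ m} \ {C, D}) x (hom_sq ha)
    (fun p hp => ⟨h.mem_of_fix xm hp.1, fun e => hp.2 (by
      rcases e with e | e
      · exact Or.inl (smul_left_cancel x (e.trans xC.symm))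
      · exact Or.inr (smul_left_cancel x ((Set.mem_singleton_iff.1 e).trans xD.symm)))⟩)
    (fun p hp e => hp.2 (by
      rcases (ha.fp p).1 e with j | j
      · exact Or.inl j
      · exact Or.inr (h.pt_eq ml hp.1 j Dm Dl)))
  have s := Set.ncard_sdiff_add_ncard_of_subset (s := {C, D}) (t := {p : P | p ∈ m})
    (by rintro p (rfl | rfl) <;> assumption)
  rw [h.pts, Set.ncard_pair CD] at s
  have pa := par_axis h hf hb
  have two : {p : P | p ∈ O ∧ p ∈ k}.ncard = 2 := by omega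
  obtain ⟨p, q, pq, e⟩ := Set.ncard_eq_two.1 two
  have mp : ∀ r ∈ ({p, q} : Set P), x • r ∈ ({p, q} : Set P) := fun r hr => by
    rw [← e] at hr ⊢
    exact ⟨h.inv _ _ hr.1, h.mem_of_fix xk hr.2⟩
  have fx : ∀ r ∈ ({p, q} : Set P), (x * x) • r = r := by
    have a := mp p (Or.inl rfl)
    have b := mp q (Or.inr rfl)
    have nq : x • p ≠ x • q := mt (smul_left_cancel x) pq
    simp only [Set.mem_insert_iff, Set.mem_singleton_iff] at a b
    have k : x • x • p = p ∧ x • x • q = q := by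
      rcases a with a | a <;> rcases b with b | b
      · exact (nq (a.trans b.symm)).elim
      · rw [a, a, b, b]; exact ⟨rfl, rfl⟩
      · rw [a, b, a]; exact ⟨rfl, rfl⟩
      · exact (nq (a.trans b.symm)).elim
    rintro r (rfl | rfl) <;> rw [mul_smul]
    exacts [k.1, k.2]
  have il : ∀ r ∈ ({p, q} : Set P), r ∈ l ∧ r ∈ k := fun r hr => by
    have f := fx r hr
    rw [← e] at hr
    refine ⟨((ha.fp r).1 f).resolve_left ?_, hr.2⟩
    rintro rfl
    exact hf.nO _ _ _ ha hr.1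
  have := h.ln_eq pq (il p (Or.inl rfl)).1 (il q (Or.inr rfl)).1 (il p (Or.inl rfl)).2
    (il q (Or.inr rfl)).2
  exact hb.nm (this ▸ Dl)

theorem odd_prime (h : Pl G P L n O) (hf : HF (G := G) P L O) {y s z z' : G} {r : ℕ}
    (hr : r.Prime) (ro : Odd r) (y1 : y ≠ 1) (yr : y ^ r = 1) {S Z Z' : P} {ls lz lz' : L}
    (hs : Hom s S ls) (hz : Hom z Z lz) (hz' : Hom z' Z' lz') (iv : s * y * s⁻¹ = y⁻¹)
    (zs : Commute z s) (zy : Commute z y) (zy' : Commute z' y) : z = z' := by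
  by_contra ne
  obtain ⟨j, hj⟩ := ro
  have r3 : 3 ≤ r := by have := hr.two_le; omega
  have ss := hom_sq hs
  have y2 : y * y ≠ 1 := fun e => y1 (by
    rw [hj, pow_succ, pow_mul, sq, e, one_pow, one_mul] at yr; exact yr)
  have nsy : ¬ Commute s y := fun c => y2 (by
    rw [c.eq, mul_inv_cancel_right] at iv
    exact mul_eq_one_iff_eq_inv.2 iv)
  -- `s' = y s` is conjugate to `s`
  set g := y ^ (j + 1) with hg
  have gg : g * g = y := by
    rw [hg, ← pow_add, show j + 1 + (j + 1) = r + 1 by omega, pow_succ, yr, one_mul]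
  have ig : s * g⁻¹ * s⁻¹ = g := by
    rw [← conj_inv, hg, ← conj_pow, iv, inv_pow, inv_inv]
  have si : s⁻¹ = s := inv_eq_of_mul_eq_one_right ss
  have e' : g * s * g⁻¹ = y * s := by
    calc g * s * g⁻¹ = g * (s * g⁻¹ * s⁻¹) * s := by group
      _ = y * s := by rw [ig, gg]
  have hs' := hf.conj _ g _ _ hs
  rw [e'] at hs'
  have nss : s ≠ y * s := fun e => y1 (by simpa using e.symm)
  have nzs : z ≠ s := fun e => nsy (e ▸ zy)
  have nzs' : z ≠ y * s := fun e => nsy (by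
    have a : Commute (y * s) y := e ▸ zy
    have b := (Commute.refl y).inv_left.mul_left a
    rwa [inv_mul_cancel_left] at b)
  have zs' : Commute z (y * s) := zy.mul_right zs
  have Sl : S ∈ lz := hf.inc _ _ _ _ _ _ hz hs nzs zs
  have Sl' : g • S ∈ lz := hf.inc _ _ _ _ _ _ hz hs' nzs' zs'
  have Zl : Z ∈ ls := hf.inc _ _ _ _ _ _ hs hz nzs.symm zs.symm
  have Zl' : Z ∈ g • ls := hf.inc _ _ _ _ _ _ hs' hz nzs'.symm zs'.symm
  have SS : S ≠ g • S := fun e => nss (hf.cen _ _ _ _ (g • ls) hs (by rw [e]; exact hs'))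
  have ll : ls ≠ g • ls := fun e => nss (hf.ax _ _ _ (g • S) _ hs (by rw [e]; exact hs'))
  have fix : ∀ p : P, y • p = p → p = Z ∨ p ∈ lz := fun p hp => by
    have e1 : (y * s) • p = s • p := by
      have : y * s = s * y⁻¹ := by
        calc y * s = s⁻¹ * (s * y * s⁻¹) * (s * s) := by group
          _ = s * y⁻¹ := by rw [iv, ss, si, mul_one]
      rw [this, mul_smul, inv_smul_eq_iff.2 hp.symm]
    by_cases f : s • p = p
    · rcases (hs.fp p).1 f with a | a
      · exact Or.inr (a ▸ Sl)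
      rcases (hs'.fp p).1 (e1.trans f) with b | b
      · exact Or.inr (b ▸ Sl')
      exact Or.inl (h.pt_eq ll a b Zl Zl')
    · obtain ⟨m, a, b⟩ := h.join p (s • p)
      have c1 : S ∈ m := ((hs.fl m).1 (h.fix_swap ss f a b)).resolve_left fun e =>
        f ((hs.fp p).2 (Or.inr (e ▸ a)))
      have c2 : g • S ∈ m := ((hs'.fl m).1
        (h.fix_swap (hom_sq hs') (e1 ▸ f) a (e1 ▸ b))).resolve_left fun e =>
        f (e1 ▸ (hs'.fp p).2 (Or.inr (e ▸ a)))
      exact Or.inr (h.ln_eq SS c1 c2 Sl Sl' ▸ a)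
  have lzz : lz ≠ lz' := fun e => ne (hf.ax _ _ _ _ _ hz (e ▸ hz'))
  have yl : y • lz = lz := hf.fixl _ _ _ _ hz zy.symm
  have yl' : y • lz' = lz' := hf.fixl _ _ _ _ hz' zy'.symm
  have p1 := par_axis h hf hz
  have p2 := par_axis h hf hz'
  obtain ⟨E, El, El'⟩ := h.meet lz lz'
  rcases hf.sec _ _ _ hz' with c | c
  · have z0 : {p : P | p ∈ O ∧ p ∈ lz} = ∅ := (Set.ncard_eq_zero (Set.toFinite _)).1 (by omega)
    have m1 := mod_fix (X := P) O y hr yr (h.inv y)
    have z1 : {p : P | p ∈ O ∧ y • p = p} = ∅ := Set.eq_empty_of_forall_notMem fun p hp => by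
      rcases fix p hp.2 with a | a
      · exact hf.nO _ _ _ hz (a ▸ hp.1)
      · exact (Set.eq_empty_iff_forall_notMem.1 z0) p ⟨hp.1, a⟩
    rw [z1, h.card, Set.ncard_empty] at m1
    have m2 := mod_fix (X := P) {p | p ∈ lz'} y hr yr fun p hp => h.mem_of_fix yl' hp
    rw [h.pts] at m2
    have d := (Nat.modEq_zero_iff_dvd).1 (m2.symm.trans m1)
    have le : {p : P | p ∈ {p | p ∈ lz'} ∧ y • p = p} ⊆ {Z, E} := fun p hp => by
      rcases fix p hp.2 with a | a
      · exact Or.inl a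
      · exact Or.inr (h.pt_eq lzz a hp.1 El El')
    have l2 := Set.ncard_le_ncard le
    have l3 := Set.ncard_insert_le Z ({E} : Set P)
    rw [Set.ncard_singleton] at l3
    have pos : 0 < {p : P | p ∈ {p | p ∈ lz'} ∧ y • p = p}.ncard :=
      (Set.ncard_pos (Set.toFinite _)).2 ⟨E, El', h.fix_point lzz El El' yl yl'⟩
    have := Nat.le_of_dvd pos d
    omega
  · have m1 := mod_fix (X := P) {p | p ∈ O ∧ p ∈ lz'} y hr yr
      fun p hp => ⟨h.inv _ _ hp.1, h.mem_of_fix yl' hp.2⟩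
    have le : {p : P | p ∈ {p | p ∈ O ∧ p ∈ lz'} ∧ y • p = p} ⊆ {E} := fun p hp => by
      rcases fix p hp.2 with a | a
      · exact (hf.nO _ _ _ hz (a ▸ hp.1.1)).elim
      · exact h.pt_eq lzz a hp.1.2 El El'
    have l2 := Set.ncard_le_ncard le
    rw [Set.ncard_singleton] at l2
    rw [c] at m1
    have := Nat.ModEq.eq_of_lt_of_lt m1 (by omega) (by omega)
    omega

end

theorem jobRoot : JobRoot.{u, v, w} := by
  intro G P L _ _ _ _ _ _ _ n O h hf x b ⟨C, l, ha⟩ ⟨D, k, hb⟩ c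
  exact root h hf ha hb c

theorem jobOdd : JobOdd.{u, v, w} := by
  intro G P L _ _ _ _ _ _ _ n O h hf y s z z' y1 yo ⟨S, ls, hs⟩ ⟨Z, lz, hz⟩ ⟨Z', lz', hz'⟩ iv zs
    zy zy'
  have o1 : orderOf y ≠ 1 := fun e => y1 (orderOf_eq_one_iff.1 e)
  obtain ⟨r, hr, t, ht⟩ := Nat.exists_prime_and_dvd o1
  have pos := orderOf_pos y
  have t0 : 0 < t := Nat.pos_of_ne_zero fun e => by rw [e, mul_zero] at ht; omega
  have ro : Odd r := Odd.of_dvd_nat yo ⟨t, ht⟩
  refine odd_prime h hf (y := y ^ t) hr ro ?_ ?_ hs hz hz' ?_ zs (zy.pow_right t)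
    (zy'.pow_right t)
  · refine pow_ne_one_of_lt_orderOf t0.ne' ?_
    have := hr.two_le
    rw [ht]; nlinarith
  · rw [← pow_mul, mul_comm, ← ht, pow_orderOf_eq_one]
  · rw [← conj_pow, iv, inv_pow]

end H99.OV
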