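import Cfsg.Agent.H69.Higman5
import Cfsg.Agent.H99.HG2

/-! Two-groups with an automorphism of prime power order transitive on a Mersenne number of involutions. -/

set_option autoImplicit false

namespace H99.PY

open Subgroup Function H99.HG H69

universe u

variable {P : Type u} [Group P] [Finite P]

theorem cw {R Z : Subgroup P} (hZR : Z ≤ R) (h1 : ∀ x ∈ R, x * x = 1 → x ∈ Z)
    (h2 : ∀ z ∈ Z, z * z = 1) (hc : ∀ z ∈ Z, ∀ y, z * y = y * z) (hs : ∀ x ∈ R, x * x ∈ Z) :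
    Nat.card R ≤ Nat.card Z ^ 3 := by
  have hn : ∀ u : P, ∀ y ∈ Z, u * y * u⁻¹ ∈ Z := fun u y hy => by
    rw [← hc y hy, mul_inv_cancel_right]; exact hy
  obtain ⟨V, _, _, π, -, hadd, hker, hsurj, -⟩ := exists_section_module (1 : MulAut P) (C := R) (Y := Z)
    hs (fun u _ => hn u) (fun _ h => h) (fun _ h => h)
  obtain ⟨W, _, _, f, -, fadd, fker, fsurj, -⟩ := exists_section_module (1 : MulAut P) (C := Z) (Y := ⊥)
    (fun u hu => by rw [h2 u hu]; exact one_mem _) (fun u _ y hy => by rw [mem_bot.1 hy]; simp)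
    (fun _ h => h) (fun _ h => h)
  have hcard := card_eq_of_sec hZR hadd hker hsurj
  have hcW := card_eq_of_sec bot_le fadd fker fsurj
  rw [card_bot, one_mul] at hcW
  have : Finite W := Finite.of_surjective f (fun x => by obtain ⟨u, -, e⟩ := fsurj x; exact ⟨u, e⟩)
  have hW : ∀ x : W, x + x = 0 := fun x => by
    obtain ⟨u, hu, rfl⟩ := fsurj x
    rw [← fadd _ hu _ hu, fker _ (Z.mul_mem hu hu), h2 u hu]; exact one_mem _
  choose σ hσ0 hσ using hsurj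
  have : Finite V := Finite.of_surjective π (fun x => ⟨_, hσ x⟩)
  have hV : ∀ x : V, x + x = 0 := fun x => by
    rw [← hσ x, ← hadd _ (hσ0 x) _ (hσ0 x), hker _ (R.mul_mem (hσ0 x) (hσ0 x))]; exact hs _ (hσ0 x)
  have hS : ∀ x ∈ R, f (σ (π x) * σ (π x)) = f (x * x) := by
    intro x hx
    have hy := R.mul_mem (R.inv_mem hx) (hσ0 (π x))
    have e1 := hadd x hx (x⁻¹ * σ (π x)) hy
    rw [mul_inv_cancel_left, hσ] at e1
    have hz := (hker _ hy).mp (left_eq_add.mp e1)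
    generalize σ (π x) = y at hz
    obtain ⟨z, rfl⟩ : ∃ z, y = x * z := ⟨x⁻¹ * y, by group⟩
    rw [inv_mul_cancel_left] at hz
    congr 1
    calc x * z * (x * z) = x * (z * x) * z := by group
      _ = x * x * (z * z) := by rw [hc z hz]; group
      _ = x * x := by rw [h2 z hz, mul_one]
  have hcm : ∀ x ∈ R, ∀ y ∈ R, cm x y ∈ Z := fun x hx y hy => by
    rw [cm_eq_sq]
    exact Z.mul_mem (Z.mul_mem (hs _ (R.inv_mem hx)) (hs _ (R.mul_mem hx (R.inv_mem hy)))) (hs _ hy)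
  have hc1 : ∀ z ∈ Z, ∀ y, cm z y = 1 := fun z hz y => cm_eq_one_iff.2 (hc z hz y)
  have hq : ∀ x ∈ R, ∀ y ∈ R, f (x * y * (x * y)) = f (x * x) + f (y * y) + f (cm y x) :=
    fun x hx y hy => by
      rw [mul_sq_eq, hc1 _ (hcm y hy x hx), mul_one, fadd _ (Z.mul_mem (hs x hx) (hs y hy)) _
        (hcm y hy x hx), fadd _ (hs x hx) _ (hs y hy)]
  obtain ⟨B, hB⟩ := exists_biadd_of_quadratic hV hW (fun v => f (σ v * σ v)) (by
      intro x y z
      rw [← hσ x, ← hσ y, ← hσ z]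
      have hx := hσ0 x
      have hy := hσ0 y
      have hz := hσ0 z
      generalize σ x = x at hx
      generalize σ y = y at hy
      generalize σ z = z at hz
      rw [← hadd _ hx _ hy, ← hadd _ hx _ hz, ← hadd _ hy _ hz, ← hadd _ (R.mul_mem hx hy) _ hz,
        hS _ (R.mul_mem (R.mul_mem hx hy) hz), hS _ (R.mul_mem hx hy), hS _ (R.mul_mem hx hz),
        hS _ (R.mul_mem hy hz), hS _ hx, hS _ hy, hS _ hz, hq _ (R.mul_mem hx hy) _ hz, hq _ hx _ hy,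
        hq _ hx _ hz, hq _ hy _ hz, cm_mul_right, hc1 _ (hcm z hz x hx), mul_one,
        fadd _ (hcm z hz y hy) _ (hcm z hz x hx)]
      rw [← hW (f (x * x) + f (x * x) + f (y * y) + f (y * y) + f (z * z) + f (z * z) + f (cm y x) +
        f (cm z x) + f (cm z y))]
      abel)
  have hle : Nat.card V ≤ Nat.card W ^ 2 := by
    by_contra hlt
    obtain ⟨v, hv, e⟩ := exists_ne_zero_of_quadratic hV hW B (not_le.mp hlt)
    rw [← hB, fker _ (hs _ (hσ0 v)), mem_bot] at e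
    exact hv (by rw [← hσ v]; exact (hker _ (hσ0 v)).mpr (h1 _ (hσ0 v) e))
  rw [hcard, pow_succ', hcW]
  exact Nat.mul_le_mul_left _ hle

theorem arith {p n d : ℕ} (hp : p + 1 = 2 ^ n) (h3 : 3 ≤ p) (hd0 : 0 < d) (hd : d ≤ 2 * n)
    (h : p ^ 2 ∣ 2 ^ d - 1) : False := by
  obtain ⟨m, hm⟩ := h
  have h1 : 1 < 2 ^ d := Nat.one_lt_two_pow hd0.ne'
  have hm1 : 1 ≤ m := by
    rcases m with _ | m
    · omega
    · omega
  have e : 2 ^ d = p ^ 2 * m + 1 := by omega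
  have e2 : 2 ^ (2 * n) = (p + 1) ^ 2 := by rw [hp, ← pow_mul, mul_comm]
  rcases hd.eq_or_lt with rfl | hlt
  · rw [e2] at e
    rcases hm1.eq_or_lt with rfl | h2
    · nlinarith
    · nlinarith
  · have : 2 ^ (d + 1) ≤ 2 ^ (2 * n) := Nat.pow_le_pow_right two_pos hlt
    rw [pow_succ, e, e2] at this
    nlinarith

omit [Finite P] in
theorem per_dvd {p a : ℕ} (hp : p.Prime) {ξ : MulAut P} (hξ : ξ ^ p ^ (a + 1) = 1) {x : P}
    (hx : (ξ ^ p ^ a) x ≠ x) {n : ℕ} (hn : (ξ ^ n) x = x) : p ^ (a + 1) ∣ n := by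
  have h1 : MulAction.period ξ x ∣ p ^ (a + 1) :=
    MulAction.pow_smul_eq_iff_period_dvd.1 (by rw [hξ, one_smul])
  obtain ⟨b, hb, e⟩ := (Nat.dvd_prime_pow hp).1 h1
  rcases hb.eq_or_lt with rfl | hlt
  · rw [← e]; exact MulAction.pow_smul_eq_iff_period_dvd.1 hn
  · refine absurd (?_ : ξ ^ p ^ a • x = x) hx
    rw [MulAction.pow_smul_eq_iff_period_dvd, e]; exact pow_dvd_pow p (by omega)

theorem step_p {p a n : ℕ} (hp : p.Prime) (hpn : p + 1 = 2 ^ n) (hp2 : p ≠ 2) (h2 : IsPGroup 2 P)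
    {Z : Subgroup P} (hZ : ∀ x, x * x = 1 ↔ x ∈ Z) (hc : ∀ z ∈ Z, ∀ y, z * y = y * z)
    (hcard : Nat.card Z = p + 1) {ξ : MulAut P} (hξ : ξ ^ p ^ (a + 2) = 1)
    (hfix : ∀ x ∈ Z, (ξ ^ p) x = x)
    (htr : ∀ x ∈ Z, ∀ y ∈ Z, x ≠ 1 → y ≠ 1 → ∃ k : ℕ, (ξ ^ k) x = y) : ξ ^ p ^ (a + 1) = 1 := by
  classical
  have := Fact.mk Nat.prime_two
  obtain ⟨h, hh⟩ : ∃ h, h = ξ ^ p ^ (a + 1) := ⟨_, rfl⟩
  have hhp : h ^ p = 1 := by rw [hh, ← pow_mul, ← pow_succ, hξ]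
  have hcm : ∀ (k : ℕ) x, h ((ξ ^ k) x) = (ξ ^ k) (h x) := fun k x => by
    rw [← MulAut.mul_apply, ← MulAut.mul_apply, hh, ← pow_add, ← pow_add, add_comm]
  have hc1 : ∀ x, h (ξ x) = ξ (h x) := fun x => by simpa using hcm 1 x
  have hZf : ∀ x ∈ Z, h x = x := fun x hx => by
    rw [hh, pow_succ', pow_mul]
    generalize p ^ a = m
    induction m with
    | zero => rfl
    | succ m ih => rw [pow_succ, MulAut.mul_apply, hfix x hx, ih]
  have hback : ∀ {Y : Subgroup P}, (∀ x ∈ Y, ξ x ∈ Y) → ∀ x ∈ Y, ∃ y ∈ Y, ξ y = x := fun {Y} hY x hx =>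
    ⟨(ξ ^ (p ^ (a + 2) - 1)) x, pow_apply_mem hY _ hx, by
      rw [← MulAut.mul_apply, ← pow_succ', Nat.sub_add_cancel (Nat.pos_of_ne_zero (by
        have := hp.pos; positivity)), hξ]; rfl⟩
  rw [← hh]
  by_contra hne
  obtain ⟨R, ⟨hR, x0, hx0, hx1⟩, hmin⟩ := exists_minimal_of_wellFoundedLT
    (fun R : Subgroup P => (∀ x ∈ R, ξ x ∈ R) ∧ ∃ x ∈ R, h x ≠ x)
    ⟨⊤, fun _ _ => trivial, by
      by_contra! H
      exact hne (MulEquiv.ext fun x => H x trivial)⟩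
  have hR' : ∀ x ∈ R, h x ∈ R := fun x hx => hh ▸ pow_apply_mem hR _ hx
  have hfx : ∀ Y : Subgroup P, Y ≤ R → (∀ x ∈ Y, ξ x ∈ Y) → ¬ R ≤ Y → ∀ y ∈ Y, h y = y :=
    fun Y h1 h2 h3 y hy => by
      by_contra H
      exact h3 (hmin ⟨h2, y, hy, H⟩ h1)
  have key : ∀ Y : Subgroup P, Y ≤ R → (∀ x ∈ Y, ξ x ∈ Y) → (∀ x ∈ R, x⁻¹ * h x ∈ Y) → R ≤ Y :=
    fun Y h1 h3 h4 => by
      by_contra H
      have hc0 := hfx Y h1 h3 H _ (h4 x0 hx0)
      obtain ⟨c, hc⟩ : ∃ c, h x0 = x0 * c := ⟨x0⁻¹ * h x0, by group⟩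
      rw [hc, inv_mul_cancel_left] at hc0
      have h5 : ∀ k : ℕ, (h ^ k) x0 = x0 * c ^ k := fun k => by
        induction k with
        | zero => simp
        | succ k ih => rw [pow_succ', MulAut.mul_apply, ih, map_mul, map_pow, hc, hc0, pow_succ', mul_assoc]
      have h6 := h5 p
      rw [hhp, MulAut.one_apply, left_eq_mul] at h6
      obtain ⟨k, hk⟩ := h2 c
      have h7 : c = 1 := by
        have := (Nat.Coprime.pow_right k ((Nat.coprime_primes hp Nat.prime_two).2 hp2))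
        rw [← pow_one c, ← this, pow_gcd_eq_one]; exact ⟨h6, hk⟩
      exact hx1 (by rw [hc, h7, mul_one])
  have hsq : ∀ y ∈ R, h (y * y) = y * y := fun y hy => by
    obtain ⟨l, hl, -, x, hx, hlx⟩ := sep (X := R) (K := ⊥) (h2.to_subgroup R) bot_le
      (fun H => hx1 (by rw [mem_bot.1 (H hx0), map_one]))
    have hS : Subgroup.closure ((fun x => x * x) '' R) ≤ hl.ker := by
      rw [closure_le]
      rintro _ ⟨z, hz, rfl⟩
      exact ⟨R.mul_mem hz hz, by rw [hl z hz z hz, z2_add]⟩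
    refine hfx (Subgroup.closure ((fun x => x * x) '' R)) (fun z hz => (hS hz).1) (fun z hz => ?_)
      (fun H => by simpa [hlx] using (hS (H hx)).2) _ (subset_closure ⟨y, hy, rfl⟩)
    have : (Subgroup.closure ((fun x => x * x) '' R)).map ξ.toMonoidHom ≤ Subgroup.closure ((fun x => x * x) '' R) := by
      rw [MonoidHom.map_closure]
      refine closure_mono ?_
      rintro _ ⟨_, ⟨w, hw, rfl⟩, rfl⟩
      exact ⟨ξ w, hR w hw, by simp⟩
    exact this ⟨z, hz, rfl⟩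
  have hcen : ∀ x ∈ R, ∀ y ∈ R, Commute x (y * y) := fun x hx =>
    (key (R ⊓ centralizer ((fun x => x * x) '' R)) inf_le_left (fun z hz => ⟨hR z hz.1, by
      rintro _ ⟨w, hw, rfl⟩
      obtain ⟨v, hv, rfl⟩ := hback hR w hw
      have := congrArg ξ (hz.2 _ ⟨v, hv, rfl⟩)
      simpa using this⟩) (fun z hz => ⟨R.mul_mem (R.inv_mem hz) (hR' z hz), by
      rintro _ ⟨w, hw, rfl⟩
      have e := hsq _ (R.mul_mem (R.mul_mem hz hw) (R.inv_mem hz))
      have e1 : z * w * z⁻¹ * (z * w * z⁻¹) = z * (w * w) * z⁻¹ := by group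
      rw [e1, map_mul, map_mul, hsq w hw, map_inv] at e
      calc _ = z⁻¹ * (z * (w * w) * z⁻¹) * h z := by group
        _ = _ := by rw [← e]; group⟩) hx).2 |> fun H y hy => (H _ ⟨y, hy, rfl⟩).symm
  have q4 : ∀ x ∈ R, ∀ y ∈ R, (x * y) ^ 4 = x ^ 4 * y ^ 4 := fun x hx y hy => by
    have c1 : ∀ z ∈ R, Commute z (cm y x) := fun z hz => by
      rw [cm_eq_sq]
      exact ((hcen z hz _ (R.inv_mem hy)).mul_right (hcen z hz _ (R.mul_mem hy (R.inv_mem hx)))).mul_right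
        (hcen z hz _ hx)
    have c2 : cm y x * cm y x = 1 := by
      have := cm_mul_right y x x
      rw [cm_eq_one_iff.2 (hcen y hy x hx).eq, cm_eq_one_iff.2 (c1 x hx).symm.eq, mul_one] at this
      exact this.symm
    have c3 : x * y * (x * y) = x * x * (y * y) * cm y x := by
      rw [mul_sq_eq, cm_eq_one_iff.2 (c1 y hy).symm.eq, mul_one]
    have c4 : ∀ z : P, z ^ 4 = (z * z) ^ 2 := fun z => by rw [← pow_two, ← pow_mul]
    rw [c4, c4, c4, c3, (c1 _ (R.mul_mem (R.mul_mem hx hx) (R.mul_mem hy hy))).mul_pow,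
      (hcen _ (R.mul_mem hx hx) y hy).mul_pow, pow_two (cm y x), c2, mul_one]
  let Y : Subgroup P :=
    { carrier := {x | x ∈ R ∧ x ^ 4 = 1}
      one_mem' := ⟨R.one_mem, one_pow 4⟩
      mul_mem' := fun {x y} hx hy => ⟨R.mul_mem hx.1 hy.1, by rw [q4 x hx.1 y hy.1, hx.2, hy.2, mul_one]⟩
      inv_mem' := fun {x} hx => ⟨R.inv_mem hx.1, by rw [inv_pow, hx.2, inv_one]⟩ }
  have h4 : ∀ x ∈ R, x * x ∈ Z := fun x hx => by
    have := (key Y (fun _ h => h.1) (fun z hz => ⟨hR z hz.1, by rw [← map_pow, hz.2, map_one]⟩)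
      (fun z hz => ⟨R.mul_mem (R.inv_mem hz) (hR' z hz), by
        rw [q4 _ (R.inv_mem hz) _ (hR' z hz), ← map_pow, show z ^ 4 = z * z * (z * z) by simp only [pow_succ, pow_zero, one_mul, mul_assoc],
          hsq _ (R.mul_mem hz hz)]
        group⟩) hx).2
    rw [← hZ, ← this]; simp only [pow_succ, pow_zero, one_mul, mul_assoc]
  have hZR : Z ≤ R := fun z hz => by
    by_cases e : z = 1
    · rw [e]; exact R.one_mem
    obtain ⟨k, hk⟩ := htr _ (h4 x0 hx0) z hz (fun H => hx1 (hZf _ ((hZ _).1 H))) e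
    exact hk ▸ pow_apply_mem hR k (R.mul_mem hx0 hx0)
  have hle := cw hZR (fun x _ e => (hZ x).1 e) (fun z hz => (hZ z).2 hz) hc h4
  let C : Subgroup P := R ⊓ h.toMonoidHom.eqLocus (MonoidHom.id P)
  have hC : ∀ x, x ∈ C ↔ x ∈ R ∧ h x = x := fun x => Iff.rfl
  let S : SubMulAction (zpowers ξ) P :=
    { carrier := (R : Set P) \ C
      smul_mem' := by
        rintro ⟨k, hk⟩ x ⟨hx, hx'⟩
        obtain ⟨m, rfl⟩ := (mem_powers_iff_mem_zpowers.2 hk)
        refine ⟨pow_apply_mem hR m hx, fun H => hx' ⟨hx, ?_⟩⟩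
        have : h ((ξ ^ m) x) = (ξ ^ m) x := H.2
        rw [hcm] at this
        exact (ξ ^ m).injective this }
  have hfree : ∀ x : S, MulAction.stabilizer (zpowers ξ) x = ⊥ := fun x => by
    rw [eq_bot_iff]
    rintro ⟨k, hk⟩ H
    obtain ⟨m, rfl⟩ := (mem_powers_iff_mem_zpowers.2 hk)
    have H1 : (ξ ^ m) x = x := congrArg Subtype.val (MulAction.mem_stabilizer_iff.1 H)
    obtain ⟨j, rfl⟩ := per_dvd hp hξ (x := x) (fun e => x.2.2 ⟨x.2.1, hh ▸ e⟩) H1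
    exact mem_bot.2 (Subtype.ext (by simp only [pow_mul, hξ, one_pow]; rfl))
  have hd : p ^ 2 ∣ Nat.card S := by
    have := Fact.mk hp
    rw [Nat.card_congr (MulAction.selfEquivOrbitsQuotientProd hfree), Nat.card_prod, Nat.card_zpowers,
      orderOf_eq_prime_pow (fun e => hne (hh.trans e)) hξ]
    exact (pow_dvd_pow p (by omega)).mul_left _
  have hS : Nat.card S = Nat.card R - Nat.card C :=
    Set.ncard_diff (s := (C : Set P)) (t := (R : Set P)) (fun _ h => h.1)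
  obtain ⟨r, hr⟩ := IsPGroup.iff_card.1 (h2.to_subgroup R)
  obtain ⟨c, hc'⟩ := IsPGroup.iff_card.1 (h2.to_subgroup C)
  have l1 : Nat.card Z ≤ Nat.card C := card_le_of_le fun z hz => ⟨hZR hz, hZf z hz⟩
  have l2 : Nat.card C < Nat.card R := by
    by_contra! H
    have : C = R := eq_of_le_of_card_ge inf_le_left H
    exact hx1 ((hC _).1 (this ▸ hx0)).2
  rw [hcard, hpn, hr, ← pow_mul] at hle
  rw [hcard, hpn, hc'] at l1
  rw [hc', hr] at l2
  have l3 := (Nat.pow_le_pow_iff_right one_lt_two).1 hle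
  have l4 := (Nat.pow_le_pow_iff_right one_lt_two).1 l1
  have l5 := (Nat.pow_lt_pow_iff_right one_lt_two).1 l2
  obtain ⟨d, rfl⟩ := Nat.exists_eq_add_of_le l5.le
  rw [hS, hr, hc', pow_add, ← Nat.mul_sub_one] at hd
  exact arith (d := d) hpn (by have := hp.two_le; omega) (by omega) (by omega)
    ((Nat.Coprime.pow 2 c ((Nat.coprime_primes hp Nat.prime_two).2 hp2)).dvd_of_dvd_mul_left hd)

theorem sz2_of {p a n : ℕ} (hp : p.Prime) (hpn : p + 1 = 2 ^ n) (hp2 : p ≠ 2) (h2 : IsPGroup 2 P)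
    {Z : Subgroup P} (hZ : ∀ x, x * x = 1 ↔ x ∈ Z) (hc : ∀ z ∈ Z, ∀ y, z * y = y * z)
    (hcard : Nat.card Z = p + 1) {ξ : MulAut P} (hξ : ξ ^ p ^ a = 1)
    (hfix : ∀ x ∈ Z, (ξ ^ p) x = x)
    (htr : ∀ x ∈ Z, ∀ y ∈ Z, x ≠ 1 → y ≠ 1 → ∃ k : ℕ, (ξ ^ k) x = y) : Sz2 ξ ∧ ξ ^ p = 1 := by
  have h1 : ξ ^ p = 1 := by
    have : ∀ a, ξ ^ p ^ (a + 1) = 1 → ξ ^ p = 1 := fun a => by
      induction a with
      | zero => simp
      | succ a ih => exact fun H => ih (step_p hp hpn hp2 h2 hZ hc hcard H hfix htr)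
    exact this a (by rw [pow_succ, pow_mul, hξ, one_pow])
  have h3 : 2 < Nat.card Z := by have := hp.two_le; omega
  refine ⟨⟨h2, fun x y x1 x2 y1 y2 => htr x ((hZ x).1 x2) y ((hZ y).1 y2) x1 y1, fun k x x1 x2 e => ?_,
    ?_⟩, h1⟩
  · obtain ⟨y, hy, y1, y2⟩ := exists_third h3 x
    obtain ⟨j, hj⟩ := htr x ((hZ x).1 x2) y hy x1 y1
    obtain ⟨m, rfl⟩ := per_dvd (a := 0) hp (by simpa using h1) (x := x) (fun H => y2 (by
      rw [← hj]
      have H' : ξ ^ p ^ 0 • x = x := H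
      change ξ ^ j • x = x
      rw [MulAction.pow_smul_eq_iff_period_dvd] at H' ⊢
      exact H'.trans (by simp))) e
    simp [pow_mul, h1]
  · obtain ⟨x, hx, x1, -⟩ := exists_third h3 1
    obtain ⟨y, hy, y1, y2⟩ := exists_third h3 x
    exact ⟨y, x, y2, y1, (hZ y).2 hy, x1, (hZ x).2 hx⟩

end H99.PY
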