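/- T3 tower (row S5228): the slot Mod. -/
import Cfsg.Agent.H11.T3Spec
import Cfsg.Agent.S1700

set_option autoImplicit false
set_option linter.unusedSimpArgs false

open Subgroup Cfsg H11.T3 H11.T3.Co
open H90.RF (cm)

namespace H99.T3M

theorem desc (T : Subgroup Co) [hT : T.Normal] (h : T ⊓ sZ1 = ⊥) : ∀ k ≤ 10, T ⊓ z0 k = ⊥ := by
  have cmT : ∀ s, ∀ u ∈ T, cm s u ∈ T := fun s u hu => by
    have := mul_mem (inv_mem hu) (hT.conj_mem u hu s)
    simpa [cm, mul_assoc] using this
  intro k hk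
  induction k with
  | zero => exact inf_bot_eq _
  | succ k ih =>
    have ih := ih (by omega)
    rw [eq_bot_iff] at ih h ⊢
    rintro u ⟨hu, hz⟩
    have c : ∀ s, cm s u = 1 := fun s => ih ⟨cmT s u hu, z0_cm k (by omega) u hz s⟩
    refine h ⟨hu, ?_⟩
    have a1 := c (xb 1)
    have a2 := c (xa 1)
    have a3 := c (xd 1)
    have a4 := c (xc 1)
    have pa : u.a = 0 := by simpa [cm_d, xb] using congrArg Co.d a1
    have pb : u.b = 0 := by simpa [cm_d, xa] using congrArg Co.d a2
    have pd : u.d = 0 := by simpa [cm_e, xb, pa, pb] using congrArg Co.e a1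
    have pc : u.c = 0 := by simpa [cm_f, xa, pa, pb] using congrArg Co.f a2
    have pf : u.f = 0 := by simpa [cm_g, xb, pa, pb, pd, pc] using congrArg Co.g a1
    have pe : u.e = 0 := by simpa [cm_g, xa, pa, pb, pd, pc] using congrArg Co.g a2
    have pg : u.g = 0 := by simpa [cm_h, xb, pa, pb, pd, pc, pe, pf] using congrArg Co.h a1
    have ph : u.h = 0 := by simpa [cm_i, xa, pa, pb, pd, pc, pe, pf, pg] using congrArg Co.i a2
    have pi : u.i = 0 := by simpa [cm_j, xb, pa, pb, pd, pc, pe, pf, pg, ph] using congrArg Co.j a1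
    exact ⟨pb, pa, pd, pc, pe, pf, pg, ph, pi⟩

theorem inj_of {G : Type*} [Group G] (φ : Co →* G) (h : φ (xj 1) ≠ 1) : Function.Injective φ := by
  rw [← MonoidHom.ker_eq_bot_iff]
  have := desc φ.ker ?_ 10 le_rfl
  · exact (inf_top_eq _).symm.trans this
  rw [eq_bot_iff]
  rintro u ⟨hu, p0, p1, p2, p3, p4, p5, p6, p7, p8⟩
  rw [mem_bot]
  have hu : φ u = 1 := hu
  rcases z3 u.j with e | e | e
  · ext <;> simp [*]
  · exact absurd (by rw [← hu]; congr 1; ext <;> simp [xj, *]) h
  · refine absurd ?_ h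
    have : xj 1 = u⁻¹ := by ext <;> simp [xj, *]
    rw [this, map_inv, hu, inv_one]

theorem jobMod : JobMod := by
  intro pc ⟨b, a, d, c, e, f, g, h, i, j, r, hj⟩ _ S
  obtain ⟨φ, hφ⟩ := pc _ b a d c e f g h i j r
  have inj := inj_of φ (hφ ▸ hj)
  have cd : Nat.card Spor.Th = 90745943887872000 := Cfsg.Agent.S1700.result.2
  haveI : Finite Spor.Th := Nat.finite_of_card_ne_zero (by rw [cd]; norm_num)
  have e1 : Co ≃* φ.range := MonoidHom.ofInjective inj
  have c1 : Nat.card φ.range = 3 ^ (Nat.card Spor.Th).factorization 3 := by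
    rw [← Nat.card_congr e1.toEquiv, card_Co, cd]
    congr 1
    symm
    rw [show 90745943887872000 = 3 ^ 10 * 1536790528000 by norm_num,
      Nat.factorization_mul (by norm_num) (by norm_num), Finsupp.add_apply,
      Nat.Prime.factorization_pow (by norm_num : Nat.Prime 3),
      Nat.factorization_eq_zero_of_not_dvd (by norm_num : ¬ 3 ∣ 1536790528000)]
    simp
  exact ⟨(Sylow.equiv S (Sylow.ofCard φ.range c1)).trans e1.symm⟩

end H99.T3M
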