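import Cfsg.Agent.H86.TP.Spec

set_option autoImplicit false

namespace H99.TPZR

open Cfsg Subgroup H14 H98 H1.Gold H14.GC H14.FE H86.TP
open scoped commutatorElement

universe u

variable {G : Type u} [Group G] {Q Q' T R E P : Subgroup G}

theorem oz_le (h : LP Q Q' T R E P) (hs : Sq E P) : OZ R ≤ E := by
  rintro z ⟨z1, z2, z3⟩
  have zi : z⁻¹ = z := inv_eq_of_mul_eq_one_right z2
  have hzP : z ∈ P := by
    refine (h.mem z).2 ⟨z1, fun t ht => ?_⟩
    by_cases h1 : t = 1
    · rw [h1, commutatorElement_one_left]; exact one_mem _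
    have hz' : t * z * t⁻¹ ∈ R := conj_mem_of_mem_normalizer (h.norR ht) z1
    have ti : t⁻¹ = t := inv_eq_of_mul_eq_one_right (h.el t ht)
    have tt : t * t = 1 := h.el t ht
    refine h.fix t ht h1 ⟨?_, mem_centralizer_singleton_iff.2 ?_⟩
    · rw [commutatorElement_def]; exact R.mul_mem hz' (R.inv_mem z1)
    · have c := z3 _ hz'
      rw [commutatorElement_def, zi]
      rw [ti] at c ⊢
      calc t * z * t * z * t = z * (t * z * t) * t := by rw [c]
        _ = z * t * z * (t * t) := by group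
        _ = (t * t) * z * t * z := by rw [tt]; group
        _ = t * (t * z * t * z) := by group
  by_contra hz
  exact hs z hzP hz z2

theorem x_cen (h : LP Q Q' T R E P) {x : G} (hx : XX T R E P x) (hs : Sur E P) {e : G}
    (he : e ∈ E) : x * e = e * x := by
  obtain ⟨y, hy, rfl⟩ := hs e he
  obtain ⟨t, ht, hr⟩ := hx.sur y hy
  have hz : ⁅x, t⁆ ∈ P := hx.cm t ht
  set z := ⁅x, t⁆ with hzd
  have cE : ∀ p ∈ P, ∀ r ∈ E, r * p = p * r := fun p hp r hr =>
    mem_centralizer_iff.1 (h.cenE hp) r hr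
  have e1 : z * z = y * y := by
    calc z * z = y * ((y⁻¹ * z) * y) * (y⁻¹ * z) := by group
      _ = y * y * ((y⁻¹ * z) * (y⁻¹ * z)) := by rw [cE y hy _ hr]; group
      _ = y * y := by rw [h.elE _ hr, mul_one]
  have hx2 : x * x ∈ P := by
    rcases hx.idx (x * x) (mul_mem hx.memR hx.memR) with h1 | h1
    · exact h1
    · exact absurd (by simpa using h1) hx.notP
  have hr2 : x * z * x⁻¹ * z ∈ E := by
    have := inv_mem (((h.mem _).1 hx2).2 t ht)
    have e : ⁅t, x * x⁆⁻¹ = x * z * x⁻¹ * z := by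
      rw [hzd]; simp [commutatorElement_def, mul_assoc]
    rwa [e] at this
  have hzz : z * z ∈ E := h.sqE z hz
  have e2 : x * (z * z) * x⁻¹ = z * z := by
    set r := x * z * x⁻¹ * z with hrd
    have c := cE _ (inv_mem hz) r hr2
    calc x * (z * z) * x⁻¹ = r * (z⁻¹ * r) * z⁻¹ := by rw [hrd]; group
      _ = (r * r) * (z * z)⁻¹ := by rw [← c]; group
      _ = z * z := by rw [h.elE r hr2, one_mul, inv_eq_of_mul_eq_one_right (h.elE _ hzz)]
  rw [← e1]
  calc x * (z * z) = x * (z * z) * x⁻¹ * x := by group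
    _ = z * z * x := by rw [e2]

theorem jZR : JobZR.{u} := by
  intro x2 a3 su G _ _ Q Q' T R E P h
  refine le_antisymm (fun e he => ⟨?_, h.elE e he, fun ρ hρ => ?_⟩) (oz_le h (a3 G Q Q' T R E P h))
  · rw [h.eq] at he; exact he.1
  have cE : ∀ p ∈ P, p * e = e * p := fun p hp => (mem_centralizer_iff.1 (h.cenE hp) e he).symm
  by_cases hP : P = R
  · exact cE ρ (hP ▸ hρ)
  obtain ⟨x, hx⟩ := (x2 G Q Q' T R E P h).1 hP
  rcases hx.idx ρ hρ with h1 | h1
  · exact cE ρ h1
  · have c := x_cen h hx (su G Q Q' T R E P h hx.fu) he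
    calc ρ * e = ρ * x⁻¹ * (x * e) := by group
      _ = (ρ * x⁻¹ * e) * x := by rw [c]; group
      _ = e * ρ := by rw [cE _ h1]; group

end H99.TPZR
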