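import Cfsg.Agent.H99.CL
import Cfsg.Agent.H13.MaxAb

/-! Thompson's replacement `A* = [A, x] C_A([A, x])` and a counting lemma. -/

open scoped Pointwise commutatorElement
open Cfsg Subgroup

namespace H99

variable {G : Type*} [Group G]

theorem relIndex_le_relIndex_of_map [Finite G] {E D' F D : Subgroup G} (f : G → G)
    (hf : ∀ a ∈ E, f a ∈ F) (h : ∀ a ∈ E, ∀ a' ∈ E, (f a)⁻¹ * f a' ∈ D → a⁻¹ * a' ∈ D') :
    D'.relIndex E ≤ D.relIndex F := by
  let g : E ⧸ D'.subgroupOf E → F ⧸ D.subgroupOf F :=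
    fun q => QuotientGroup.mk ⟨f q.out, hf _ q.out.2⟩
  refine Nat.card_le_card_of_injective g (fun q q' hq => ?_)
  have h1 := QuotientGroup.eq.1 hq
  rw [← QuotientGroup.out_eq' q, ← QuotientGroup.out_eq' q', QuotientGroup.eq]
  exact h _ q.out.2 _ q'.out.2 h1

theorem card_mul_le_of_map [Finite G] {E D' F D : Subgroup G} (f : G → G)
    (hf : ∀ a ∈ E, f a ∈ F) (h : ∀ a ∈ E, ∀ a' ∈ E, (f a)⁻¹ * f a' ∈ D → a⁻¹ * a' ∈ D') :
    Nat.card E * Nat.card ↥(F ⊓ D) ≤ Nat.card F * Nat.card ↥(E ⊓ D') := by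
  have := relIndex_le_relIndex_of_map f hf h
  rw [← card_inf_mul_relIndex E D', ← card_inf_mul_relIndex F D]
  calc _ = (Nat.card ↥(E ⊓ D') * Nat.card ↥(F ⊓ D)) * D'.relIndex E := by ring
    _ ≤ (Nat.card ↥(E ⊓ D') * Nat.card ↥(F ⊓ D)) * D.relIndex F := Nat.mul_le_mul_left _ this
    _ = _ := by ring

/-- Thompson's counting: `A` abelian, `M ⊇ {x⁻¹ x^a}` abelian and `A`-invariant generated by these
elements. Then `|A| |C_M(A)| ≤ |M| |C_A(M)|`. -/
theorem thompson_count [Finite G] {A : Subgroup G} (hA : IsMulCommutative A) (x : G)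
    (hM : IsMulCommutative (closure {g : G | ∃ a ∈ A, g = ⁅x, a⁆})) :
    Nat.card A * Nat.card ↥(closure {g : G | ∃ a ∈ A, g = ⁅x, a⁆} ⊓ centralizer (A : Set G)) ≤
      Nat.card (closure {g : G | ∃ a ∈ A, g = ⁅x, a⁆}) *
        Nat.card ↥(A ⊓ centralizer ((closure {g : G | ∃ a ∈ A, g = ⁅x, a⁆} : Subgroup G) : Set G)) := by
  set M := closure {g : G | ∃ a ∈ A, g = ⁅x, a⁆} with hMdef
  have hgen : ∀ a ∈ A, ⁅x, a⁆ ∈ M := fun a ha => subset_closure ⟨a, ha, rfl⟩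
  have hAc : ∀ a ∈ A, ∀ b ∈ A, a * b = b * a := fun a ha b hb => setLike_mul_comm ha hb
  have hMc : ∀ a ∈ M, ∀ b ∈ M, a * b = b * a := fun a ha b hb => setLike_mul_comm ha hb
  refine card_mul_le_of_map (fun a => ⁅x, a⁆) hgen (fun u hu v hv h => ?_)
  set w := u⁻¹ * v with hw
  have hwA : w ∈ A := A.mul_mem (A.inv_mem hu) hv
  have h1 : ⁅x, w⁆ ∈ centralizer (A : Set G) := by
    have e : ⁅x, w⁆ = u⁻¹ * (⁅x, u⁆⁻¹ * ⁅x, v⁆) * u := by
      simp only [commutatorElement_def, hw]; group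
    have e2 := h u hu
    have e3 : ⁅x, w⁆ = ⁅x, u⁆⁻¹ * ⁅x, v⁆ := by
      rw [e, mul_assoc, ← e2]; group
    rwa [e3]
  rw [hMdef, centralizer_closure]
  rintro _ ⟨a, ha, rfl⟩
  have e1 : ⁅x, a * w⁆ = ⁅x, a⁆ * (a * ⁅x, w⁆ * a⁻¹) := by
    simp only [commutatorElement_def]; group
  have e2 : ⁅x, w * a⁆ = ⁅x, w⁆ * (w * ⁅x, a⁆ * w⁻¹) := by
    simp only [commutatorElement_def]; group
  rw [h1 a ha, mul_inv_cancel_right, hAc a ha w hwA, e2, hMc _ (hgen a ha) _ (hgen w hwA)] at e1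
  have e3 := mul_left_cancel e1
  show ⁅x, a⁆ * w = w * ⁅x, a⁆
  rw [← e3, inv_mul_cancel_right, e3]

/-- Thompson replacement for abelian subgroups of largest order. -/
theorem thompson_repl_mem_maxAb [Finite G] {A : Subgroup G} (hA : A ∈ maxAbelianSubgroups G) (x : G)
    (hM : IsMulCommutative (closure {g : G | ∃ a ∈ A, g = ⁅x, a⁆})) :
    closure {g : G | ∃ a ∈ A, g = ⁅x, a⁆} ⊔
      (A ⊓ centralizer ((closure {g : G | ∃ a ∈ A, g = ⁅x, a⁆} : Subgroup G) : Set G)) ∈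
      maxAbelianSubgroups G := by
  have h := thompson_count hA.1 x hM
  set M := closure {g : G | ∃ a ∈ A, g = ⁅x, a⁆} with hMdef
  refine mem_maxAb_of_card_le hA (isMulCommutative_sup_of_le_centralizer hM
    (isMulCommutative_of_le hA.1 inf_le_left) (le_centralizer_iff.1 inf_le_right)) ?_
  have h2 := card_mul_card_le_sup M (A ⊓ centralizer (M : Set G))
  have h3 : M ⊓ (A ⊓ centralizer (M : Set G)) = M ⊓ centralizer (A : Set G) := by
    rw [maxAb_centralizer_eq hA]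
    exact le_antisymm (inf_le_inf_left _ inf_le_left) (le_inf inf_le_left (le_inf inf_le_right
      (inf_le_left.trans ((isMulCommutative_iff_le_centralizer M).1 hM))))
  rw [h3] at h2
  exact Nat.le_of_mul_le_mul_right (h.trans h2) Nat.card_pos

end H99
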