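import Cfsg.Agent.H99.W2Base
import Cfsg.Agent.H53.WrJob1

/-! The wreathed case for `M₂₄`: translations. -/

set_option autoImplicit false
open Subgroup Cfsg H98 H1.Gold H53.Wr
open H99.Wr (El Cen AQ Dbl St1 dg In0)

universe u

namespace H99.W2

variable {G : Type u} [Group G] [Finite G] {t : G} {L O S E : Subgroup G}

theorem exists_move (hC : Cen t L O E) (hD : Dt L S E)
    (cls : ∀ A ≤ L, El A → Nat.card E ≤ Nat.card A → ∀ a ∈ A,
      (∀ n ∈ L, n ∈ nor A → n * a = a * n) → a = 1) :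
    ∃ g ∈ nor E, g * t * g⁻¹ * t ∈ E ∧ g * t ≠ t * g := by
  have ht := tt hC
  have hEL := hD.EL
  have htE : t ∈ cen E := centralizer_anti hEL hC.tL
  have htn : t ∈ nor E := centralizer_le_normalizer _ htE
  set F := FF t E ht htn with hF
  have hFel : El F := el_FF hD.el htE
  -- elements of `N(F)` move `t` inside `t E`
  have hth : ∀ g ∈ nor F, th t g ∈ E := fun g hg =>
    (conj_mem_of_mem_normalizer hg (t_mem_FF : t ∈ F)).resolve_left fun h => hC.nconj g (hEL h)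
  have hNF : L ⊓ nor E ≤ nor F := by
    rw [le_normalizer_iff]
    rintro n ⟨hn, hnE⟩ x (hx | hx)
    · exact Or.inl (conj_mem_of_mem_normalizer hnE hx)
    · refine Or.inr ?_
      have : n * x * n⁻¹ * t = n * (x * t) * n⁻¹ := by
        rw [mul_assoc (n * x), tcomm hC (inv_mem hn)]; group
      rw [this]; exact conj_mem_of_mem_normalizer hnE hx
  have hmove : ∃ g ∈ nor F, g * t ≠ t * g := by
    by_contra hno
    push Not at hno
    obtain ⟨g, e, he, he1, hg⟩ := hC.fus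
    set A := cj g⁻¹ F with hA
    have hAel : El A := fun a ha => by
      have h1 := hFel _ (mem_cj.mp ha)
      rw [inv_inv] at h1
      calc a * a = g⁻¹ * (g * a * g⁻¹ * (g * a * g⁻¹)) * g := by group
        _ = 1 := by rw [h1]; group
    have htA : t ∈ A := by
      rw [mem_cj, inv_inv, hg]
      refine Or.inr ?_
      rw [mul_assoc, cen_iff.mp htE e he, ← mul_assoc, ht, one_mul]; exact he
    have hAt : ∀ a ∈ A, a * t = t * a := fun a ha => H53.Wr.El.comm hAel ha htA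
    have hcard : 2 * Nat.card E ≤ Nat.card A := by
      rw [card_cj]; exact card_FF fun h => tnL hC (hEL h)
    have hsh : ∀ a ∈ A, a ∈ L ∨ a * t ∈ L := fun a ha =>
      inv_shape hC (hAel a ha) (hAt a ha)
        (hC.c3 A (fun a ha => cen1_iff.mpr (hAt a ha)) hAel htA hcard a ha)
    have hc2 := card_le_of_FF htA hsh
    have ht' : g⁻¹ * t * g⁻¹⁻¹ ∈ A := conj_mem_cj t_mem_FF
    have ha : g⁻¹ * t * g⁻¹⁻¹ * t ∈ A ⊓ L :=
      ⟨mul_mem ht' htA, (hsh _ ht').resolve_left (hC.nconj g⁻¹)⟩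
    have h1 := cls (A ⊓ L) inf_le_right (fun a ha => hAel a ha.1) (by omega) _ ha
      (fun n hn hnA => by
        have hnt := tcomm hC hn
        have hnA' : n ∈ nor A := by
          refine mem_normalizer_of_cj_le ?_
          rintro _ ⟨a, ha, rfl⟩
          show n * a * n⁻¹ ∈ A
          rcases hsh a ha with h | h
          · exact (conj_mem_of_mem_normalizer hnA (⟨ha, h⟩ : a ∈ A ⊓ L)).1
          · have h2 := (conj_mem_of_mem_normalizer hnA (⟨mul_mem ha htA, h⟩ : a * t ∈ A ⊓ L)).1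
            have : n * (a * t) * n⁻¹ = n * a * n⁻¹ * t := by
              rw [mul_assoc (n * a), tcomm hC (inv_mem hn)]; group
            rw [this] at h2
            exact (mul_mem_cancel_right htA).mp h2
        have hnA'' := (cj_normalizer g⁻¹ F).ge hnA'
        rw [mem_cj, inv_inv] at hnA''
        have h3 := hno _ hnA''
        calc n * (g⁻¹ * t * g⁻¹⁻¹ * t) = g⁻¹ * (g * n * g⁻¹ * t) * g * t := by group
          _ = g⁻¹ * t * g * (n * t) := by rw [h3]; group
          _ = _ := by rw [hnt]; group)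
    apply he1
    have h2 : g⁻¹ * t = t * g⁻¹ := (th_eq_one ht).mp h1
    have h3 : g * t * g⁻¹ = t := by rw [mul_assoc, ← h2, mul_inv_cancel_left]
    rw [h3] at hg
    exact left_eq_mul.mp hg
  obtain ⟨g, hg, hgt⟩ := hmove
  -- the core of `E` in `N(F)`
  let B : Subgroup G :=
    { carrier := {e | ∀ h ∈ nor F, h * e * h⁻¹ ∈ E}
      one_mem' := fun h _ => by simp
      mul_mem' := fun {a b} ha hb h hh => by
        have : h * (a * b) * h⁻¹ = h * a * h⁻¹ * (h * b * h⁻¹) := by group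
        rw [this]; exact mul_mem (ha h hh) (hb h hh)
      inv_mem' := fun {a} ha h hh => by
        have : h * a⁻¹ * h⁻¹ = (h * a * h⁻¹)⁻¹ := by group
        rw [this]; exact inv_mem (ha h hh) }
  have hBE : B ≤ E := fun e he => by simpa using he 1 (one_mem _)
  have hNB : L ⊓ nor E ≤ nor B := by
    rw [le_normalizer_iff]
    intro n hn e he h hh
    have : h * (n * e * n⁻¹) * h⁻¹ = (h * n) * e * (h * n)⁻¹ := by group
    rw [this]; exact he _ (mul_mem hh (hNF hn))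
  have hgB : th t g ∈ B := fun h hh => by
    have h1 := th_mul' (g := h) (h := g) ht
    have : h * th t g * h⁻¹ = th t (h * g) * (th t h)⁻¹ := by rw [h1]; group
    rw [this]; exact mul_mem (hth _ (mul_mem hh hg)) (inv_mem (hth _ hh))
  rcases hD.irr B hBE hNB with h | h
  · rw [h, mem_bot, th_eq_one ht] at hgB
    exact absurd hgB hgt
  · refine ⟨g, mem_normalizer_of_cj_le ?_, hth g hg, hgt⟩
    rintro _ ⟨e, he, rfl⟩
    exact (h.ge he) g hg

omit [Finite G] in
theorem kerE (hC : Cen t L O E) (hD : Dt L S E) (c : G) (hc : c ∈ cen E)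
    (h : c * t = t * c) : ∃ r ∈ E, ∃ o ∈ O, c = r * o ∨ c = r * t * o :=
  ker_shape hC hD.EL hD.cenE hc (hC.c2 c (cen1_iff.mpr h) ⟨1, one_mem _, by
    rw [cj_one, cj_eq_self (centralizer_le_normalizer _ hc)]⟩)

theorem exists_Q (hC : Cen t L O E) (hD : Dt L S E)
    (htr : ∃ g ∈ cen E, g * t * g⁻¹ * t ∈ E ∧ g * t ≠ t * g) :
    ∃ Q : Subgroup G, AQ t E Q ∧ L ⊓ nor E ≤ nor Q ∧ Q ≤ cen O ∧
      ∀ u ∈ cen E, th t u ∈ E → (∃ k, u ^ 2 ^ k = 1) → u ∈ Q := by
  have ht := tt hC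
  have hEL := hD.EL
  have htE : t ∈ cen E := centralizer_anti hEL hC.tL
  have htn : t ∈ nor E := centralizer_le_normalizer _ htE
  set U := UU t ht E with hU
  have hEO : E ≤ cen O := fun e he => cen_iff.mpr fun o ho => (ocomm hC (hEL he) ho).symm
  have htO : t ∈ cen O := cen_iff.mpr fun o ho => otcomm hC ho
  -- `U` normalises `O`
  have hUO : ∀ u ∈ U, ∀ o ∈ O, u * o * u⁻¹ ∈ O := by
    intro u hu o ho
    have hoE : o ∈ cen E := centralizer_anti hEL (hC.OL ho)
    have hoU : o ∈ U := mem_UU_of hoE (otcomm hC ho)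
    have h1 : th t (u * o * u⁻¹) = 1 := by
      rw [th_mul ht (mul_mem hu hoU).1 (inv_mem hu).2, th_mul ht hu.1 hoU.2,
        (th_eq_one ht).mpr (otcomm hC ho), th_inv ht hu.1 hu.2]; group
    obtain ⟨r, hr, o', ho', h⟩ := kerE hC hD _ (mul_mem (mul_mem hu.1 hoE) (inv_mem hu.1))
      ((th_eq_one ht).mp h1)
    have h2 : (u * o * u⁻¹) ^ Nat.card O = 1 := by rw [conj_pow, pow_card_of_mem ho]; group
    have key : ∀ x ∈ FF t E ht htn, u * o * u⁻¹ = x * o' → u * o * u⁻¹ ∈ O := fun x hx e => by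
      have hc : Commute x o' := (cen_iff.mp (FF_le hEO htO hx) o' ho').symm
      rw [e, hc.mul_pow, pow_card_of_mem ho', mul_one,
        pow_odd_of_sq (el_FF hD.el htE x hx) hC.odd] at h2
      rw [e, h2, one_mul]; exact ho'
    rcases h with h | h
    · exact key r (le_FF hr) h
    · exact key _ (mul_mem (le_FF hr) t_mem_FF) h
  set D := U ⊓ cen O with hDd
  have hND : ∀ n ∈ L ⊓ nor E, ∀ d ∈ D, n * d * n⁻¹ ∈ D := fun n hn d hd =>
    ⟨conj_mem_UU (tcomm hC hn.1) hn.2 hd.1, conj_mem_of_mem_normalizer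
      (normalizer_le_normalizer_centralizer O (hC.norO (cen1_iff.mpr (tcomm hC hn.1)))) hd.2⟩
  let T : Subgroup G :=
    { carrier := {e | ∃ d ∈ D, th t d = e}
      one_mem' := ⟨1, one_mem _, (th_eq_one ht).mpr (by simp)⟩
      mul_mem' := by
        rintro _ _ ⟨a, ha, rfl⟩ ⟨b, hb, rfl⟩
        exact ⟨b * a, mul_mem hb ha, th_mul ht hb.1.1 ha.1.2⟩
      inv_mem' := by
        rintro _ ⟨a, ha, rfl⟩
        exact ⟨a⁻¹, inv_mem ha, th_inv ht ha.1.1 ha.1.2⟩ }
  have hTE : T ≤ E := by rintro _ ⟨d, hd, rfl⟩; exact hd.1.2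
  have hNT : L ⊓ nor E ≤ nor T := by
    rw [le_normalizer_iff]
    rintro n hn _ ⟨d, hd, rfl⟩
    exact ⟨_, hND n hn d hd, th_conj (tcomm hC hn.1)⟩
  have hT : T = E := by
    refine (hD.irr T hTE hNT).resolve_left fun h => ?_
    obtain ⟨g, hg, hg1, hg2⟩ := htr
    have hgU : g ∈ U := ⟨hg, hg1⟩
    refine hg2 ((th_eq_one ht).mp (hD.fix _ hgU.2 fun n ⟨hn, hnE⟩ => ?_))
    have hn' := conj_mem_UU (ht := ht) (tcomm hC hn) hnE hgU
    have hd : g⁻¹ * (n * g * n⁻¹) ∈ D := by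
      refine ⟨U.mul_mem (U.inv_mem hgU) hn', cen_iff.mpr fun o ho => ?_⟩
      have h1 := ocomm hC (inv_mem hn) ho
      have h2 := ocomm hC hn (hUO g hgU o ho)
      calc o * (g⁻¹ * (n * g * n⁻¹)) = g⁻¹ * ((g * o * g⁻¹) * n) * g * n⁻¹ := by group
        _ = g⁻¹ * n * g * (o * n⁻¹) := by rw [← h2]; group
        _ = _ := by rw [← h1]; group
    have h3 : th t (g⁻¹ * (n * g * n⁻¹)) ∈ T := ⟨_, hd, rfl⟩
    rw [h, mem_bot, th_mul ht (inv_mem hg) hn'.2, th_inv ht hg hgU.2, th_conj (tcomm hC hn),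
      mul_inv_eq_one, mul_inv_eq_iff_eq_mul] at h3
    exact h3
  have hFD : FF t E ht htn ≤ D :=
    FF_le (fun e he => ⟨mem_UU_of (H53.Wr.El.le_cen hD.el he) (tcomm hC (hEL he)), hEO he⟩)
      ⟨mem_UU_of htE rfl, htO⟩
  obtain ⟨Q, hQ, hFQ⟩ := exists_isSyl_le (H53.Wr.El.two (el_FF hD.el htE)) hFD
  have hres : res 2 D ≤ cen1 t := by
    refine res_le_of_forall_pow fun d hd => ⟨1, ?_⟩
    rw [pow_one, pow_two, cen1_iff, ← th_eq_one ht, th_mul ht hd.1.1 hd.1.2]
    exact hD.el _ hd.1.2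
  have hsur : ∀ e ∈ E, ∃ q ∈ Q, th t q = e := fun e he => by
    obtain ⟨d, hd, rfl⟩ := hT.ge he
    obtain ⟨q, hq, r, hr, rfl⟩ := hQ.exists_mul_res hd
    refine ⟨q, hq, ?_⟩
    rw [th_mul ht (hQ.le hq).1.1 (res_le D hr).1.2, (th_eq_one ht).mpr (cen1_iff.mp (hres hr)),
      one_mul]
  have h2el : ∀ u ∈ U, (∃ k, u ^ 2 ^ k = 1) → u ∈ Q := fun u hu hk => by
    obtain ⟨q, hq, e⟩ := hsur _ hu.2
    have hqU := (hQ.le hq).1
    obtain ⟨r, hr, o, ho, h⟩ := kerE hC hD _ (mul_mem (inv_mem hqU.1) hu.1)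
      (comm_of_th_eq hqU hu e)
    have key : ∀ x ∈ Q, q⁻¹ * u = x * o → u ∈ Q := fun x hx e => by
      have e' : u = q * x * o := by rw [mul_assoc, ← e]; group
      have hqx := mul_mem hq hx
      have := odd_part_eq_one hC.odd ho (cen_iff.mp (hQ.le hqx).2 o ho)
        (isPGroup_iff_forall.mp hQ.isPGroup _ hqx) (e' ▸ hk)
      rw [e', this, mul_one]; exact hqx
    rcases h with h | h
    · exact key r (hFQ (le_FF hr)) h
    · exact key _ (hFQ (mul_mem (le_FF hr) t_mem_FF)) h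
  refine ⟨Q, ⟨hQ.isPGroup, hFQ t_mem_FF, le_FF.trans hFQ, fun q hq => (hQ.le hq).1.1,
    fun q hq => (hQ.le hq).1.2, hsur, fun q hq hqt => ?_⟩, ?_, fun q hq => (hQ.le hq).2,
    fun u h1 h2 => h2el u ⟨h1, h2⟩⟩
  · obtain ⟨r, hr, o, ho, h⟩ := kerE hC hD q (hQ.le hq).1.1 hqt
    have key : ∀ x ∈ Q, q = x * o → q = x := fun x hx e => by
      have := odd_part_eq_one hC.odd ho (cen_iff.mp (hQ.le hx).2 o ho)
        (isPGroup_iff_forall.mp hQ.isPGroup _ hx) (e ▸ isPGroup_iff_forall.mp hQ.isPGroup _ hq)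
      rw [e, this, mul_one]
    rcases h with h | h
    · left; rw [key r (hFQ (le_FF hr)) h]; exact hr
    · right
      rw [key _ (hFQ (mul_mem (le_FF hr) t_mem_FF)) h, mul_assoc, ht, mul_one]; exact hr
  · rw [le_normalizer_iff]
    intro n hn q hq
    refine h2el _ (hND n hn q (hQ.le hq)).1 ?_
    obtain ⟨k, hk⟩ := isPGroup_iff_forall.mp hQ.isPGroup _ hq
    exact ⟨k, by rw [conj_pow, hk]; group⟩

theorem st1_of (hC : Cen t L O E) (hD : Dt L S E) {Q E₁ : Subgroup G} (hQ : AQ t E Q)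
    (hQO : Q ≤ cen O) (hE₁ : E₁ ≤ Q) (hN : L ⊓ nor E ≤ nor E₁) (hdb : Dbl t E₁ E) :
    St1 t L O E E₁ := by
  have ht := tt hC
  have hEL := hD.EL
  have hus : ∀ g ∈ UU t ht E, ∃ w ∈ E₁ ⊔ cj t E₁, ∃ o ∈ O, g = w * o ∨ g = w * t * o :=
    fun g hg => UU_shape ht hdb (kerE hC hD) hg
  refine ⟨hdb, hN, hE₁.trans hQO, fun g hg h => hus g ⟨hg, h⟩, ?_⟩
  set W := E₁ ⊔ cj t E₁ with hW
  have hWel : El W := el_W hdb
  have htW : t ∈ nor W := t_nor_W ht E₁
  have htC : t ∈ nor (cen W) := normalizer_le_normalizer_centralizer W htW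
  have hWQ : W ≤ Q := sup_le hE₁ (cj_le_of_le_of_mem hE₁ hQ.tQ)
  have hQ'Q : FF t W ht htW ≤ Q := FF_le hWQ hQ.tQ
  have htn : t ∉ cen W := fun h => by
    have : E = ⊥ := by
      rw [eq_bot_iff]
      intro e he
      obtain ⟨a, ha, rfl⟩ := hdb.sur e he
      rw [mem_bot, dg, conj_of_cen h (mem_sup_left ha), hdb.el a ha]
    have h4 := hD.big
    rw [this, card_bot] at h4
    omega
  have hle : FF t W ht htW ≤ FF t (cen W) ht htC :=
    FF_le ((H53.Wr.El.le_cen hWel).trans le_FF) t_mem_FF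
  have hsyl : IsSyl 2 (FF t W ht htW) (FF t (cen W) ht htC) := by
    refine isSyl_of_isSyl_normalizer ⟨le_inf hle le_normalizer, hQ.two.to_le hQ'Q,
      fun P hP h1 h2 => le_antisymm ?_ h1⟩
    have key : ∀ x ∈ P, x ∈ cen W → x ∈ FF t W ht htW := fun x hx hxC => by
      have h3 : th t x ∈ W := by
        refine (conj_mem_of_mem_normalizer (h2 hx).2 t_mem_FF).resolve_left fun h => htn ?_
        have h4 := conj_of_cen (inv_mem hxC) h
        have h5 : x⁻¹ * (x * t * x⁻¹) * x⁻¹⁻¹ = t := by group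
        rw [h5] at h4
        rw [h4]; exact H53.Wr.El.le_cen hWel h
      have h4 : th t x ∈ E := by
        refine mem_of_sq ht hdb h3 ?_
        unfold th
        calc x * t * x⁻¹ * t * t * (x * t * x⁻¹ * t * t)
            = x * t * x⁻¹ * (t * t) * (x * t * x⁻¹ * (t * t)) := by group
          _ = x * t * x⁻¹ * (x * t * x⁻¹) := by rw [ht, mul_one]
          _ = x * (t * t) * x⁻¹ := by group
          _ = 1 := by rw [ht]; group
      obtain ⟨w, hw, o, ho, h⟩ := hus x ⟨centralizer_anti (le_W hdb) hxC, h4⟩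
      have key : ∀ y ∈ FF t W ht htW, x = y * o → x ∈ FF t W ht htW := fun y hy e => by
        have := odd_part_eq_one hC.odd ho (cen_iff.mp (hQO (hQ'Q hy)) o ho)
          (isPGroup_iff_forall.mp hQ.two _ (hQ'Q hy)) (e ▸ isPGroup_iff_forall.mp hP _ hx)
        rw [e, this, mul_one]; exact hy
      rcases h with h | h
      · exact key w (le_FF hw) h
      · exact key _ (mul_mem (le_FF hw) t_mem_FF) h
    intro y hy
    rcases (h2 hy).1 with h | h
    · exact key y hy h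
    · exact (mul_mem_cancel_right t_mem_FF).mp (key _ (mul_mem hy (h1 t_mem_FF)) h)
  have h1 := hsyl.inf_of_le_normalizer le_FF
    (FF_le ((H53.Wr.El.le_cen hWel).trans le_normalizer) htC)
  have h2 : FF t W ht htW ⊓ cen W = W := by
    refine le_antisymm ?_ (le_inf le_FF (H53.Wr.El.le_cen hWel))
    rintro x ⟨hx | hx, hxC⟩
    · exact hx
    · exact absurd (((cen W).mul_mem_cancel_left hxC).mp (H53.Wr.El.le_cen hWel hx)) htn
  rwa [h2] at h1

end H99.W2
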